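import Cfsg.Agent.Lib.Char.SmallCent.Card2520Setting
import Cfsg.Agent.Lib.Char.AlternatingPresentation
import Mathlib.GroupTheory.SpecificGroups.Alternating.Simple

/-!
# The simple group of order 2520 is the alternating group of degree seven

The normalizer of the element `a` of order three centralizing an involution `z` has order 72; it
supplies three of Carmichael's generators, and a conjugate of it the remaining one.
-/

set_option autoImplicit false
set_option linter.unusedSectionVars false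
set_option linter.style.haveILetI false

namespace CfsgLib.Char.SmallCent.AltSeven

open Subgroup CfsgLib.Block.Dihedral

universe u

variable {G : Type u} [Group G] [Finite G]

theorem mul_sq_one {c d : G} (hcd : Commute c d) (hc : c * c = 1) (hd : d * d = 1) :
    c * d * (c * d) = 1 := by
  rw [hcd.symm.mul_mul_mul_comm, hc, hd, one_mul]

theorem conj_mul_self {p q : G} (hp : p * p = 1) (hq : q * q = 1) : p * (p * q) * p⁻¹ = (p * q)⁻¹ := by
  rw [mul_inv_rev, inv_eq_of_mul_eq_one_right hp, inv_eq_of_mul_eq_one_right hq, ← mul_assoc, hp, one_mul]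

theorem braid_of_cube {B y : G} (hB : B * B = 1) (hy : y * y = 1) (h3 : (B * y) ^ 3 = 1) :
    B * y * B = y * B * y := by
  rw [pow_succ, pow_two] at h3
  have h4 : (B * y * B) * (y * B * y) = 1 := by rw [← h3]; group
  rw [eq_inv_of_mul_eq_one_left h4, mul_inv_rev, mul_inv_rev, inv_eq_of_mul_eq_one_right hy,
    inv_eq_of_mul_eq_one_right hB, mul_assoc]

/-- If `B` braids with two commuting involutions and with their product, it commutes with them. -/
theorem braid_collapse {A B C : G} (hBB : B * B = 1) (hAA : A * A = 1) (hCC : C * C = 1)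
    (hCA : C * A = A * C) (hA : (B * A) ^ 3 = 1) (hC : (B * C) ^ 3 = 1) (hAC : (B * (A * C)) ^ 3 = 1) :
    Commute B A := by
  have bA := braid_of_cube hBB hAA hA
  have bC := braid_of_cube hBB hCC hC
  have bAC := braid_of_cube hBB (mul_sq_one (show Commute A C from hCA.symm) hAA hCC) hAC
  have key : A * B * A * (C * B * C) = A * C * B * (A * C) := by
    rw [← bAC, ← bA, ← bC]
    rw [show B * A * B * (B * C * B) = B * A * (B * B) * C * B by group, hBB]
    group
  have key2 : B * A * C * B * C = C * B * A * C := by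
    have := congrArg (fun t => A * t) key
    simpa only [← mul_assoc, hAA, one_mul] using this
  have key3 : A * C * B * C = C * B * A := by
    have e5 : B * (A * C * B * C) = B * (C * B * A) := by
      rw [show B * (A * C * B * C) = B * A * C * B * C by group, key2,
        show C * B * A * C = C * B * (A * C) by group, ← hCA,
        show C * B * (C * A) = (C * B * C) * A by group, ← bC]
      group
    exact mul_left_cancel e5
  have key4 : A * B * C = B * A := by
    have e5 : C * (A * B * C) = C * (B * A) := by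
      rw [show C * (A * B * C) = (C * A) * B * C by group, hCA, key3]
      group
    exact mul_left_cancel e5
  have key5 : C = A * B := by
    have e5 : (A * B) * C = (A * B) * (A * B) := by
      rw [key4, show A * B * (A * B) = (A * B * A) * B by group, ← bA, mul_assoc, hBB, mul_one]
    exact mul_left_cancel e5
  have hB : B = A * C := by rw [key5, ← mul_assoc, hAA, one_mul]
  rw [hB]
  exact (Commute.refl A).mul_left (show Commute C A from hCA)

/-- The four-group of the frame. -/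
def V (σ τ : G) : Set G := {1, σ ^ 2, τ, τ * σ ^ 2}

/-- The setting, with the element of order three. -/
structure Seven (P : Sylow 2 G) (σ τ a : G) : Prop where
  T : Setting P σ τ
  card : Nat.card G = 2520
  fix : Nat.card (Wf σ τ) = 3
  fix' : Nat.card (Wf σ (τ * σ)) = 1
  mema : a ∈ Wf σ τ
  orda : orderOf a = 3

theorem exists_seven [IsSimpleGroup G] (h : Nat.card G = 2520) :
    ∃ (P : Sylow 2 G) (σ τ a : G), Seven P σ τ a := by
  haveI : Fact (Nat.Prime 3) := ⟨Nat.prime_three⟩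
  obtain ⟨P, σ, τ, T, hm, hn⟩ := C2520.exists_setting h
  obtain ⟨a, ha⟩ := exists_prime_orderOf_dvd_card' (G := Wf σ τ) 3 (by rw [hm])
  exact ⟨P, σ, τ, a, T, h, hm, hn, a.2, by rw [Subgroup.orderOf_coe, ha]⟩

namespace Seven

variable [IsSimpleGroup G] {P : Sylow 2 G} {σ τ a : G} (S : Seven P σ τ a)
include S

theorem W_eq : W σ = zpowers a := by
  refine (eq_of_le_of_card_ge (zpowers_le.2 S.mema.1) ?_).symm
  rw [S.T.card_W, S.fix, S.fix', Nat.card_zpowers, S.orda]

theorem card_cz : Nat.card (centralizer ({σ ^ 2} : Set G)) = 24 := by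
  rw [S.T.card_centralizer_z, S.T.card_W, S.fix, S.fix']

theorem za : Commute a (σ ^ 2) := S.T.commute_z S.mema.1

theorem τa : Commute a τ := mem_centralizer_singleton_iff.1 S.mema.2

theorem a_ne : a ≠ 1 := fun e => by
  have := S.orda
  rw [e, orderOf_one] at this
  norm_num at this

theorem a_cube : a ^ 3 = 1 := by rw [← S.orda]; exact pow_orderOf_eq_one a

theorem mem_a {w : G} (hw : w ∈ zpowers a) : w = 1 ∨ w = a ∨ w = a⁻¹ := by
  obtain ⟨i, hi⟩ := mem_powers_iff_mem_zpowers.2 hw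
  have hi' : a ^ i = w := hi
  rw [← hi', ← pow_mod_orderOf, S.orda]
  rcases (show i % 3 = 0 ∨ i % 3 = 1 ∨ i % 3 = 2 by omega) with e | e | e <;> rw [e]
  · exact Or.inl (pow_zero a)
  · exact Or.inr (Or.inl (pow_one a))
  · refine Or.inr (Or.inr (eq_inv_of_mul_eq_one_left ?_))
    rw [← pow_succ]; exact S.a_cube

theorem odd_commute {w : G} (hw : w ^ 3 = 1) (hc : Commute w (σ ^ 2)) : w ∈ zpowers a := by
  rw [← S.W_eq, S.T.mem_W]
  refine ⟨hc, fun h => ?_⟩
  have h3 := h.trans (orderOf_dvd_of_pow_eq_one hw)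
  norm_num at h3

/-- A nontrivial element of order three commuting with an involution generates the others. -/
theorem unique_three {u w w' : G} (hu : orderOf u = 2) (hw : w ^ 3 = 1) (hw' : w' ^ 3 = 1)
    (hne : w' ≠ 1) (hcw : Commute w u) (hcw' : Commute w' u) : w ∈ zpowers w' := by
  obtain ⟨g, hg⟩ := isConj_iff.1 (S.T.conj u (σ ^ 2) hu S.T.orderOf_z)
  have key : ∀ {v : G}, v ^ 3 = 1 → Commute v u → g * v * g⁻¹ ∈ zpowers a := fun {v} hv hc => by
    refine S.odd_commute (by rw [conj_pow, hv, mul_one, mul_inv_cancel]) ?_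
    rw [← hg]
    exact hc.map (MulAut.conj g).toMonoidHom
  haveI : Fact (Nat.Prime 3) := ⟨Nat.prime_three⟩
  have h1 := mem_zpowers_of_prime_card (g := (⟨g * w' * g⁻¹, key hw' hcw'⟩ : zpowers a))
    (g' := ⟨g * w * g⁻¹, key hw hcw⟩) (by rw [Nat.card_zpowers, S.orda])
    (fun e => hne (conj_eq_one_iff.1 (congrArg Subtype.val e)))
  obtain ⟨n, hn⟩ := mem_zpowers_iff.1 h1
  have hn' : (g * w' * g⁻¹) ^ n = g * w * g⁻¹ := by simpa using congrArg Subtype.val hn
  rw [conj_zpow] at hn'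
  exact mem_zpowers_iff.2 ⟨n, mul_left_cancel (mul_right_cancel hn')⟩

/-! ### the four-group -/

theorem z_ne : σ ^ 2 ≠ 1 := S.T.frame.sigma_h_ne

theorem τ_ne : τ ≠ 1 := fun e => S.T.frame.refl_not_rot 0 0 (by simpa using e)

theorem τ_ne_z : τ ≠ σ ^ 2 := fun e => S.T.frame.refl_not_rot 0 2 (by simpa using e)

theorem τz_ne : τ * σ ^ 2 ≠ 1 := fun e => S.T.frame.refl_not_rot 2 0 (by simpa using e)

theorem τz_ne_z : τ * σ ^ 2 ≠ σ ^ 2 := fun e => S.τ_ne (mul_eq_right.1 e)

theorem τz_ne_τ : τ * σ ^ 2 ≠ τ := fun e => S.z_ne (mul_eq_left.1 e)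

theorem zτ : Commute τ (σ ^ 2) := S.T.frame.J_comm S.T.frame.memτ

theorem V_commute {u v : G} (hu : u ∈ V σ τ) (hv : v ∈ V σ τ) : Commute u v := by
  have h1 := S.zτ
  have h2 : Commute (τ * σ ^ 2) (σ ^ 2) := h1.mul_left (Commute.refl _)
  have h3 : Commute τ (τ * σ ^ 2) := (Commute.refl τ).mul_right h1
  simp only [V, Set.mem_insert_iff, Set.mem_singleton_iff] at hu hv
  rcases hu with rfl | rfl | rfl | rfl <;> rcases hv with rfl | rfl | rfl | rfl <;>
    first
      | exact Commute.one_left _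
      | exact Commute.one_right _
      | exact Commute.refl _
      | exact h1
      | exact h1.symm
      | exact h2
      | exact h2.symm
      | exact h3
      | exact h3.symm

theorem V_a {u : G} (hu : u ∈ V σ τ) : Commute a u := by
  simp only [V, Set.mem_insert_iff, Set.mem_singleton_iff] at hu
  rcases hu with rfl | rfl | rfl | rfl
  exacts [Commute.one_right _, S.za, S.τa, S.τa.mul_right S.za]

theorem V_sq {u : G} (hu : u ∈ V σ τ) : u * u = 1 := by
  simp only [V, Set.mem_insert_iff, Set.mem_singleton_iff] at hu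
  rcases hu with rfl | rfl | rfl | rfl
  · exact one_mul 1
  · exact S.T.z_sq
  · exact S.T.frame.sqτ
  · rw [mul_assoc, ← mul_assoc (σ ^ 2), ← S.zτ.eq, mul_assoc, S.T.z_sq, mul_one, S.T.frame.sqτ]

theorem V_order {u : G} (hu : u ∈ V σ τ) (hu1 : u ≠ 1) : orderOf u = 2 :=
  orderOf_eq_prime (by rw [pow_two]; exact S.V_sq hu) hu1

theorem V_prod {u v r : G} (hu : u ∈ V σ τ) (hv : v ∈ V σ τ) (hr : r ∈ V σ τ) (hu1 : u ≠ 1) (hv1 : v ≠ 1)
    (hr1 : r ≠ 1) (huv : u ≠ v) (hur : u ≠ r) (hvr : v ≠ r) : u * v * r = 1 := by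
  have h1 : σ ^ 2 * σ ^ 2 = 1 := S.T.z_sq
  have h2 : τ * τ = 1 := S.T.frame.sqτ
  have h3 : σ ^ 2 * τ = τ * σ ^ 2 := S.zτ.eq.symm
  have h1' : ∀ r, σ ^ 2 * (σ ^ 2 * r) = r := fun r => by rw [← mul_assoc, h1, one_mul]
  have h2' : ∀ r, τ * (τ * r) = r := fun r => by rw [← mul_assoc, h2, one_mul]
  have h3' : ∀ r, σ ^ 2 * (τ * r) = τ * (σ ^ 2 * r) := fun r => by rw [← mul_assoc, h3, mul_assoc]
  simp only [V, Set.mem_insert_iff, Set.mem_singleton_iff] at hu hv hr
  rcases hu with rfl | rfl | rfl | rfl <;> rcases hv with rfl | rfl | rfl | rfl <;>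
    rcases hr with rfl | rfl | rfl | rfl <;>
    first
      | exact absurd rfl hu1
      | exact absurd rfl hv1
      | exact absurd rfl hr1
      | exact absurd rfl huv
      | exact absurd rfl hur
      | exact absurd rfl hvr
      | simp [mul_assoc, h1, h2, h3, h1', h2', h3']

theorem conjσa : σ * a * σ⁻¹ = a⁻¹ := S.T.conjσ S.mema.1

theorem xa : (τ * σ) * a * (τ * σ)⁻¹ = a⁻¹ := by
  rw [show (τ * σ) * a * (τ * σ)⁻¹ = τ * (σ * a * σ⁻¹) * τ⁻¹ by group, S.conjσa]
  exact mul_inv_eq_iff_eq_mul.2 S.τa.inv_left.eq.symm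

theorem xx : (τ * σ) * (τ * σ) = 1 := by simpa using S.T.frame.refl_sq 1

theorem x_inv : (τ * σ)⁻¹ = τ * σ := inv_eq_of_mul_eq_one_right S.xx

theorem xz : Commute (τ * σ) (σ ^ 2) := S.zτ.mul_left S.T.commute_σ

theorem xτ : (τ * σ) * τ * (τ * σ)⁻¹ = τ * σ ^ 2 := by
  rw [show (τ * σ) * τ * (τ * σ)⁻¹ = τ * (σ * τ * σ⁻¹) * τ⁻¹ by group, S.T.conjσ_τ]
  exact mul_inv_eq_iff_eq_mul.2 (by rw [mul_assoc τ (σ ^ 2) τ, ← S.zτ.eq])

theorem x_swap {u : G} (hu : u ∈ V σ τ) (hu1 : u ≠ 1) (huz : u ≠ σ ^ 2) :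
    (τ * σ) * u * (τ * σ)⁻¹ = u * σ ^ 2 := by
  simp only [V, Set.mem_insert_iff, Set.mem_singleton_iff] at hu
  rcases hu with rfl | rfl | rfl | rfl
  · exact absurd rfl hu1
  · exact absurd rfl huz
  · exact S.xτ
  · rw [show (τ * σ) * (τ * σ ^ 2) * (τ * σ)⁻¹ =
      ((τ * σ) * τ * (τ * σ)⁻¹) * ((τ * σ) * σ ^ 2 * (τ * σ)⁻¹) by group, S.xτ,
      mul_inv_eq_iff_eq_mul.2 S.xz.eq]

/-! ### centralizer and normalizer of `a` -/

theorem pair_le : centralizer ({σ ^ 2, τ} : Set G) ≤ centralizer ({a} : Set G) := by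
  intro y hy
  have hyz : Commute y (σ ^ 2) := ((Subgroup.mem_centralizer_iff.1 hy) _ (Set.mem_insert _ _)).symm
  have hyτ : Commute y τ := ((Subgroup.mem_centralizer_iff.1 hy) _ (Set.mem_insert_of_mem _ rfl)).symm
  obtain ⟨p, hp, v, hv, e⟩ := S.T.exists_decomp hyz
  have h1 : (τ * p * τ⁻¹) * (τ * v * τ⁻¹) = p * v := by
    rw [show τ * p * τ⁻¹ * (τ * v * τ⁻¹) = τ * (p * v) * τ⁻¹ by group, ← e]
    exact mul_inv_eq_iff_eq_mul.2 hyτ.eq.symm
  have D := S.T.frame
  obtain ⟨h2, -⟩ := S.T.decomp_unique (mul_mem (mul_mem D.memτ hp) (inv_mem D.memτ)) hp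
    (S.T.conj_mem S.zτ hv) hv h1
  have hpa : Commute p a := (S.V_a (by
    simpa [V] using S.T.mem_four hp h2)).symm
  rw [e]
  exact mem_centralizer_singleton_iff.2 (hpa.mul_left (S.T.W_comm hv S.mema.1)).eq

theorem card_sylow_three (Q : Sylow 3 G) : Nat.card (Q : Subgroup G) = 9 := by
  haveI : Fact (Nat.Prime 3) := ⟨Nat.prime_three⟩
  obtain ⟨k, hk⟩ := IsPGroup.iff_card.1 Q.2
  have h1 := (Q : Subgroup G).card_mul_index
  rw [hk, S.card] at h1
  have h2 := Q.not_dvd_index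
  rw [hk]
  rcases Nat.lt_or_ge k 3 with hlt | hge
  · interval_cases k <;> omega
  · exfalso
    have h3 : 3 ^ 3 ∣ 2520 := ⟨3 ^ (k - 3) * (Q : Subgroup G).index, by
      rw [← mul_assoc, ← pow_add, show 3 + (k - 3) = k by omega, h1]⟩
    omega

theorem sylow_three_comm (Q : Sylow 3 G) : IsMulCommutative (Q : Subgroup G) := by
  haveI : Fact (Nat.Prime 3) := ⟨Nat.prime_three⟩
  exact IsPGroup.isMulCommutative_of_card_eq_prime_sq (p := 3) (by rw [S.card_sylow_three Q]; norm_num)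

theorem exists_sylow : ∃ Q : Sylow 3 G, a ∈ (Q : Subgroup G) ∧
    (Q : Subgroup G) ≤ centralizer ({a} : Set G) := by
  haveI : Fact (Nat.Prime 3) := ⟨Nat.prime_three⟩
  obtain ⟨Q, hQ⟩ := (IsPGroup.of_card (n := 1) (by rw [Nat.card_zpowers, S.orda, pow_one]) :
    IsPGroup 3 (zpowers a)).exists_le_sylow
  have ha : a ∈ (Q : Subgroup G) := hQ (mem_zpowers a)
  haveI := S.sylow_three_comm Q
  exact ⟨Q, ha, fun y hy => mem_centralizer_singleton_iff.2
    (congrArg Subtype.val (mul_comm' (⟨y, hy⟩ : (Q : Subgroup G)) ⟨a, ha⟩))⟩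

theorem card_Y : Nat.card (centralizer ({a} : Set G)) = 36 := by
  classical
  haveI : Fact (Nat.Prime 2) := ⟨Nat.prime_two⟩
  set Y := centralizer ({a} : Set G)
  have h72 : Nat.card Y ∣ 72 := C2520.dvd_seventy_two S.card S.a_ne S.a_cube (by norm_num) Y
    fun y hy => mem_centralizer_singleton_iff.1 hy
  have h12 : 12 ∣ Nat.card Y := by
    have h1 := card_dvd_of_le S.pair_le
    rw [S.T.card_centralizer_pair, S.fix] at h1
    exact h1
  obtain ⟨Q, -, hQY⟩ := S.exists_sylow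
  have h9 : 9 ∣ Nat.card Y := S.card_sylow_three Q ▸ card_dvd_of_le hQY
  have h36 : 36 ∣ Nat.card Y := (show 36 ∣ Nat.lcm 12 9 by decide).trans (Nat.lcm_dvd h12 h9)
  by_contra hne
  have h8 : 2 ^ 3 ∣ Nat.card Y := by
    obtain ⟨r, hr⟩ := h36
    rw [hr] at h72 hne ⊢
    have hle := Nat.le_of_dvd (by norm_num) h72
    obtain rfl : r = 2 := by
      rcases Nat.eq_zero_or_pos r with rfl | hpos
      · simp at h72
      · omega
    norm_num
  obtain ⟨R, hR⟩ := Sylow.exists_subgroup_card_pow_prime (G := Y) 2 (n := 3) h8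
  have hRG : Nat.card (R.map Y.subtype) = 2 ^ 3 := by
    rw [card_map_of_injective Y.subtype_injective, hR]
  obtain ⟨R', hR'⟩ := (IsPGroup.of_card hRG).exists_le_sylow
  have heq : R.map Y.subtype = (R' : Subgroup G) :=
    eq_of_le_of_card_ge hR' (by rw [hRG, C2520.card_sylow_two S.card R']; norm_num)
  obtain ⟨g, hg⟩ := MulAction.exists_smul_eq G P R'
  have hc : Commute (g⁻¹ * a * g) σ := by
    have hmem : g * σ * g⁻¹ ∈ R.map Y.subtype := by
      rw [heq, ← hg]
      exact Subgroup.smul_mem_pointwise_smul σ (MulAut.conj g) (P : Subgroup G) S.T.frame.memσ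
    obtain ⟨r, -, hr⟩ := hmem
    have h1 : Commute a (g * σ * g⁻¹) := by
      rw [← hr]; exact (mem_centralizer_singleton_iff.1 r.2).symm
    simpa [mul_assoc] using h1.map (MulAut.conj g⁻¹).toMonoidHom
  have hd : orderOf (g⁻¹ * a * g) ∣ Nat.card (centralizer ({σ} : Set G)) := by
    rw [← Subgroup.orderOf_mk (H := centralizer ({σ} : Set G)) _ (mem_centralizer_singleton_iff.2 hc.eq)]
    exact _root_.orderOf_dvd_natCard _
  rw [S.T.cardσ, show orderOf (g⁻¹ * a * g) = orderOf (MulAut.conj g⁻¹ a) by simp,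
    MulEquiv.orderOf_eq, S.orda] at hd
  norm_num at hd

theorem conj_a {g : G} (hg : g ∈ normalizer (zpowers a : Set G)) : g * a * g⁻¹ = a ∨ g * a * g⁻¹ = a⁻¹ :=
  (S.mem_a ((Subgroup.mem_normalizer_iff.1 hg a).1 (mem_zpowers a))).resolve_left
    fun e => S.a_ne (conj_eq_one_iff.1 e)

theorem mem_normalizer_of_pm {g : G} (h : g * a * g⁻¹ = a ∨ g * a * g⁻¹ = a⁻¹) :
    g ∈ normalizer (zpowers a : Set G) := by
  refine mem_normalizer_of_conj fun y hy => ?_
  obtain ⟨n, rfl⟩ := mem_zpowers_iff.1 hy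
  rw [← conj_zpow]
  rcases h with e | e <;> rw [e]
  · exact zpow_mem_zpowers a n
  · exact zpow_mem (inv_mem (mem_zpowers a)) n

theorem card_N : Nat.card (normalizer (zpowers a : Set G)) = 72 := by
  classical
  set N := normalizer (zpowers a : Set G)
  have hYN : centralizer ({a} : Set G) ≤ N := fun y hy => S.mem_normalizer_of_pm
    (Or.inl (mul_inv_eq_iff_eq_mul.2 (mem_centralizer_singleton_iff.1 hy)))
  have h36 : 36 ∣ Nat.card N := S.card_Y ▸ card_dvd_of_le hYN
  have hne : Nat.card N ≠ 36 := by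
    intro e
    have hmem : σ ∈ centralizer ({a} : Set G) := by
      rw [eq_of_le_of_card_ge hYN (by rw [e, S.card_Y])]
      exact S.mem_normalizer_of_pm (Or.inr S.conjσa)
    have h1 : σ * a * σ⁻¹ = a := mul_inv_eq_iff_eq_mul.2 (mem_centralizer_singleton_iff.1 hmem)
    rw [S.conjσa] at h1
    have h2 : a ^ 2 = 1 := by rw [pow_two]; nth_rewrite 1 [← h1]; exact inv_mul_cancel a
    have h3 := orderOf_dvd_of_pow_eq_one h2
    rw [S.orda] at h3
    norm_num at h3
  have hno : ∀ q, (q = 5 ∨ q = 7) → ¬ q ∣ Nat.card N := by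
    intro q hq hd
    haveI : Fact q.Prime := ⟨by rcases hq with rfl | rfl <;> norm_num⟩
    obtain ⟨y, hy⟩ := exists_prime_orderOf_dvd_card' q hd
    rw [← Subgroup.orderOf_coe] at hy
    have ho : orderOf ((y : G) ^ 2) = q := by
      rw [Nat.Coprime.orderOf_pow, hy]
      rw [hy]; rcases hq with rfl | rfl <;> norm_num
    have hc : (y : G) ^ 2 * a * ((y : G) ^ 2)⁻¹ = a := by
      rw [show (y : G) ^ 2 * a * ((y : G) ^ 2)⁻¹ = y * (y * a * (y : G)⁻¹) * (y : G)⁻¹ by
        rw [pow_two]; group]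
      rcases S.conj_a y.2 with e | e
      · rw [e, e]
      · rw [e, show (y : G) * a⁻¹ * (y : G)⁻¹ = (y * a * (y : G)⁻¹)⁻¹ by group, e, inv_inv]
    exact S.a_ne (C2520.eq_one_of_commute S.card (by rwa [ho]) (mul_inv_eq_iff_eq_mul.1 hc) S.a_cube
      (by norm_num))
  obtain ⟨r, hr⟩ := h36
  have h2520 : 36 * r ∣ 36 * 70 := hr ▸ (Subgroup.card_subgroup_dvd_card N).trans (by rw [S.card])
  have hr2 : r ∣ 2 := by
    refine Nat.Coprime.dvd_of_dvd_mul_right ?_
      (show r ∣ 2 * 35 from Nat.dvd_of_mul_dvd_mul_left (by norm_num) h2520)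
    rw [show (35 : ℕ) = 5 * 7 from rfl]
    exact Nat.Coprime.mul_right
      (((Nat.Prime.coprime_iff_not_dvd (by norm_num)).2 fun hd => hno 5 (Or.inl rfl) (hr ▸ hd.mul_left 36)).symm)
      (((Nat.Prime.coprime_iff_not_dvd (by norm_num)).2 fun hd => hno 7 (Or.inr rfl) (hr ▸ hd.mul_left 36)).symm)
  rcases (Nat.dvd_prime Nat.prime_two).1 hr2 with e | e <;> subst e <;> omega

/-- The involutions commuting with `a`. -/
theorem mem_V {u : G} (hua : Commute u a) (hu : u * u = 1) : u ∈ V σ τ := by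
  classical
  haveI : Fact (Nat.Prime 3) := ⟨Nat.prime_three⟩
  set Y := centralizer ({a} : Set G)
  obtain ⟨Q, haQ, hQY⟩ := S.exists_sylow
  haveI := S.sylow_three_comm Q
  set Q' := Q.subtype hQY
  have hQ' : Nat.card (Q' : Subgroup Y) = 9 :=
    (Nat.card_congr (subgroupOfEquivOfLe hQY).toEquiv).trans (S.card_sylow_three Q)
  have hnot : Nat.card (Sylow 3 Y) ≠ 1 := by
    intro h1
    have hnorm : normalizer ((Q' : Subgroup Y) : Set Y) = ⊤ := by
      rw [← index_eq_one]; rwa [Q'.card_eq_index_normalizer] at h1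
    obtain ⟨q, hq, hqa⟩ : ∃ q ∈ (Q : Subgroup G), q ∉ zpowers a := by
      by_contra hcon
      push Not at hcon
      have := Subgroup.card_le_of_le (H := (Q : Subgroup G)) (K := zpowers a) hcon
      rw [S.card_sylow_three Q, Nat.card_zpowers, S.orda] at this
      omega
    have hQc : ∀ y ∈ (Q : Subgroup G), ∀ y' ∈ (Q : Subgroup G), Commute y y' := fun y hy y' hy' =>
      congrArg Subtype.val (mul_comm' (⟨y, hy⟩ : (Q : Subgroup G)) ⟨y', hy'⟩)
    have hconjQ : ∀ v ∈ V σ τ, ∀ y ∈ (Q : Subgroup G), v * y * v⁻¹ ∈ (Q : Subgroup G) := by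
      intro v hv y hy
      have hvY : v ∈ Y := mem_centralizer_singleton_iff.2 (S.V_a hv).eq.symm
      have hn : (⟨v, hvY⟩ : Y) ∈ normalizer ((Q' : Subgroup Y) : Set Y) := hnorm ▸ mem_top _
      exact (Subgroup.mem_normalizer_iff.1 hn ⟨y, hQY hy⟩).1 hy
    have hq3 : ∀ y ∈ (Q : Subgroup G), y * y = 1 → y = 1 := by
      intro y hy hy2
      have h9 : (⟨y, hy⟩ : (Q : Subgroup G)) ^ 9 = 1 := S.card_sylow_three Q ▸ pow_card_eq_one'
      have h9' : y ^ 9 = 1 := by simpa using congrArg Subtype.val h9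
      exact orderOf_eq_one_iff.1 (Nat.eq_one_of_dvd_coprimes (by norm_num : Nat.Coprime 9 2)
        (orderOf_dvd_of_pow_eq_one h9') (orderOf_dvd_of_pow_eq_one (by rw [pow_two]; exact hy2)))
    -- each involution of the four-group inverts `q` modulo `a`
    have key : ∀ v ∈ V σ τ, v ≠ 1 → q * (v * q * v⁻¹) ∈ zpowers a := by
      intro v hv hv1
      have hQ2 : q * (v * q * v⁻¹) ∈ (Q : Subgroup G) := mul_mem hq (hconjQ v hv q hq)
      have hc : Commute (q * (v * q * v⁻¹)) v := by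
        have hvv := S.V_sq hv
        have e : v * (q * (v * q * v⁻¹)) * v⁻¹ = q * (v * q * v⁻¹) := by
          rw [show v * (q * (v * q * v⁻¹)) * v⁻¹ = (v * q * v⁻¹) * ((v * v) * q * (v * v)⁻¹) by group,
            hvv, one_mul, inv_one, mul_one]
          exact (hQc _ (hconjQ v hv q hq) _ hq).eq
        exact (mul_inv_eq_iff_eq_mul.1 e).symm
      obtain ⟨j, hj, e⟩ := (Nat.dvd_prime_pow Nat.prime_three).1
        (show orderOf (q * (v * q * v⁻¹)) ∣ 3 ^ 2 by
          rw [show (3 : ℕ) ^ 2 = Nat.card (Q : Subgroup G) by rw [S.card_sylow_three Q]; norm_num,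
            ← Subgroup.orderOf_mk (H := (Q : Subgroup G)) _ hQ2]
          exact _root_.orderOf_dvd_natCard _)
      rcases Nat.lt_or_ge j 2 with hj2 | hj2
      · refine S.unique_three (S.V_order hv hv1) ?_ S.a_cube S.a_ne hc (S.V_a hv)
        refine orderOf_dvd_iff_pow_eq_one.1 (e ▸ ?_)
        interval_cases j <;> norm_num
      · exfalso
        set y := q * (v * q * v⁻¹)
        have h3 : y ^ 3 ∈ zpowers a := S.unique_three (S.V_order hv hv1)
          (by rw [← pow_mul]; exact orderOf_dvd_iff_pow_eq_one.1 (e ▸ pow_dvd_pow 3 hj)) S.a_cube S.a_ne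
          (hc.pow_left 3) (S.V_a hv)
        obtain ⟨g, hg⟩ := isConj_iff.1 (S.T.conj v (σ ^ 2) (S.V_order hv hv1) S.T.orderOf_z)
        have hgy : g * y * g⁻¹ ∈ W σ := by
          refine S.T.mem_W.2 ⟨by rw [← hg]; exact hc.map (MulAut.conj g).toMonoidHom, fun h2 => ?_⟩
          rw [show g * y * g⁻¹ = MulAut.conj g y from rfl, MulEquiv.orderOf_eq, e,
            show j = 2 by omega] at h2
          norm_num at h2
        have hd : orderOf (g * y * g⁻¹) ∣ 3 := by
          rw [S.W_eq] at hgy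
          rw [← S.orda]
          obtain ⟨n, hn⟩ := mem_powers_iff_mem_zpowers.2 hgy
          rw [← show a ^ n = _ from hn]
          exact orderOf_pow_dvd n
        rw [show g * y * g⁻¹ = MulAut.conj g y from rfl, MulEquiv.orderOf_eq, e,
          show j = 2 by omega] at hd
        norm_num at hd
    have hzV : σ ^ 2 ∈ V σ τ := by simp [V]
    have hτV : τ ∈ V σ τ := by simp [V]
    have hτzV : τ * σ ^ 2 ∈ V σ τ := by simp [V]
    have k1 := key _ hzV S.z_ne
    have k2 := key _ hτV S.τ_ne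
    have k3 := key _ hτzV S.τz_ne
    -- so `q * q` lies in `⟨a⟩`
    have hqq : q * q ∈ zpowers a := by
      set i := q * (σ ^ 2 * q * (σ ^ 2)⁻¹)
      have hi : τ * i * τ⁻¹ = i := by
        rcases S.mem_a k1 with e | e | e <;> rw [e]
        · group
        · exact mul_inv_eq_iff_eq_mul.2 S.τa.eq.symm
        · exact mul_inv_eq_iff_eq_mul.2 S.τa.inv_left.eq.symm
      have hQi : ∀ y ∈ (Q : Subgroup G), Commute q y := fun y hy => hQc q hq y hy
      have e1 : τ * σ ^ 2 * q * (τ * σ ^ 2)⁻¹ = (τ * q * τ⁻¹)⁻¹ * i := by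
        conv_rhs => rw [← hi]
        simp only [i]; group
      rw [e1] at k3
      have e2 : q * ((τ * q * τ⁻¹)⁻¹ * i) = (q * q) * (q * (τ * q * τ⁻¹))⁻¹ * i := by
        have hc1 := (hQi _ (hconjQ τ hτV q hq)).eq
        rw [show (q * (τ * q * τ⁻¹))⁻¹ = q⁻¹ * (τ * q * τ⁻¹)⁻¹ by rw [hc1, mul_inv_rev]]
        group
      rw [e2] at k3
      have := mul_mem (mul_mem k3 (inv_mem k1)) k2
      simpa [i, mul_assoc] using this
    have hq9 : q ^ 9 = 1 := by
      have h9 : (⟨q, hq⟩ : (Q : Subgroup G)) ^ 9 = 1 := S.card_sylow_three Q ▸ pow_card_eq_one'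
      simpa using congrArg Subtype.val h9
    have h10 : (q * q) ^ 5 = q := by
      rw [← pow_two, ← pow_mul, show 2 * 5 = 9 + 1 by norm_num, pow_succ, hq9, one_mul]
    exact hqa (h10 ▸ pow_mem hqq 5)
  have hnc : normalizer ((Q' : Subgroup Y) : Set Y) ≤ centralizer ((Q' : Subgroup Y) : Set Y) := by
    have h1 := card_sylow_modEq_one 3 Y
    have h2 : Nat.card (Sylow 3 Y) * Nat.card (normalizer ((Q' : Subgroup Y) : Set Y)) = Nat.card Y := by
      rw [Q'.card_eq_index_normalizer]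
      exact (normalizer ((Q' : Subgroup Y) : Set Y)).index_mul_card
    have h3 : Nat.card (Q' : Subgroup Y) ∣ Nat.card (normalizer ((Q' : Subgroup Y) : Set Y)) :=
      card_dvd_of_le le_normalizer
    obtain ⟨r, hr⟩ := h3
    rw [hQ'] at hr
    rw [hr, show Nat.card Y = 36 from S.card_Y] at h2
    have heq : normalizer ((Q' : Subgroup Y) : Set Y) = (Q' : Subgroup Y) := by
      refine (eq_of_le_of_card_ge le_normalizer ?_).symm
      rw [hQ', hr]
      have hr4 : Nat.card (Sylow 3 Y) * r = 4 := by nlinarith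
      have hle : Nat.card (Sylow 3 Y) ≤ 4 := Nat.le_of_dvd (by norm_num) ⟨r, hr4.symm⟩
      generalize Nat.card (Sylow 3 Y) = c at *
      interval_cases c <;> simp_all [Nat.ModEq] <;> omega
    rw [heq]
    exact fun g hg => Subgroup.mem_centralizer_iff.2 fun s hs => Subtype.ext
      (show (s : G) * g = g * s from
        congrArg (fun y : (Q : Subgroup G) => (y : G)) (mul_comm' (⟨(s : G), hs⟩ : (Q : Subgroup G)) ⟨(g : G), hg⟩))
  obtain ⟨π, hπ⟩ : ∃ π : Y →* (Q' : Subgroup Y), Nat.card π.ker * 9 = Nat.card Y := by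
    refine ⟨MonoidHom.transferSylow Q' hnc, ?_⟩
    rw [← hQ']
    exact (MonoidHom.ker_transferSylow_isComplement' Q' hnc).card_mul_card
  have hker : ∀ v : Y, (v : G) * v = 1 → v ∈ π.ker := by
    intro v hv
    rw [MonoidHom.mem_ker]
    have h2 : π v ^ 2 = 1 := by
      rw [← map_pow, show v ^ 2 = 1 from Subtype.ext (by simpa [pow_two] using hv), map_one]
    have h9 : π v ^ 9 = 1 := hQ' ▸ pow_card_eq_one'
    exact orderOf_eq_one_iff.1 (Nat.eq_one_of_dvd_coprimes (by norm_num : Nat.Coprime 2 9)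
      (orderOf_dvd_of_pow_eq_one h2) (orderOf_dvd_of_pow_eq_one h9))
  let F : Finset G := {1, σ ^ 2, τ, τ * σ ^ 2}
  have hFV : ∀ v, v ∈ F ↔ v ∈ V σ τ := fun v => by simp [F, V]
  have hF : F.card = 4 := by
    rw [Finset.card_insert_of_notMem (by simp [S.z_ne.symm, S.τ_ne.symm, S.τz_ne.symm]),
      Finset.card_insert_of_notMem (by simp [S.τ_ne_z.symm, S.τz_ne_z.symm]),
      Finset.card_insert_of_notMem (by simp [S.τz_ne_τ.symm]), Finset.card_singleton]
  have hmemY : ∀ v : F, (v : G) ∈ Y := fun v =>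
    mem_centralizer_singleton_iff.2 (S.V_a ((hFV _).1 v.2)).eq.symm
  let f : F → π.ker := fun v => ⟨⟨v, hmemY v⟩, hker _ (S.V_sq ((hFV _).1 v.2))⟩
  have hf : Function.Bijective f := (Nat.bijective_iff_injective_and_card f).2
    ⟨fun v w e => Subtype.ext (congrArg (fun c : π.ker => ((c : Y) : G)) e), by
      rw [Nat.card_eq_fintype_card, Fintype.card_coe, hF]
      have := hπ.trans S.card_Y
      omega⟩
  obtain ⟨v, hv⟩ := hf.2 ⟨⟨u, mem_centralizer_singleton_iff.2 hua.eq⟩, hker _ hu⟩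
  rw [← show (v : G) = u from congrArg (fun c : π.ker => ((c : Y) : G)) hv]
  exact (hFV _).1 v.2

theorem conj_V {g v : G} (hg : g ∈ normalizer (zpowers a : Set G)) (hv : v ∈ V σ τ) :
    g * v * g⁻¹ ∈ V σ τ := by
  refine S.mem_V ?_ ?_
  · have h1 : Commute (g * v * g⁻¹) (g * a * g⁻¹) := (S.V_a hv).symm.map (MulAut.conj g).toMonoidHom
    rcases S.conj_a hg with e | e <;> rw [e] at h1
    · exact h1
    · exact inv_inv a ▸ h1.inv_right
  · rw [show g * v * g⁻¹ * (g * v * g⁻¹) = g * (v * v) * g⁻¹ by group, S.V_sq hv, mul_one, mul_inv_cancel]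

/-- An element of order three outside `⟨a⟩` commuting with `a` permutes the involutions. -/
theorem orbit {w u : G} (hw : w ^ 3 = 1) (hwa : Commute w a) (hwn : w ∉ zpowers a) (hu : u ∈ V σ τ)
    (hu1 : u ≠ 1) :
    w * u * w⁻¹ ∈ V σ τ ∧ w * u * w⁻¹ ≠ u ∧
      u * (w * u * w⁻¹) * (w * (w * u * w⁻¹) * w⁻¹) = 1 ∧ (w * u) ^ 3 = 1 := by
  have hwN : w ∈ normalizer (zpowers a : Set G) :=
    S.mem_normalizer_of_pm (Or.inl (mul_inv_eq_iff_eq_mul.2 hwa.eq))
  have hfix : ∀ {v : G}, v ∈ V σ τ → v ≠ 1 → w * v * w⁻¹ ≠ v := fun {v} hv hv1 e =>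
    hwn (S.unique_three (S.V_order hv hv1) hw S.a_cube S.a_ne (mul_inv_eq_iff_eq_mul.1 e) (S.V_a hv))
  set p := w * u * w⁻¹ with hp
  set q := w * p * w⁻¹ with hq
  have hpV : p ∈ V σ τ := S.conj_V hwN hu
  have hqV : q ∈ V σ τ := S.conj_V hwN hpV
  have hp1 : p ≠ 1 := fun e => hu1 (conj_eq_one_iff.1 e)
  have hq1 : q ≠ 1 := fun e => hp1 (conj_eq_one_iff.1 e)
  have hqu : u ≠ q := by
    intro e
    have h3 : w * q * w⁻¹ = u := by
      rw [hq, hp, show w * (w * (w * u * w⁻¹) * w⁻¹) * w⁻¹ = w ^ 3 * u * (w ^ 3)⁻¹ by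
        rw [pow_succ, pow_two]; group, hw, one_mul, inv_one, mul_one]
    rw [← e] at h3
    exact hfix hu hu1 h3
  have hprod : u * p * q = 1 := S.V_prod hu hpV hqV hu1 hp1 hq1 (hfix hu hu1).symm hqu (hfix hpV hp1).symm
  refine ⟨hpV, hfix hu hu1, hprod, ?_⟩
  have e : (w * u) ^ 3 = p * q * (w ^ 3 * u) := by
    rw [hp, hq, hp, pow_succ, pow_two, pow_succ, pow_two]; group
  rw [e, hw, one_mul]
  exact mul_eq_one_comm.1 (by rwa [← mul_assoc])

theorem cube_of_conj {h : G} : (h * a * h⁻¹) ^ 3 = 1 := by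
  rw [conj_pow, S.a_cube, mul_one, mul_inv_cancel]

/-- A conjugate of `a` commutes with `a` without being a power of it. -/
theorem exists_commuting_conjugate :
    ∃ h : G, Commute (h * a * h⁻¹) a ∧ h * a * h⁻¹ ∉ zpowers a := by
  classical
  haveI : Fact (Nat.Prime 3) := ⟨Nat.prime_three⟩
  obtain ⟨Q, haQ, hQY⟩ := S.exists_sylow
  by_contra hcon
  push Not at hcon
  set N := normalizer (zpowers a : Set G)
  have hle : normalizer ((Q : Subgroup G) : Set G) ≤ N := fun g hg => by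
    have hmem : g * a * g⁻¹ ∈ (Q : Subgroup G) := (Subgroup.mem_normalizer_iff.1 hg a).1 haQ
    have h1 := hcon g (mem_centralizer_singleton_iff.1 (hQY hmem))
    exact S.mem_normalizer_of_pm ((S.mem_a h1).resolve_left fun e => S.a_ne (conj_eq_one_iff.1 e))
  have hQN : (Q : Subgroup G) ≤ N := le_trans le_normalizer hle
  have hidx : N.index = 35 := by
    have h1 := N.card_mul_index
    rw [S.card_N, S.card] at h1
    omega
  have hR : (normalizer (((Q.subtype hQN) : Subgroup N) : Set N)).index =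
      (normalizer ((Q : Subgroup G) : Set G)).relIndex N := by
    rw [Subgroup.relIndex, Subgroup.subgroupOf_normalizer_eq hQN]
    rfl
  have h1 := card_sylow_modEq_one 3 G
  have h2 := card_sylow_modEq_one 3 N
  rw [Q.card_eq_index_normalizer] at h1
  rw [(Q.subtype hQN).card_eq_index_normalizer] at h2
  change (normalizer ((Q : Subgroup G) : Set G)).index ≡ 1 [MOD 3] at h1
  change (normalizer (((Q.subtype hQN) : Subgroup N) : Set N)).index ≡ 1 [MOD 3] at h2
  rw [hR] at h2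
  rw [← Subgroup.relIndex_mul_index hle, hidx] at h1
  have h3 := (Nat.ModEq.mul_right 35 h2).symm.trans h1
  exact absurd h3 (by decide)

/-- The commuting conjugate can be chosen inverted by the reflection `τ σ`. -/
theorem exists_inverted : ∃ h : G, Commute (h * a * h⁻¹) a ∧ h * a * h⁻¹ ∉ zpowers a ∧
    (τ * σ) * (h * a * h⁻¹) * (τ * σ)⁻¹ = (h * a * h⁻¹)⁻¹ := by
  obtain ⟨h, hc, hn⟩ := S.exists_commuting_conjugate
  set b := h * a * h⁻¹ with hb
  set x := τ * σ with hx
  have hb3 : b ^ 3 = 1 := S.cube_of_conj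
  have hzV : σ ^ 2 ∈ V σ τ := by simp [V]
  obtain ⟨hpV, hpz, hprod, -⟩ := S.orbit hb3 hc hn hzV S.z_ne
  set p := b * σ ^ 2 * b⁻¹ with hp
  have hp1 : p ≠ 1 := fun e => S.z_ne (conj_eq_one_iff.1 e)
  have hxp : x * p * x⁻¹ = p * σ ^ 2 := S.x_swap hpV hp1 hpz
  have hbp : b * p * b⁻¹ = p * σ ^ 2 := by
    rw [show p * σ ^ 2 = (p * σ ^ 2)⁻¹ by
      rw [mul_inv_rev, inv_eq_of_mul_eq_one_right (S.V_sq hpV), S.T.z_inv, (S.V_commute hpV hzV).eq],
      eq_inv_iff_mul_eq_one]
    rw [← (S.V_commute hpV hzV).eq] at hprod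
    exact mul_eq_one_comm.1 hprod
  have hxN : x ∈ normalizer (zpowers a : Set G) := S.mem_normalizer_of_pm (Or.inr S.xa)
  -- `e b` fixes `σ²`
  set e := x * b * x⁻¹ with he
  have hea : Commute e a := by
    have h1 : Commute e (x * a * x⁻¹) := hc.map (MulAut.conj x).toMonoidHom
    rw [S.xa] at h1
    exact inv_inv a ▸ h1.inv_right
  have hxz : x * σ ^ 2 * x⁻¹ = σ ^ 2 := mul_inv_eq_iff_eq_mul.2 S.xz.eq
  have hex : x⁻¹ = x := S.x_inv
  have heb : Commute (e * b) (σ ^ 2) := by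
    refine mul_inv_eq_iff_eq_mul.1 ?_
    rw [show e * b * σ ^ 2 * (e * b)⁻¹ = e * (b * σ ^ 2 * b⁻¹) * e⁻¹ by group, ← hp,
      show e * p * e⁻¹ = x * (b * (x⁻¹ * p * x) * b⁻¹) * x⁻¹ by rw [he]; group]
    rw [show x⁻¹ * p * x = p * σ ^ 2 by rw [← hxp, hex],
      show b * (p * σ ^ 2) * b⁻¹ = (b * p * b⁻¹) * (b * σ ^ 2 * b⁻¹) by group, hbp, ← hp,
      show p * σ ^ 2 * p = σ ^ 2 by rw [(S.V_commute hpV hzV).eq, mul_assoc, S.V_sq hpV, mul_one], hxz]
  obtain ⟨v, hv, i, hi, hvi⟩ : ∃ v ∈ V σ τ, ∃ i ∈ zpowers a, e * b = v * i := by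
    obtain ⟨q, hq, w, hw, ew⟩ := S.T.exists_decomp heb
    have hwa : Commute w a := S.T.W_comm hw S.mema.1
    have hqa : Commute q a := by
      have h1 : Commute (e * b * w⁻¹) a := (hea.mul_left hc).mul_left hwa.inv_left
      rwa [ew, mul_inv_cancel_right] at h1
    refine ⟨q, S.mem_V hqa ?_, w, S.W_eq ▸ hw, ew⟩
    have D := S.T.frame
    obtain ⟨l, el | el⟩ := D.cases q hq
    · rw [el] at hqa ⊢
      by_contra hne
      rcases Nat.even_or_odd l with ⟨r, hr⟩ | ⟨r, hr⟩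
      · refine hne ?_
        rw [← pow_add, D.pow_eq_one]
        omega
      · have h1 : Commute σ a := by
          have h2 : σ ^ l * (σ ^ 2) ^ r = σ := by
            rw [← pow_mul, ← pow_add, show l + 2 * r = 4 * r + 1 by omega, pow_succ,
              D.pow_eq_one.2 (dvd_mul_right 4 r), one_mul]
          exact h2 ▸ hqa.mul_left (S.za.pow_right r).symm
        have h3 : σ * a * σ⁻¹ = a := mul_inv_eq_iff_eq_mul.2 h1.eq
        rw [S.conjσa] at h3
        have h4 : orderOf a ∣ 2 := orderOf_dvd_of_pow_eq_one (by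
          rw [pow_two]; nth_rewrite 1 [← h3]; exact inv_mul_cancel a)
        rw [S.orda] at h4
        norm_num at h4
    · rw [el]; exact D.refl_sq l
  have hi3 : i ^ 3 = 1 := by
    obtain ⟨n, rfl⟩ := mem_zpowers_iff.1 hi
    rw [← zpow_natCast, ← zpow_mul, mul_comm, zpow_mul, zpow_natCast, S.a_cube, one_zpow]
  have hib : Commute i b := by
    obtain ⟨n, rfl⟩ := mem_zpowers_iff.1 hi
    exact hc.symm.zpow_left n
  -- applying the reflection twice kills the power of `a`
  have hbN : b ∈ normalizer (zpowers a : Set G) :=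
    S.mem_normalizer_of_pm (Or.inl (mul_inv_eq_iff_eq_mul.2 hc.eq))
  set c := x * v * x⁻¹ with hcdef
  set d := b * v * b⁻¹ with hddef
  have hcV : c ∈ V σ τ := S.conj_V hxN hv
  have hdV : d ∈ V σ τ := S.conj_V hbN hv
  have hxi : x * i * x⁻¹ = i⁻¹ := by
    obtain ⟨n, rfl⟩ := mem_zpowers_iff.1 hi
    rw [← conj_zpow, S.xa, inv_zpow]
  have hxe : x * e * x⁻¹ = b := by
    rw [he, show x * (x * b * x⁻¹) * x⁻¹ = (x * x) * b * (x * x)⁻¹ by group, S.xx, one_mul, inv_one, mul_one]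
  have hcd : i = c * d := by
    have h1 : x * (e * b) * x⁻¹ = b * e := by
      rw [show x * (e * b) * x⁻¹ = (x * e * x⁻¹) * e by rw [he]; group, hxe]
    rw [hvi, show x * (v * i) * x⁻¹ = c * (x * i * x⁻¹) by rw [hcdef]; group, hxi,
      show b * e = b * (e * b) * b⁻¹ by group, hvi,
      show b * (v * i) * b⁻¹ = d * (b * i * b⁻¹) by rw [hddef]; group,
      mul_inv_eq_iff_eq_mul.2 hib.eq.symm] at h1
    have h2 : c⁻¹ = c := inv_eq_of_mul_eq_one_right (S.V_sq hcV)
    have h3 : i⁻¹ * i⁻¹ = i := by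
      rw [← mul_inv_rev, inv_eq_iff_mul_eq_one, ← pow_two, ← pow_succ, hi3]
    calc i = i⁻¹ * i⁻¹ := h3.symm
      _ = c⁻¹ * (c * i⁻¹) * i⁻¹ := by group
      _ = c⁻¹ * (d * i) * i⁻¹ := by rw [h1]
      _ = c * d := by rw [h2]; group
  have hi2 : i * i = 1 := by
    rw [hcd]
    exact mul_sq_one (S.V_commute hcV hdV) (S.V_sq hcV) (S.V_sq hdV)
  have hi1 : i = 1 := by
    rw [pow_succ, pow_two, hi2, one_mul] at hi3
    exact hi3
  rw [hi1, mul_one] at hvi
  have hvv : c * d = 1 := hcd.symm.trans hi1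
  have hev : e = v * b⁻¹ := eq_mul_inv_of_mul_eq hvi
  by_cases hv1 : v = 1
  · rw [hv1, one_mul] at hev
    exact ⟨h, hc, hn, hev⟩
  have hbv : b * v * b⁻¹ = x * v * x⁻¹ := by
    rw [← hddef, eq_inv_of_mul_eq_one_right hvv]
    exact inv_eq_of_mul_eq_one_right (S.V_sq hcV)
  obtain ⟨-, hvne, hprodv, -⟩ := S.orbit hb3 hc hn hv hv1
  have hvz : v ≠ σ ^ 2 := fun e' => hvne (by rw [hbv, e', hxz])
  have hxv : x * v * x⁻¹ = v * σ ^ 2 := S.x_swap hv hv1 hvz
  set u := v * σ ^ 2 with hu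
  have huV : u ∈ V σ τ := hxv ▸ S.conj_V hxN hv
  have hui : u⁻¹ = u := inv_eq_of_mul_eq_one_right (S.V_sq huV)
  have hvi' : v⁻¹ = v := inv_eq_of_mul_eq_one_right (S.V_sq hv)
  have hbu : b * u * b⁻¹ = σ ^ 2 := by
    rw [hbv, hxv] at hprodv
    rw [eq_inv_of_mul_eq_one_right hprodv, mul_inv_rev, hui, hvi', hu,
      (S.V_commute hv hzV).eq, mul_assoc, S.V_sq hv, mul_one]
  have hxu : x * u * x⁻¹ = v := by
    rw [hu, show x * (v * σ ^ 2) * x⁻¹ = (x * v * x⁻¹) * (x * σ ^ 2 * x⁻¹) by group, hxz, hxv, hu,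
      mul_assoc, S.T.z_sq, mul_one]
  refine ⟨u * h, ?_, ?_, ?_⟩
  · have h1 : Commute (u * b * u⁻¹) a := by
      have h2 : Commute u a := (S.V_a huV).symm
      exact (h2.mul_left hc).mul_left h2.inv_left
    rwa [show u * h * a * (u * h)⁻¹ = u * b * u⁻¹ by rw [hb]; group]
  · intro hmem
    rw [show u * h * a * (u * h)⁻¹ = u * b * u⁻¹ by rw [hb]; group] at hmem
    refine hn ?_
    obtain ⟨n, hn'⟩ := mem_zpowers_iff.1 hmem
    refine mem_zpowers_iff.2 ⟨n, ?_⟩
    calc a ^ n = u⁻¹ * a ^ n * u := by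
          rw [mul_assoc, ((S.V_a huV).zpow_left n).eq, inv_mul_cancel_left]
      _ = b := by rw [hn']; group
  · rw [show u * h * a * (u * h)⁻¹ = u * b * u⁻¹ by rw [hb]; group,
      show x * (u * b * u⁻¹) * x⁻¹ = (x * u * x⁻¹) * (x * b * x⁻¹) * (x * u * x⁻¹)⁻¹ by group,
      hxu, ← he, hev, hvi', ← mul_assoc, S.V_sq hv, one_mul]
    have h1 : b⁻¹ * σ ^ 2 * b = u := by rw [← hbu]; group
    rw [show (u * b * u⁻¹)⁻¹ = u * b⁻¹ * u⁻¹ by group, hui]
    calc b⁻¹ * v = b⁻¹ * (σ ^ 2 * u) := by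
          rw [hu, (S.V_commute hv hzV).eq, ← mul_assoc (σ ^ 2), S.T.z_sq, one_mul]
      _ = (b⁻¹ * σ ^ 2 * b) * b⁻¹ * u := by group
      _ = u * b⁻¹ * u := by rw [h1]

/-- The generators satisfy Carmichael's relations. -/
theorem exists_rel : ∃ g : ℕ → G, g 0 = a ∧ CfsgLib.Char.AltPres.Rel g 5 := by
  obtain ⟨h, hc, hn, hinv⟩ := S.exists_inverted
  set b := h * a * h⁻¹ with hb
  set x := τ * σ with hx
  have hb3 : b ^ 3 = 1 := S.cube_of_conj
  have hzV : σ ^ 2 ∈ V σ τ := by simp [V]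
  have hxx : x * x = 1 := S.xx
  have hxi : x⁻¹ = x := S.x_inv
  have hxb : x * b = b⁻¹ * x := mul_inv_eq_iff_eq_mul.1 hinv
  have hxaeq : x * a = a⁻¹ * x := mul_inv_eq_iff_eq_mul.1 S.xa
  -- the fourth generator
  have hxN : h⁻¹ * x * h ∈ normalizer (zpowers a : Set G) := by
    refine S.mem_normalizer_of_pm (Or.inr ?_)
    rw [show h⁻¹ * x * h * a * (h⁻¹ * x * h)⁻¹ = h⁻¹ * (x * b * x⁻¹) * h by rw [hb]; group, hinv, hb]
    group
  obtain ⟨u, huV, hu1, hxu⟩ : ∃ u ∈ V σ τ, u ≠ 1 ∧ h⁻¹ * x * h * u * (h⁻¹ * x * h)⁻¹ = u := by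
    by_contra hcon
    push Not at hcon
    set k := h⁻¹ * x * h
    have hk : ∀ w ∈ V σ τ, k * (k * w * k⁻¹) * k⁻¹ = w := fun w _ => by
      rw [show k * (k * w * k⁻¹) * k⁻¹ = h⁻¹ * (x * x) * h * w * (h⁻¹ * (x * x) * h)⁻¹ by
        simp only [k]; group, hxx]
      group
    have hτV : τ ∈ V σ τ := by simp [V]
    have hτzV : τ * σ ^ 2 ∈ V σ τ := by simp [V]
    have hz' := S.conj_V hxN hzV
    have hne1 : k * σ ^ 2 * k⁻¹ ≠ 1 := fun e => S.z_ne (conj_eq_one_iff.1 e)
    -- the third involution is fixed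
    set w := σ ^ 2 * (k * σ ^ 2 * k⁻¹)
    have hw1 : w ≠ 1 := fun e => hcon _ hzV S.z_ne ((eq_inv_of_mul_eq_one_right e).trans S.T.z_inv)
    have hwV : w ∈ V σ τ := S.mem_V ((S.V_a hzV).symm.mul_left (S.V_a hz').symm)
      (mul_sq_one (S.V_commute hzV hz') S.T.z_sq (S.V_sq hz'))
    refine hcon w hwV hw1 ?_
    rw [show k * w * k⁻¹ = (k * σ ^ 2 * k⁻¹) * (k * (k * σ ^ 2 * k⁻¹) * k⁻¹) by simp only [w]; group,
      hk _ hzV, (S.V_commute hz' hzV).eq]
  set x₁ := h * u * h⁻¹ with hx₁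
  have hx₁b : Commute x₁ b := by
    rw [hx₁, hb]; exact (S.V_a huV).symm.map (MulAut.conj h).toMonoidHom
  have hx₁x : Commute x₁ x := by
    refine (mul_inv_eq_iff_eq_mul.1 ?_).symm
    rw [hx₁, show x * (h * u * h⁻¹) * x⁻¹ = h * (h⁻¹ * x * h * u * (h⁻¹ * x * h)⁻¹) * h⁻¹ by group, hxu]
  have hx₁sq : x₁ * x₁ = 1 := by
    rw [hx₁, show h * u * h⁻¹ * (h * u * h⁻¹) = h * (u * u) * h⁻¹ by group, S.V_sq huV, mul_one, mul_inv_cancel]
  have hax₁ : (a * x₁) ^ 3 = 1 := by
    have ha0 : (h⁻¹ * a * h) ^ 3 = 1 := by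
      rw [show h⁻¹ * a * h = h⁻¹ * a * h⁻¹⁻¹ by rw [inv_inv], conj_pow, S.a_cube]; group
    have hc0 : Commute (h⁻¹ * a * h) a := by
      have h1 := hc.symm.map (MulAut.conj h⁻¹).toMonoidHom
      simpa [hb, mul_assoc] using h1
    have hn0 : h⁻¹ * a * h ∉ zpowers a := by
      intro hmem
      rcases S.mem_a hmem with e | e | e
      · exact S.a_ne (by simpa [mul_assoc] using congrArg (fun t => h * t * h⁻¹) e)
      · refine hn ?_
        rw [hb, show h * a * h⁻¹ = h * (h⁻¹ * a * h) * h⁻¹ by rw [e]]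
        rw [show h * (h⁻¹ * a * h) * h⁻¹ = a by group]
        exact mem_zpowers a
      · refine hn ?_
        have e' : a = (h * a * h⁻¹)⁻¹ := by
          conv_lhs => rw [show a = h * (h⁻¹ * a * h) * h⁻¹ by group, e]
          group
        rw [hb, show h * a * h⁻¹ = a⁻¹ by conv_rhs => rw [e', inv_inv]]
        exact inv_mem (mem_zpowers a)
    have h1 := (S.orbit ha0 hc0 hn0 huV hu1).2.2.2
    rw [show h⁻¹ * a * h * u = h⁻¹ * (a * x₁) * h by rw [hx₁]; group] at h1
    have h2 : (h⁻¹ * (a * x₁) * h⁻¹⁻¹) ^ 3 = 1 := by rw [inv_inv]; exact h1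
    rw [conj_pow] at h2
    exact conj_eq_one_iff.1 h2
  -- `x₁` does not commute with `σ²`
  have hx₁z : ¬ Commute x₁ (σ ^ 2) := by
    intro hcz
    obtain ⟨hpV, hpz, -, -⟩ := S.orbit hb3 hc hn hzV S.z_ne
    have hp1 : b * σ ^ 2 * b⁻¹ ≠ 1 := fun e => S.z_ne (conj_eq_one_iff.1 e)
    have hcp : Commute x₁ (b * σ ^ 2 * b⁻¹) := (hx₁b.mul_right hcz).mul_right hx₁b.inv_right
    have hcτ : Commute x₁ τ := by
      simp only [V, Set.mem_insert_iff, Set.mem_singleton_iff] at hpV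
      rcases hpV with e | e | e | e
      · exact absurd e hp1
      · exact absurd e hpz
      · exact e ▸ hcp
      · have h1 := hcp.mul_right hcz
        rwa [e, mul_assoc, S.T.z_sq, mul_one] at h1
    have hx₁a : Commute x₁ a := mem_centralizer_singleton_iff.1 (S.pair_le
      (Subgroup.mem_centralizer_iff.2 (by
        rintro y (rfl | rfl)
        exacts [hcz.eq.symm, hcτ.eq.symm])))
    have hx₁V := S.mem_V hx₁a hx₁sq
    have hx₁1 : x₁ ≠ 1 := fun e => hu1 (conj_eq_one_iff.1 e)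
    exact (S.orbit hb3 hc hn hx₁V hx₁1).2.1 (mul_inv_eq_iff_eq_mul.2 hx₁b.eq.symm)
  -- the braid relation
  have hbraid : (x₁ * σ ^ 2) ^ 3 = x := by
    obtain ⟨k, hk⟩ := isConj_iff.1 (S.T.conj x (σ ^ 2)
      (orderOf_eq_prime (by rw [pow_two]; exact hxx) fun e => hx₁z (by
        exfalso; rw [e, one_mul] at hxaeq
        have h4 : a ^ 2 = 1 := by rw [pow_two]; nth_rewrite 1 [hxaeq]; rw [mul_one]; exact inv_mul_cancel a
        have h5 := orderOf_dvd_of_pow_eq_one h4
        rw [S.orda] at h5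
        norm_num at h5))
      S.T.orderOf_z)
    set p := k * x₁ * k⁻¹
    set q := k * σ ^ 2 * k⁻¹
    have hpz : Commute p (σ ^ 2) := by rw [← hk]; exact hx₁x.map (MulAut.conj k).toMonoidHom
    have hqz : Commute q (σ ^ 2) := by rw [← hk]; exact S.xz.symm.map (MulAut.conj k).toMonoidHom
    set a' := k⁻¹ * a * k
    have ha'3 : a' ^ 3 = 1 := by
      show (k⁻¹ * a * k) ^ 3 = 1
      rw [show k⁻¹ * a * k = k⁻¹ * a * k⁻¹⁻¹ by rw [inv_inv], conj_pow, S.a_cube]; group
    have ha'1 : a' ≠ 1 := fun e => S.a_ne (by simpa [a', mul_assoc] using congrArg (fun t => k * t * k⁻¹) e)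
    have ha'x : Commute a' x := by
      have h1 := S.za.map (MulAut.conj k⁻¹).toMonoidHom
      rw [← hk] at h1
      simpa [a', mul_assoc] using h1
    -- neither commutes with `a`
    have hqa : ¬ Commute q a := by
      intro hqa
      have h1 : Commute a' (σ ^ 2) := by
        have h2 := hqa.symm.map (MulAut.conj k⁻¹).toMonoidHom
        simpa [a', q, mul_assoc] using h2
      have h2 : a ∈ zpowers a' := S.unique_three S.T.orderOf_z S.a_cube ha'3 ha'1 S.za h1
      obtain ⟨n, hn'⟩ := mem_zpowers_iff.1 h2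
      have h3 : x * a * x⁻¹ = a := mul_inv_eq_iff_eq_mul.2 (hn' ▸ ha'x.symm.zpow_right n).eq
      rw [S.xa] at h3
      have h4 : a ^ 2 = 1 := by rw [pow_two]; nth_rewrite 1 [← h3]; exact inv_mul_cancel a
      have h5 := orderOf_dvd_of_pow_eq_one h4
      rw [S.orda] at h5
      norm_num at h5
    have hpa : ¬ Commute p a := by
      intro hpa
      have h1 : Commute a' x₁ := by
        have h2 := hpa.symm.map (MulAut.conj k⁻¹).toMonoidHom
        simpa [a', p, mul_assoc] using h2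
      have hx₁2 : orderOf x₁ = 2 :=
        orderOf_eq_prime (by rw [pow_two]; exact hx₁sq) fun e => hu1 (conj_eq_one_iff.1 e)
      have h2 : b ∈ zpowers a' := S.unique_three hx₁2 hb3 ha'3 ha'1 hx₁b.symm h1
      obtain ⟨n, hn'⟩ := mem_zpowers_iff.1 h2
      have h3 : x * b * x⁻¹ = b := mul_inv_eq_iff_eq_mul.2 (hn' ▸ ha'x.symm.zpow_right n).eq
      rw [hinv] at h3
      have h4 : b ^ 2 = 1 := by rw [pow_two]; nth_rewrite 1 [← h3]; exact inv_mul_cancel b
      have h5 : b ^ 3 = b := by rw [pow_succ, h4, one_mul]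
      exact hn (h5 ▸ hb3.symm ▸ one_mem _)
    -- conjugation by them inverts `a`
    have hinva : ∀ {y : G}, Commute y (σ ^ 2) → ¬ Commute y a → y * a * y⁻¹ = a⁻¹ := by
      intro y hy hya
      have h1 := S.T.conj_mem hy S.mema.1
      rw [S.W_eq] at h1
      rcases S.mem_a h1 with e | e | e
      · exact absurd (conj_eq_one_iff.1 e) S.a_ne
      · exact absurd (mul_inv_eq_iff_eq_mul.1 e) hya
      · exact e
    set r := p * q
    have hra : Commute r a := by
      refine mul_inv_eq_iff_eq_mul.1 ?_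
      rw [show r * a * r⁻¹ = p * (q * a * q⁻¹) * p⁻¹ by simp only [r]; group, hinva hqz hqa,
        show p * a⁻¹ * p⁻¹ = (p * a * p⁻¹)⁻¹ by group, hinva hpz hpa, inv_inv]
    obtain ⟨l, hl, v', hv', er⟩ := S.T.exists_decomp (hpz.mul_left hqz)
    have hla : Commute l a := by
      have h1 : Commute (r * v'⁻¹) a := hra.mul_left (show Commute v' a from S.T.W_comm hv' S.mema.1).inv_left
      rwa [show r = l * v' from er, mul_inv_cancel_right] at h1
    have hv'3 : v' ^ 3 = 1 := by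
      obtain ⟨n, hn'⟩ := mem_zpowers_iff.1 (S.W_eq ▸ hv' : v' ∈ zpowers a)
      rw [← hn', ← zpow_natCast, ← zpow_mul, mul_comm, zpow_mul, zpow_natCast, S.a_cube, one_zpow]
    have hl2 : l * l = 1 := by
      have D := S.T.frame
      obtain ⟨j, ej | ej⟩ := D.cases l hl
      · rw [ej] at hla ⊢
        rcases Nat.even_or_odd j with ⟨i, hi⟩ | ⟨i, hi⟩
        · rw [← pow_add, D.pow_eq_one]; omega
        · exfalso
          have h2 : σ ^ j * (σ ^ 2) ^ i = σ := by
            rw [← pow_mul, ← pow_add, show j + 2 * i = 4 * i + 1 by omega, pow_succ,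
              D.pow_eq_one.2 (dvd_mul_right 4 i), one_mul]
          have h1 : Commute σ a := h2 ▸ hla.mul_left (S.za.pow_right i).symm
          have h3 : σ * a * σ⁻¹ = a := mul_inv_eq_iff_eq_mul.2 h1.eq
          rw [S.conjσa] at h3
          have h4 : orderOf a ∣ 2 := orderOf_dvd_of_pow_eq_one (by
            rw [pow_two]; nth_rewrite 1 [← h3]; exact inv_mul_cancel a)
          rw [S.orda] at h4
          norm_num at h4
      · rw [ej]; exact D.refl_sq j
    have hlV : l ∈ V σ τ := S.mem_V hla hl2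
    have hlv : Commute l v' := by
      obtain ⟨n, hn'⟩ := mem_zpowers_iff.1 (S.W_eq ▸ hv' : v' ∈ zpowers a)
      exact hn' ▸ ((S.V_a hlV).symm.zpow_right n)
    have hr3 : r ^ 3 = l := by
      rw [show r = l * v' from er, hlv.mul_pow, hv'3, mul_one, pow_succ, pow_two, hl2, one_mul]
    -- `p` fixes `l` but moves the involutions other than `σ²`
    have hpl : p * l * p⁻¹ = l := by
      have hpp : p * p = 1 := by
        simp only [p]
        rw [show k * x₁ * k⁻¹ * (k * x₁ * k⁻¹) = k * (x₁ * x₁) * k⁻¹ by group, hx₁sq, mul_one, mul_inv_cancel]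
      have hqq : q * q = 1 := by
        simp only [q]
        rw [show k * σ ^ 2 * k⁻¹ * (k * σ ^ 2 * k⁻¹) = k * (σ ^ 2 * σ ^ 2) * k⁻¹ by group, S.T.z_sq, mul_one, mul_inv_cancel]
      have hpr : p * r * p⁻¹ = r⁻¹ := conj_mul_self hpp hqq
      have hli : l⁻¹ = l := inv_eq_of_mul_eq_one_right hl2
      rw [← hr3, ← conj_pow, hpr, inv_pow, hr3, hli]
    have hl1z : l = 1 ∨ l = σ ^ 2 := by
      by_contra hcon
      push Not at hcon
      obtain ⟨j, hj, vp, hvp, ep⟩ := S.T.exists_decomp hpz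
      have D := S.T.frame
      have hlz : Commute l (σ ^ 2) := S.V_commute hlV hzV
      have hvl : Commute vp l := by
        obtain ⟨n, hn'⟩ := mem_zpowers_iff.1 (S.W_eq ▸ hvp : vp ∈ zpowers a)
        exact hn' ▸ ((S.V_a hlV).zpow_left n)
      have hjl : j * l * j⁻¹ = l := by
        rw [ep, show j * vp * l * (j * vp)⁻¹ = j * (vp * l * vp⁻¹) * j⁻¹ by group,
          mul_inv_eq_iff_eq_mul.2 hvl.eq] at hpl
        exact hpl
      have hja : ¬ Commute j a := fun hja => hpa (ep ▸ hja.mul_left (S.T.W_comm hvp S.mema.1))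
      -- `j ∈ P` outside the four-group moves `τ`
      have hjV : j ∉ V σ τ := fun h => hja (S.V_a h).symm
      have hlτ : l = τ ∨ l = τ * σ ^ 2 := by
        simp only [V, Set.mem_insert_iff, Set.mem_singleton_iff] at hlV
        tauto
      have hjτ : τ * j * τ⁻¹ = j := by
        have hjl' : Commute j l := mul_inv_eq_iff_eq_mul.1 hjl
        have hjz : Commute j (σ ^ 2) := D.J_comm hj
        rcases hlτ with e | e
        · rw [e] at hjl'
          exact mul_inv_eq_iff_eq_mul.2 hjl'.symm.eq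
        · have h1 := hjl'.mul_right hjz
          rw [e, mul_assoc, S.T.z_sq, mul_one] at h1
          exact mul_inv_eq_iff_eq_mul.2 h1.symm.eq
      refine hjV ?_
      simpa [V] using S.T.mem_four hj hjτ
    have hback : (x₁ * σ ^ 2) ^ 3 = k⁻¹ * l * k := by
      rw [← hr3, show r = k * (x₁ * σ ^ 2) * k⁻¹ by simp only [r, p, q]; group, conj_pow]
      group
    rcases hl1z with e | e
    · exfalso
      rw [e, mul_one, inv_mul_cancel] at hback
      -- all conjugates by `b` satisfy the same relation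
      have hall : ∀ w ∈ V σ τ, w ≠ 1 → (x₁ * w) ^ 3 = 1 := by
        intro w hw hw1
        obtain ⟨hpV, hpne, hprod, -⟩ := S.orbit hb3 hc hn hzV S.z_ne
        have hcase : ∀ {y : G}, (x₁ * y) ^ 3 = 1 → (x₁ * (b * y * b⁻¹)) ^ 3 = 1 := fun {y} hy => by
          rw [show x₁ * (b * y * b⁻¹) = b * (x₁ * y) * b⁻¹ by
            rw [← mul_assoc b x₁ y, ← hx₁b.eq]; group, conj_pow, hy, mul_one, mul_inv_cancel]
        have h1 := hcase hback
        have h2 := hcase h1
        set p₁ := b * σ ^ 2 * b⁻¹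
        set p₂ := b * p₁ * b⁻¹
        have hbN : b ∈ normalizer (zpowers a : Set G) :=
          S.mem_normalizer_of_pm (Or.inl (mul_inv_eq_iff_eq_mul.2 hc.eq))
        by_cases e1 : w = σ ^ 2
        · exact e1 ▸ hback
        by_cases e2 : w = p₁
        · exact e2 ▸ h1
        suffices e3 : w = p₂ by exact e3 ▸ h2
        have hp₁1 : p₁ ≠ 1 := fun e' => S.z_ne (conj_eq_one_iff.1 e')
        have := S.V_prod hzV hpV hw S.z_ne hp₁1 hw1 hpne.symm (Ne.symm e1) (Ne.symm e2)
        exact mul_left_cancel (this.trans hprod.symm)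
      have hA := hall _ hzV S.z_ne
      have hτV : τ ∈ V σ τ := by simp [V]
      have hC := hall _ hτV S.τ_ne
      have hAC := hall (σ ^ 2 * τ) (by
        rw [← S.zτ.eq]; simp [V]) (by rw [← S.zτ.eq]; exact S.τz_ne)
      exact hx₁z (braid_collapse hx₁sq S.T.z_sq S.T.frame.sqτ S.zτ.eq hA hC hAC)
    · rw [hback, e, ← hk]; group
  -- assemble
  have hzx : Commute (σ ^ 2) x := S.xz.symm
  have hzi : (σ ^ 2)⁻¹ = σ ^ 2 := S.T.z_inv
  set x₂ := x * σ ^ 2 with hx₂
  set x₃ := b * x with hx₃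
  have hx₂sq : x₂ * x₂ = 1 := mul_sq_one hzx.symm hxx S.T.z_sq
  have hx₃sq : x₃ * x₃ = 1 := by
    rw [hx₃, show b * x * (b * x) = b * (x * b) * x by group, hxb, show b * (b⁻¹ * x) * x = x * x by group, hxx]
  have hfar0 : ∀ {y : G}, y * y = 1 → y * a = a⁻¹ * y → (a * y) ^ 2 = 1 := fun {y} hy hya => by
    rw [pow_two, show a * y * (a * y) = a * (y * a) * y by group, hya,
      show a * (a⁻¹ * y) * y = y * y by group, hy]
  have hfar : ∀ {y y' : G}, y * y = 1 → y' * y' = 1 → Commute y y' → (y * y') ^ 2 = 1 := fun {y y'} h1 h2 hcy => by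
    rw [hcy.mul_pow, pow_two, pow_two, h1, h2, one_mul]
  let g : ℕ → G := fun n => if n = 0 then a else if n = 1 then x₁ else if n = 2 then x₂ else if n = 3 then x₃ else x
  refine ⟨g, rfl, ⟨fun _ => S.a_cube, fun n h1 h2 => ?_, fun n hn5 => ?_, fun m n hmn hn5 => ?_⟩⟩
  · rw [pow_two]
    interval_cases n <;> simp [g, hx₁sq, hx₂sq, hx₃sq, hxx]
  · have : n < 4 := by omega
    interval_cases n
    · exact hax₁
    · show (x₁ * x₂) ^ 3 = 1
      rw [hx₂, ← mul_assoc, hx₁x.eq, mul_assoc, ((hx₁x.symm).mul_right hzx.symm).mul_pow, hbraid,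
        pow_succ, pow_two, hxx, one_mul, hxx]
    · show (x₂ * x₃) ^ 3 = 1
      have e : x₂ * x₃ = σ ^ 2 * b⁻¹ := by
        rw [hx₂, hx₃, show x * σ ^ 2 * (b * x) = (x * σ ^ 2) * b * x by group, ← hzx.eq,
          show σ ^ 2 * x * b * x = σ ^ 2 * (x * b) * x by group, hxb,
          show σ ^ 2 * (b⁻¹ * x) * x = σ ^ 2 * b⁻¹ * (x * x) by group, hxx, mul_one]
      have h1 := (S.orbit (w := b⁻¹) (by rw [inv_pow, hb3, inv_one]) hc.inv_left
        (fun hm => hn (inv_mem_iff.1 hm)) hzV S.z_ne).2.2.2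
      rw [e, show σ ^ 2 * b⁻¹ = b⁻¹⁻¹ * (b⁻¹ * σ ^ 2) * b⁻¹⁻¹⁻¹ by group, conj_pow, h1]
      group
    · show (x₃ * x) ^ 3 = 1
      rw [hx₃, mul_assoc, hxx, mul_one, hb3]
  · have hm : m < 3 := by omega
    interval_cases m <;> interval_cases n
    · exact hfar0 hx₂sq (by
        show x₂ * a = a⁻¹ * x₂
        rw [hx₂, mul_assoc, ← S.za.eq, ← mul_assoc, hxaeq, mul_assoc])
    · exact hfar0 hx₃sq (by
        show x₃ * a = a⁻¹ * x₃
        rw [hx₃, mul_assoc, hxaeq, ← mul_assoc, hc.inv_right.eq, mul_assoc])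
    · exact hfar0 hxx hxaeq
    · exact hfar hx₁sq hx₃sq (hx₁b.mul_right hx₁x)
    · exact hfar hx₁sq hxx hx₁x
    · exact hfar hx₂sq hxx ((Commute.refl x).mul_left hzx)

/-- The isomorphism. -/
theorem iso : Nonempty (G ≃* alternatingGroup (Fin 7)) := by
  classical
  open CfsgLib.Char.AltPres in
  obtain ⟨g, hg0, hrel⟩ := S.exists_rel
  let y : ℕ → G × Equiv.Perm (Fin 7) := fun n => (g n, gen 7 n)
  have hgen := gen_rel (n := 7) (m := 5) le_rfl
  have hy : Rel y 5 :=
    ⟨fun h => Prod.ext (hrel.cube h) (hgen.cube h), fun i h1 h2 => Prod.ext (hrel.sq i h1 h2) (hgen.sq i h1 h2),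
      fun i h => Prod.ext (hrel.braid i h) (hgen.braid i h), fun i j h1 h2 => Prod.ext (hrel.far i j h1 h2) (hgen.far i j h1 h2)⟩
  set K := closure (y '' Set.Iio 5)
  obtain ⟨hfin, hcard⟩ := card_closure_le (x := y) 5 hy
  haveI := hfin
  let q : K →* Equiv.Perm (Fin 7) := (MonoidHom.snd G (Equiv.Perm (Fin 7))).comp K.subtype
  have hA : alternatingGroup (Fin 7) ≤ q.range := by
    refine le_trans (fun s hs => mem_closure_gen 5 (by norm_num) le_rfl s hs
      (fun k hk => absurd k.2 (by omega))) ((closure_le _).2 ?_)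
    rintro _ ⟨i, hi, rfl⟩
    exact ⟨⟨y i, subset_closure ⟨i, hi, rfl⟩⟩, rfl⟩
  have h7 : Nat.card (alternatingGroup (Fin 7)) = 2520 := by
    rw [nat_card_alternatingGroup, Nat.card_fin]; rfl
  have hle : Nat.card q.range ≤ Nat.card K := Nat.card_le_card_of_surjective _ q.rangeRestrict_surjective
  have hge : 2520 ≤ Nat.card q.range := h7 ▸ Subgroup.card_le_of_le hA
  have h2520 : Nat.card K = 2520 := by
    change 2 * Nat.card K ≤ _ at hcard
    have h1 : (5 + 2).factorial = 5040 := rfl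
    omega
  have heq : q.range = alternatingGroup (Fin 7) := (eq_of_le_of_card_ge hA (by omega)).symm
  have hinj : Function.Bijective q.rangeRestrict := by
    refine (Nat.bijective_iff_surjective_and_card q.rangeRestrict).2 ⟨q.rangeRestrict_surjective, ?_⟩
    omega
  let e : K ≃* alternatingGroup (Fin 7) := (MulEquiv.ofBijective q.rangeRestrict hinj).trans (MulEquiv.subgroupCongr heq)
  let φ : alternatingGroup (Fin 7) →* G :=
    ((MonoidHom.fst G (Equiv.Perm (Fin 7))).comp K.subtype).comp e.symm.toMonoidHom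
  haveI : IsSimpleGroup (alternatingGroup (Fin 7)) := alternatingGroup.isSimpleGroup (by simp)
  have hφ : Function.Injective φ := by
    rw [← MonoidHom.ker_eq_bot_iff]
    refine (IsSimpleGroup.eq_bot_or_eq_top_of_normal φ.ker (MonoidHom.normal_ker _)).resolve_right fun h => ?_
    have h1 : φ (e ⟨y 0, subset_closure ⟨0, by simp, rfl⟩⟩) = 1 := MonoidHom.mem_ker.1 (h ▸ mem_top _)
    simp only [φ, MonoidHom.comp_apply, MulEquiv.coe_toMonoidHom, MulEquiv.symm_apply_apply] at h1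
    exact S.a_ne (hg0.symm.trans h1)
  have hbij : Function.Bijective φ := by
    haveI := Fintype.ofFinite G
    exact (Nat.bijective_iff_injective_and_card φ).2 ⟨hφ, h7.trans S.card.symm⟩
  exact ⟨(MulEquiv.ofBijective φ hbij).symm⟩

end Seven

/-- A simple group of order 2520 is the alternating group of degree seven. -/
theorem iso_alternating_seven [IsSimpleGroup G] (h : Nat.card G = 2520) :
    Nonempty (G ≃* alternatingGroup (Fin 7)) := by
  obtain ⟨P, σ, τ, a, S⟩ := exists_seven h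
  exact S.iso

end CfsgLib.Char.SmallCent.AltSeven
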