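import Mathlib

/-!
# The arithmetic of the two order formulas
-/

set_option autoImplicit false

namespace CfsgLib.Char.SmallCent

theorem even_of_mul_sq_eq {g e R : ℤ} (hg : Odd g) (h : g * e ^ 2 = 2 * R) : Even e := by
  have h1 : Even (g * e ^ 2) := ⟨R, by rw [h]; ring⟩
  rcases Int.even_mul.1 h1 with h2 | h2
  · exact absurd h2 (Int.not_even_iff_odd.2 hg)
  · exact (Int.even_pow.1 h2).1

/-- The shape of the formula for the order of the group. -/
theorem shape {g x m n : ℕ} {δ : ℤ} (hg : Odd g) (hδ : δ = 1 ∨ δ = -1) (hx : 1 < x) (hm : Odd m)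
    (hn : Odd n)
    (h : (8 * g : ℤ) * ((x : ℤ) - δ) ^ 2 = 64 * x * ((x : ℤ) + δ) * m * n * ((m : ℤ) + n) ^ 2) :
    ∃ s h' u : ℕ, 0 < s ∧ m + n = 2 * u ∧
      ((δ = 1 ∧ x = 8 * s + 1 ∧ h' = 4 * s + 1) ∨ (δ = -1 ∧ x + 1 = 8 * s ∧ h' + 1 = 4 * s)) ∧
      s ^ 2 * g = x * h' * m * n * u ^ 2 := by
  obtain ⟨a, rfl⟩ := hm
  obtain ⟨b, rfl⟩ := hn
  have hg' : Odd (g : ℤ) := (Int.odd_coe_nat g).2 hg
  push_cast at h
  obtain ⟨e, he⟩ := even_of_mul_sq_eq hg' (e := (x : ℤ) - δ)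
    (R := 4 * x * ((x : ℤ) + δ) * (2 * a + 1) * (2 * b + 1) * (2 * a + 1 + (2 * b + 1)) ^ 2)
    (by
      apply mul_left_cancel₀ (show (8 : ℤ) ≠ 0 by norm_num)
      linear_combination h)
  have hx' : (x : ℤ) = e + e + δ := by omega
  rw [he, hx'] at h
  obtain ⟨f, rfl⟩ := even_of_mul_sq_eq hg' (e := e)
    (R := 8 * (e + e + δ) * (e + δ) * (2 * a + 1) * (2 * b + 1) * (a + b + 1) ^ 2)
    (by
      apply mul_left_cancel₀ (show (32 : ℤ) ≠ 0 by norm_num)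
      linear_combination h)
  obtain ⟨k, rfl⟩ := even_of_mul_sq_eq hg' (e := f)
    (R := 2 * (4 * f + δ) * (2 * f + δ) * (2 * a + 1) * (2 * b + 1) * (a + b + 1) ^ 2)
    (by
      apply mul_left_cancel₀ (show (128 : ℤ) ≠ 0 by norm_num)
      linear_combination h)
  have hk : 0 < k := by rcases hδ with rfl | rfl <;> omega
  obtain ⟨s, rfl⟩ := Int.eq_ofNat_of_zero_le hk.le
  have key : (s : ℤ) ^ 2 * g = (8 * s + δ) * (4 * s + δ) * (2 * a + 1) * (2 * b + 1) * (a + b + 1) ^ 2 := by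
    apply mul_left_cancel₀ (show (512 : ℤ) ≠ 0 by norm_num)
    linear_combination h
  rcases hδ with rfl | rfl
  · refine ⟨s, 4 * s + 1, a + b + 1, by omega, by ring, Or.inl ⟨rfl, by omega, rfl⟩, ?_⟩
    have : x = 8 * s + 1 := by omega
    subst this
    exact_mod_cast key
  · refine ⟨s, 4 * s - 1, a + b + 1, by omega, by ring, Or.inr ⟨rfl, by omega, by omega⟩, ?_⟩
    have : x = 8 * s - 1 := by omega
    subst this
    zify [show 1 ≤ 8 * s by omega, show 1 ≤ 4 * s by omega]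
    linear_combination key

/-- The shape of the formula for the order of the normalizer. -/
theorem shapeK {j x m n : ℕ} {δ : ℤ} (hj : Odd j) (hδ : δ = 1 ∨ δ = -1) (hx : 0 < x)
    (hxd : (x : ℤ) + δ ≠ 0) (hm : Odd m) (hn : Odd n)
    (h : (8 * j : ℤ) * ((x : ℤ) - δ) ^ 2 = 64 * m * (n : ℤ) ^ 3 * x * ((x : ℤ) + δ)) :
    ∃ s h' : ℕ, Odd s ∧ ((x = 4 * s + 1 ∧ h' = 2 * s + 1) ∨ (x + 1 = 4 * s ∧ h' + 1 = 2 * s)) ∧
      s ^ 2 * j = m * n ^ 3 * x * h' := by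
  have hj' : Odd (j : ℤ) := (Int.odd_coe_nat j).2 hj
  obtain ⟨e, he⟩ := even_of_mul_sq_eq hj' (e := (x : ℤ) - δ)
    (R := 4 * m * (n : ℤ) ^ 3 * x * ((x : ℤ) + δ)) (by
      apply mul_left_cancel₀ (show (8 : ℤ) ≠ 0 by norm_num)
      linear_combination h)
  have hx' : (x : ℤ) = e + e + δ := by omega
  rw [he, hx'] at h
  obtain ⟨k, rfl⟩ := even_of_mul_sq_eq hj' (e := e)
    (R := 2 * m * (n : ℤ) ^ 3 * (e + e + δ) * (e + δ)) (by
      apply mul_left_cancel₀ (show (32 : ℤ) ≠ 0 by norm_num)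
      linear_combination h)
  have key : k ^ 2 * (j : ℤ) = m * (n : ℤ) ^ 3 * (4 * k + δ) * (2 * k + δ) := by
    apply mul_left_cancel₀ (show (128 : ℤ) ≠ 0 by norm_num)
    linear_combination h
  have hk : 0 < k := by
    rcases hδ with rfl | rfl
    · rcases lt_trichotomy k 0 with hk | rfl | hk
      · omega
      · exfalso
        have : (0 : ℤ) < m * (n : ℤ) ^ 3 := by
          have := hm.pos; have := hn.pos; positivity
        linarith
      · exact hk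
    · omega
  obtain ⟨s, rfl⟩ := Int.eq_ofNat_of_zero_le hk.le
  have hodd : Odd s := by
    rw [← Nat.not_even_iff_odd]
    intro hs
    have h1 : Even ((s : ℤ) ^ 2 * j) :=
      Even.mul_right (Int.even_pow.2 ⟨(Int.even_coe_nat s).2 hs, two_ne_zero⟩) _
    rw [key] at h1
    refine Int.not_even_iff_odd.2 ?_ h1
    have hd : Odd δ := by rcases hδ with rfl | rfl <;> decide
    exact ((((Int.odd_coe_nat m).2 hm).mul ((Int.odd_coe_nat n).2 hn).pow).mul
      (Even.add_odd (Even.mul_right (by decide) _) hd)).mul (Even.add_odd (Even.mul_right (by decide) _) hd)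
  rcases hδ with rfl | rfl
  · refine ⟨s, 2 * s + 1, hodd, Or.inl ⟨by omega, rfl⟩, ?_⟩
    have : x = 4 * s + 1 := by omega
    subst this
    exact_mod_cast key
  · refine ⟨s, 2 * s - 1, hodd, Or.inr ⟨by omega, by omega⟩, ?_⟩
    have : x = 4 * s - 1 := by omega
    subst this
    zify [show 1 ≤ 4 * s by omega, show 1 ≤ 2 * s by omega]
    linear_combination key

set_option synthInstance.maxSize 2000 in
set_option synthInstance.maxHeartbeats 100000 in
/-- The candidates with one trivial factor. -/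
theorem small_candidates : ∀ s < 8, ∀ t < 32, 0 < s → t % 2 = 1 → 1 < 2 * s * t - 1 →
    (¬ (((4 * s + 1) ^ 2 * t ^ 2 : ℕ) - 16 * (2 * s * t - 1 : ℕ) : ℤ).natAbs ∣
      (8 * s + 1) * (4 * s + 1) ^ 2 * t ^ 2) ∧
    ((((4 * s - 1) ^ 2 * t ^ 2 : ℕ) - 16 * (2 * s * t - 1 : ℕ) : ℤ).natAbs ∣
      (8 * s - 1) * (4 * s - 1) ^ 2 * t ^ 2 → (s = 2 ∧ t = 1) ∨ (s = 1 ∧ t = 3)) := by
  decide +kernel

theorem case_one {g x h m s u : ℕ} {δ A B : ℤ} (hg : Odd g) (hs : 0 < s) (hm : 1 < m)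
    (hu : m + 1 = 2 * u)
    (hsh : (δ = 1 ∧ x = 8 * s + 1 ∧ h = 4 * s + 1) ∨ (δ = -1 ∧ x + 1 = 8 * s ∧ h + 1 = 4 * s))
    (heq : s ^ 2 * g = x * h * m * u ^ 2) (hrel : 1 + δ * x + A + B = 0)
    (hfour : (8 * g : ℤ) * (δ * x * A * B + A * B + δ * x * B + δ * x * A) =
      256 * (m : ℤ) ^ 2 * (δ * x * A * B)) :
    g = 315 ∨ (g = 945 ∧ m = 5) := by
  have hh : 0 < h := by rcases hsh with h1 | h1 <;> omega
  have hx : 0 < x := by rcases hsh with h1 | h1 <;> omega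
  obtain ⟨s₁, t, hco, hs1, hu1⟩ := Nat.exists_coprime s u
  set s₂ := Nat.gcd s u
  have hs2 : 0 < s₂ := Nat.gcd_pos_of_pos_left _ hs
  have hs1pos : 0 < s₁ := by
    rcases Nat.eq_zero_or_pos s₁ with e | e
    · rw [e, zero_mul] at hs1; omega
    · exact e
  have e1 : s₁ ^ 2 * g = x * h * m * t ^ 2 := by
    apply Nat.eq_of_mul_eq_mul_left (pow_pos hs2 2)
    rw [hs1, hu1] at heq
    linarith [show (s₁ * s₂) ^ 2 * g = s₂ ^ 2 * (s₁ ^ 2 * g) by ring,
      show x * h * m * (t * s₂) ^ 2 = s₂ ^ 2 * (x * h * m * t ^ 2) by ring]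
  have hsx : Nat.Coprime s x := by
    rcases hsh with ⟨-, hx', -⟩ | ⟨-, hx', -⟩
    · rw [hx']; simp
    · have h1 : Nat.Coprime s (x + 1 - 1) := by
        refine Nat.coprime_of_dvd' fun k _ hk1 hk2 => ?_
        have h2 : k ∣ 8 * s := hk1.mul_left 8
        rw [← hx', add_tsub_cancel_right] at *
        exact (Nat.dvd_add_right hk2).1 h2
      simpa using h1
  have hsh' : Nat.Coprime s h := by
    rcases hsh with ⟨-, -, hh'⟩ | ⟨-, -, hh'⟩
    · rw [hh']; simp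
    · refine Nat.coprime_of_dvd' fun k _ hk1 hk2 => ?_
      have h2 : k ∣ 4 * s := hk1.mul_left 4
      rw [← hh'] at h2
      exact (Nat.dvd_add_right hk2).1 h2
  have hs1dvd : s₁ ∣ s := ⟨s₂, hs1⟩
  obtain ⟨r, rfl⟩ : s₁ ^ 2 ∣ m := by
    have h1 : Nat.Coprime (s₁ ^ 2) (x * h * t ^ 2) :=
      ((Nat.Coprime.mul_right (hsx.coprime_dvd_left hs1dvd) (hsh'.coprime_dvd_left hs1dvd)).mul_right
        (hco.pow_right 2)).pow_left 2
    refine h1.dvd_of_dvd_mul_left ⟨g, ?_⟩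
    rw [e1]; ring
  have hgr : g = x * h * r * t ^ 2 := by
    apply Nat.eq_of_mul_eq_mul_left (pow_pos hs1pos 2)
    rw [e1]; ring
  subst hgr
  obtain ⟨hodd1, ht2⟩ := Nat.odd_mul.1 hg
  have htodd : Odd t := by
    rcases Nat.even_or_odd t with e | e
    · exact absurd (Nat.even_pow.2 ⟨e, two_ne_zero⟩) (Nat.not_even_iff_odd.2 ht2)
    · exact e
  have htpos : 0 < t := htodd.pos
  have hr : 0 < r := by
    rcases Nat.eq_zero_or_pos r with e | e
    · rw [e, mul_zero] at hm; omega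
    · exact e
  set D : ℤ := (h : ℤ) ^ 2 * t ^ 2 - 16 * r * (s₁ : ℤ) ^ 4 with hD
  have hδ2 : δ * δ = 1 := by rcases hsh with ⟨h1, -, -⟩ | ⟨h1, -, -⟩ <;> rw [h1] <;> norm_num
  have hxh : (x : ℤ) + δ = 2 * h := by rcases hsh with ⟨h1, h2, h3⟩ | ⟨h1, h2, h3⟩ <;> omega
  have hDdvd : A * B * δ * D = (x : ℤ) * h ^ 2 * t ^ 2 := by
    have hA : A = -1 - δ * x - B := by linarith
    apply mul_left_cancel₀ (show (16 * x * r : ℤ) ≠ 0 by positivity)
    push_cast at hfour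
    rw [hD, hA]
    rw [hA] at hfour
    linear_combination hfour -
      8 * ((x : ℤ) * h * r * t ^ 2) * ((-1 - δ * (x : ℤ) - B) * B - δ * x) * δ * hxh +
      (16 * (x : ℤ) ^ 2 * r * h ^ 2 * t ^ 2 +
        8 * ((x : ℤ) * h * r * t ^ 2) * ((-1 - δ * (x : ℤ) - B) * B - δ * x)) * hδ2
  have hd : D.natAbs ∣ x * h ^ 2 * t ^ 2 := by
    have h1 : D ∣ (x : ℤ) * h ^ 2 * t ^ 2 := ⟨A * B * δ, by rw [← hDdvd]; ring⟩
    have h2 := Int.natAbs_dvd_natAbs.2 h1
    simpa [Int.natAbs_mul, Int.natAbs_pow] using h2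
  have hD0 : D ≠ 0 := fun e => by
    rw [e, mul_zero] at hDdvd
    exact absurd hDdvd.symm (by positivity)
  -- `D` is prime to `t`
  have hcoD : Nat.Coprime D.natAbs (t ^ 2) := by
    refine Nat.Coprime.pow_right 2 (Nat.coprime_of_dvd' fun k hk hk1 hk2 => ?_)
    have h1 : (k : ℤ) ∣ 16 * r * (s₁ : ℤ) ^ 4 := by
      have h2 : (k : ℤ) ∣ (h : ℤ) ^ 2 * t ^ 2 :=
        dvd_mul_of_dvd_right (dvd_pow (Int.natCast_dvd_natCast.2 hk2) two_ne_zero) _
      have h3 := h2.sub (Int.natCast_dvd.2 hk1)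
      rwa [hD, sub_sub_cancel] at h3
    have h4 : k ∣ 16 * r * s₁ ^ 4 := by exact_mod_cast h1
    rcases hk.dvd_mul.1 h4 with h5 | h5
    · rcases hk.dvd_mul.1 h5 with h6 | h6
      · have h7 : k ∣ 2 := hk.dvd_of_dvd_pow (show k ∣ 2 ^ 4 by simpa using h6)
        rw [(Nat.prime_dvd_prime_iff_eq hk Nat.prime_two).1 h7] at hk2
        exact absurd (even_iff_two_dvd.2 hk2) (Nat.not_even_iff_odd.2 htodd)
      · have h7 : k ∣ 2 * u := Dvd.dvd.mul_left (hk2.trans ⟨s₂, hu1⟩) 2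
        rw [← hu] at h7
        exact (Nat.dvd_add_right (h6.mul_left _)).1 h7
    · exact hco ▸ Nat.dvd_gcd (hk.dvd_of_dvd_pow h5) hk2
  obtain ⟨a, b, ha, hb, hab⟩ := Nat.dvd_mul.1 (hcoD.dvd_of_dvd_mul_right hd)
  have hbr : b ∣ r := by
    have h1 : (b : ℤ) ∣ 16 * r * (s₁ : ℤ) ^ 4 := by
      have h2 : (b : ℤ) ∣ (h : ℤ) ^ 2 * t ^ 2 :=
        dvd_mul_of_dvd_left (by exact_mod_cast hb) _
      have h3 := h2.sub (Int.natCast_dvd.2 (⟨a, by rw [← hab]; ring⟩ : b ∣ D.natAbs))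
      rwa [hD, sub_sub_cancel] at h3
    have h4 : b ∣ r * (16 * s₁ ^ 4) := by
      rw [show r * (16 * s₁ ^ 4) = 16 * r * s₁ ^ 4 by ring]; exact_mod_cast h1
    have hbh : b ∣ h ^ 2 := hb
    have h16 : Nat.Coprime (h ^ 2) (16 * s₁ ^ 4) := by
      refine ((Nat.Coprime.pow_right 4 (?_ : Nat.Coprime h 2)).mul_right
        ((hsh'.symm.coprime_dvd_right hs1dvd).pow_right 4)).pow_left 2
      rw [Nat.coprime_two_right]
      rcases hsh with ⟨-, -, h3⟩ | ⟨-, -, h3⟩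
      · exact ⟨2 * s, by omega⟩
      · exact ⟨2 * s - 1, by omega⟩
    exact (h16.coprime_dvd_left hbh).dvd_of_dvd_mul_right h4
  have hax : a ≤ x := Nat.le_of_dvd hx ha
  have hDle : (h : ℤ) ^ 2 * t ^ 2 ≤ 16 * r * (s₁ : ℤ) ^ 4 + (a * b : ℕ) := by
    rw [hab]
    have := Int.le_natAbs (a := D)
    omega
  by_cases h1 : s₁ = 1
  · subst h1
    simp only [one_pow, one_mul, mul_one] at *
    have hst : r + 1 = 2 * (s * t) := by
      rw [hu, hu1, hs1]; ring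
    have hbt : b ≤ (t + 2) ^ 2 := by
      set e := Nat.gcd r h
      have h2 : b ∣ e * e := by
        refine (Nat.dvd_gcd hbr (?_ : b ∣ h * h)).trans (Nat.gcd_mul_right_dvd_mul_gcd r h h)
        rw [← pow_two]; exact hb
      have h3 : (e : ℤ) ∣ δ * t + 2 := by
        have h4 : (e : ℤ) ∣ (r : ℤ) := by exact_mod_cast Nat.gcd_dvd_left r h
        have h5 : (e : ℤ) ∣ (h : ℤ) := by exact_mod_cast Nat.gcd_dvd_right r h
        have h6 : δ * t + 2 = (h : ℤ) * t - 2 * r := by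
          have : ((r : ℤ) + 1) = 2 * (s * t) := by exact_mod_cast hst
          have h7 : (h : ℤ) = 4 * s + δ := by rcases hsh with ⟨h1, h2, h3⟩ | ⟨h1, h2, h3⟩ <;> omega
          rw [h7]; linear_combination 2 * this
        rw [h6]; exact (h5.mul_right _).sub (h4.mul_left _)
      have h8 : δ * (t : ℤ) + 2 ≠ 0 := by
        obtain ⟨c, hc⟩ := htodd
        rcases hsh with ⟨h1, -, -⟩ | ⟨h1, -, -⟩ <;> rw [h1] <;> omega
      have h9 : e ≤ t + 2 := by
        have := Int.natAbs_le_of_dvd_ne_zero h3 h8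
        rw [Int.natAbs_natCast] at this
        rcases hsh with ⟨h1, -, -⟩ | ⟨h1, -, -⟩ <;> rw [h1] at this <;> omega
      have h10 : 0 < e := Nat.gcd_pos_of_pos_left _ hr
      calc b ≤ e * e := Nat.le_of_dvd (Nat.mul_pos h10 h10) h2
        _ ≤ (t + 2) ^ 2 := by rw [pow_two]; exact Nat.mul_le_mul h9 h9
    have hmain : h ^ 2 * t ^ 2 ≤ 32 * (s * t) + x * (t + 2) ^ 2 := by
      have h2 : a * b ≤ x * (t + 2) ^ 2 := Nat.mul_le_mul hax hbt
      have h3 : h ^ 2 * t ^ 2 ≤ 16 * r + a * b := by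
        simp only [Nat.cast_one, one_pow, mul_one] at hDle; exact_mod_cast hDle
      omega
    have hh' : 4 * s ≤ h + 1 := by rcases hsh with h1 | h1 <;> omega
    have hx' : x ≤ 8 * s + 1 := by rcases hsh with h1 | h1 <;> omega
    have hs7 : s < 8 := by
      by_contra hs8
      push Not at hs8
      have h4 : x * (t + 2) ^ 2 ≤ x * (9 * t ^ 2) := Nat.mul_le_mul_left x (by nlinarith)
      have h5 : s * t ≤ s * t ^ 2 := Nat.mul_le_mul_left s (Nat.le_self_pow two_ne_zero t)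
      have h6 : h ^ 2 * t ^ 2 ≤ (32 * s + 9 * x) * t ^ 2 := by nlinarith
      have h7 := Nat.le_of_mul_le_mul_right h6 (pow_pos htpos 2)
      have h8 : (4 * s) * (4 * s) ≤ (h + 1) * (h + 1) := Nat.mul_le_mul hh' hh'
      have h9 : 8 * s ≤ s * s := Nat.mul_le_mul_right s hs8
      rcases hsh with ⟨-, rfl, rfl⟩ | ⟨-, hxe, hhe⟩
      · nlinarith
      · rw [hhe] at h8
        nlinarith
    have ht31 : t < 32 := by
      by_contra ht32
      push Not at ht32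
      have h4 : 256 * (x * (t + 2) ^ 2) ≤ x * (289 * t ^ 2) := by
        have := Nat.mul_le_mul_left x (Nat.pow_le_pow_left (show 16 * (t + 2) ≤ 17 * t by omega) 2)
        linarith [show x * (16 * (t + 2)) ^ 2 = 256 * (x * (t + 2) ^ 2) by ring,
          show x * (17 * t) ^ 2 = x * (289 * t ^ 2) by ring]
      have h5 : 256 * (32 * (s * t)) ≤ 256 * s * t ^ 2 := by nlinarith [Nat.mul_le_mul_left (256 * s * t) ht32]
      have h6 : 256 * h ^ 2 * t ^ 2 ≤ (256 * s + 289 * x) * t ^ 2 := by nlinarith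
      have h7 := Nat.le_of_mul_le_mul_right h6 (pow_pos htpos 2)
      rcases hsh with ⟨-, hxe, hhe⟩ | ⟨-, hxe, hhe⟩
      · subst hxe hhe; nlinarith
      · obtain ⟨w, rfl⟩ : ∃ w, h = 4 * w + 3 := ⟨s - 1, by omega⟩
        obtain rfl : x = 8 * w + 7 := by omega
        obtain rfl : s = w + 1 := by omega
        nlinarith
    obtain ⟨hp, hq⟩ := small_candidates s hs7 t ht31 hs (Nat.odd_iff.1 htodd)
      (by rw [mul_assoc]; omega)
    have hr' : r = 2 * s * t - 1 := by rw [mul_assoc]; omega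
    have hDe : D = ((h ^ 2 * t ^ 2 : ℕ) : ℤ) - 16 * (r : ℕ) := by rw [hD]; push_cast; ring
    rw [hDe] at hd
    rcases hsh with ⟨-, hxe, hhe⟩ | ⟨-, hxe, hhe⟩
    · subst hxe hhe
      rw [hr'] at hd
      exact absurd hd hp
    · have hxe' : x = 8 * s - 1 := by omega
      have hhe' : h = 4 * s - 1 := by omega
      rw [hr', hxe', hhe'] at hd
      rcases hq hd with ⟨rfl, rfl⟩ | ⟨rfl, rfl⟩
      · left; rw [hxe', hhe', hr']; norm_num
      · right; rw [hxe', hhe', hr']; norm_num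
  · exfalso
    have hs1odd : Odd s₁ := by
      have h2 : Odd (s₁ ^ 2 * r) := ⟨u - 1, by omega⟩
      rcases Nat.even_or_odd s₁ with e | e
      · exact absurd ((Nat.even_pow.2 ⟨e, two_ne_zero⟩).mul_right r) (Nat.not_even_iff_odd.2 h2)
      · exact e
    have h3 : 3 ≤ s₁ := by obtain ⟨c, hc⟩ := hs1odd; omega
    have hr' : s₁ ^ 2 * r < 2 * (s₂ * t) := by
      have : u = s₂ * t := by rw [hu1]; ring
      omega
    have hmain : h ^ 2 * t ^ 2 ≤ r * (16 * s₁ ^ 4 + x) := by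
      have h2 : a * b ≤ x * r := Nat.mul_le_mul hax (Nat.le_of_dvd hr hbr)
      have h4 : h ^ 2 * t ^ 2 ≤ 16 * r * s₁ ^ 4 + a * b := by exact_mod_cast hDle
      linarith [show r * (16 * s₁ ^ 4 + x) = 16 * r * s₁ ^ 4 + x * r by ring]
    have hh' : 3 * s ≤ h := by rcases hsh with h1 | h1 <;> omega
    have hx' : x ≤ 9 * s := by rcases hsh with h1 | h1 <;> omega
    have k1 : s₁ ^ 2 * (h ^ 2 * t ^ 2) < 2 * (s₂ * t) * (16 * s₁ ^ 4 + x) := by
      refine lt_of_le_of_lt (Nat.mul_le_mul_left _ hmain) ?_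
      rw [← mul_assoc]
      exact Nat.mul_lt_mul_of_pos_right hr' (by positivity)
    have k2 : s₁ ^ 2 * ((3 * (s₁ * s₂)) ^ 2 * t ^ 2) ≤ s₁ ^ 2 * (h ^ 2 * t ^ 2) := by
      refine Nat.mul_le_mul_left _ (Nat.mul_le_mul_right _ (Nat.pow_le_pow_left ?_ 2))
      rw [← hs1]; exact hh'
    have k3 : 2 * (s₂ * t) * (16 * s₁ ^ 4 + x) ≤ 2 * (s₂ * t) * (16 * s₁ ^ 4 + 9 * (s₁ * s₂)) := by
      refine Nat.mul_le_mul_left _ (Nat.add_le_add_left ?_ _)
      rw [← hs1]; exact hx'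
    have k4 : 9 * (s₁ ^ 4 * (s₂ * t)) < 32 * s₁ ^ 4 + 18 * (s₁ * s₂) := by
      apply Nat.lt_of_mul_lt_mul_left (a := s₂ * t)
      have := lt_of_le_of_lt k2 (lt_of_lt_of_le k1 k3)
      ring_nf at this ⊢
      exact this
    have k5 : 18 * (s₁ * s₂) ≤ s₁ ^ 4 * (s₂ * t) := by
      have h18 : 18 * s₁ ≤ s₁ ^ 4 := by
        have : 18 ≤ s₁ ^ 3 := le_trans (by norm_num) (Nat.pow_le_pow_left h3 3)
        calc 18 * s₁ ≤ s₁ ^ 3 * s₁ := Nat.mul_le_mul_right _ this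
          _ = s₁ ^ 4 := by ring
      calc 18 * (s₁ * s₂) = 18 * s₁ * s₂ := by ring
        _ ≤ s₁ ^ 4 * (s₂ * t) := Nat.mul_le_mul h18 (Nat.le_mul_of_pos_right _ htpos)
    have k6 : s₁ ^ 4 * (8 * (s₂ * t)) < s₁ ^ 4 * 32 := by linarith
    have k7 := Nat.lt_of_mul_lt_mul_left k6
    have k8 : 9 ≤ s₁ ^ 2 * r := le_trans (le_trans (by norm_num) (Nat.pow_le_pow_left h3 2))
      (Nat.le_mul_of_pos_right _ hr)
    omega

theorem no_square : ∀ s < 13, 0 < s →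
    (Nat.sqrt (33 * ((8 * s + 1) * (4 * s + 1))) * Nat.sqrt (33 * ((8 * s + 1) * (4 * s + 1))) ≠
      33 * ((8 * s + 1) * (4 * s + 1))) := by
  decide +kernel

theorem fourth_power : ∀ m < 207, m % 2 = 1 → 1 < m → m ^ 4 ∣ 1816214400 → m = 3 := by
  decide +kernel

theorem case_both {g j k x h m n s u x' h' s' : ℕ} (hg : Odd g) (hgk : g = k * j) (hk : k ≠ 1)
    (hdvd : 2 * (8 * g) ∣ k.factorial) (hm : 1 < m) (hmodd : Odd m) (hnodd : Odd n) (hmn : m ≤ n)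
    (hs : 0 < s) (hu : m + n = 2 * u)
    (hsh : (x = 8 * s + 1 ∧ h = 4 * s + 1) ∨ (x + 1 = 8 * s ∧ h + 1 = 4 * s))
    (heq : s ^ 2 * g = x * h * m * n * u ^ 2) (hs' : Odd s')
    (hsh' : (x' = 4 * s' + 1 ∧ h' = 2 * s' + 1) ∨ (x' + 1 = 4 * s' ∧ h' + 1 = 2 * s'))
    (heq' : s' ^ 2 * j = m * n ^ 3 * x' * h') :
    k = 15 ∧ g = 3645 := by
  have hn0 : 0 < n := by omega
  have hu0 : 0 < u := by omega
  obtain ⟨hkodd, hjodd⟩ := Nat.odd_mul.1 (hgk ▸ hg)
  have key : k * s ^ 2 * n ^ 2 * (x' * h') = x * h * u ^ 2 * s' ^ 2 := by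
    apply Nat.eq_of_mul_eq_mul_left (show 0 < m * n by positivity)
    calc m * n * (k * s ^ 2 * n ^ 2 * (x' * h')) = k * s ^ 2 * (m * n ^ 3 * x' * h') := by ring
      _ = s' ^ 2 * (s ^ 2 * g) := by rw [← heq', hgk]; ring
      _ = _ := by rw [heq]; ring
  have hs'0 := hs'.pos
  have h3 : 3 * s' ^ 2 ≤ x' * h' := by
    rcases hsh' with ⟨rfl, rfl⟩ | ⟨e1, e2⟩
    · nlinarith
    · have h1 : (x' : ℤ) + 1 = 4 * s' := by exact_mod_cast e1
      have h2 : (h' : ℤ) + 1 = 2 * s' := by exact_mod_cast e2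
      have : (3 : ℤ) * (s' : ℤ) ^ 2 ≤ x' * h' := by
        rw [show (x' : ℤ) = 4 * s' - 1 by linarith, show (h' : ℤ) = 2 * s' - 1 by linarith]
        have : (1 : ℤ) ≤ s' := by exact_mod_cast hs'0
        nlinarith
      exact_mod_cast this
  have h45 : x * h ≤ 45 * s ^ 2 := by rcases hsh with ⟨rfl, rfl⟩ | ⟨e1, e2⟩ <;> nlinarith
  have hle : k * s ^ 2 * (x' * h') ≤ x * h * s' ^ 2 := by
    apply Nat.le_of_mul_le_mul_right (c := n ^ 2) ?_ (pow_pos hn0 2)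
    calc k * s ^ 2 * (x' * h') * n ^ 2 = x * h * u ^ 2 * s' ^ 2 := by rw [← key]; ring
      _ ≤ x * h * n ^ 2 * s' ^ 2 := Nat.mul_le_mul_right _ (Nat.mul_le_mul_left _
            (Nat.pow_le_pow_left (by omega) 2))
      _ = x * h * s' ^ 2 * n ^ 2 := by ring
  have hk15 : k ≤ 15 := by
    have h1 : k * s ^ 2 * (3 * s' ^ 2) ≤ 45 * s ^ 2 * s' ^ 2 :=
      le_trans (Nat.mul_le_mul_left _ h3) (le_trans hle (Nat.mul_le_mul_right _ h45))
    have h2 : (3 * k) * (s ^ 2 * s' ^ 2) ≤ 45 * (s ^ 2 * s' ^ 2) := by linarith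
    have := Nat.le_of_mul_le_mul_right h2 (by positivity)
    omega
  have hj : 3 * (m * n ^ 3) ≤ j := by
    refine Nat.le_of_mul_le_mul_left ?_ (pow_pos hs'0 2)
    rw [heq', mul_assoc (m * n ^ 3)]
    calc s' ^ 2 * (3 * (m * n ^ 3)) = m * n ^ 3 * (3 * s' ^ 2) := by ring
      _ ≤ _ := Nat.mul_le_mul_left _ h3
  have hm3 : 3 ≤ m := by obtain ⟨c, hc⟩ := hmodd; omega
  have hmn81 : 81 ≤ m * n ^ 3 :=
    le_trans (by norm_num) (Nat.mul_le_mul hm3 (Nat.pow_le_pow_left (le_trans hm3 hmn) 3))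
  rw [hgk] at hdvd
  have hkcases : k = 3 ∨ k = 5 ∨ k = 7 ∨ k = 9 ∨ 11 ≤ k := by obtain ⟨c, hc⟩ := hkodd; omega
  rcases hkcases with rfl | rfl | rfl | rfl | hk11
  · have := Nat.le_of_dvd (by norm_num [Nat.factorial]) hdvd
    norm_num [Nat.factorial] at this; omega
  · have := Nat.le_of_dvd (by norm_num [Nat.factorial]) hdvd
    norm_num [Nat.factorial] at this; omega
  · have := Nat.le_of_dvd (by norm_num [Nat.factorial]) hdvd
    norm_num [Nat.factorial] at this; omega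
  · exfalso
    have h1 : j ∣ 315 := by
      have h2 : j ∣ 2520 := by
        rw [show Nat.factorial 9 = 144 * 2520 by rfl, show 2 * (8 * (9 * j)) = 144 * j by ring] at hdvd
        exact Nat.dvd_of_mul_dvd_mul_left (by norm_num) hdvd
      rw [show (2520 : ℕ) = 315 * 8 by rfl] at h2
      exact (Nat.Coprime.pow_right 3 (Nat.coprime_two_right.2 hjodd)).dvd_of_dvd_mul_right
        (show j ∣ 315 * 2 ^ 3 from h2)
    have hj315 : j = 315 := by
      obtain ⟨c, hc⟩ := h1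
      rcases Nat.lt_or_ge c 2 with hc2 | hc2
      · interval_cases c <;> omega
      · have : j * 2 ≤ 315 := by rw [hc]; exact Nat.mul_le_mul_left j hc2
        omega
    subst hj315
    have hn3 : n = 3 := by
      by_contra hn3
      have h5 : 5 ≤ n := by obtain ⟨c, hc⟩ := hnodd; omega
      have := Nat.mul_le_mul hm3 (Nat.pow_le_pow_left h5 3)
      omega
    have hm3' : m = 3 := by omega
    subst hn3 hm3'
    have h2 : 3 ∣ s' := by
      have : 3 ∣ s' ^ 2 * 35 := ⟨3 * x' * h', by linarith⟩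
      exact Nat.prime_three.dvd_of_dvd_pow ((show Nat.Coprime 3 35 by norm_num).dvd_of_dvd_mul_right this)
    obtain ⟨c, rfl⟩ := h2
    rcases hsh' with ⟨rfl, rfl⟩ | ⟨e1, e2⟩
    · nlinarith
    · have h1 : (x' : ℤ) + 1 = 4 * (3 * c : ℕ) := by exact_mod_cast e1
      have h2 : (h' : ℤ) + 1 = 2 * (3 * c : ℕ) := by exact_mod_cast e2
      have h3' : ((3 * c : ℕ) : ℤ) ^ 2 * 315 = 3 * 3 ^ 3 * x' * h' := by exact_mod_cast heq'
      push_cast at h1 h2 h3'
      rw [show (x' : ℤ) = 12 * c - 1 by linarith, show (h' : ℤ) = 6 * c - 1 by linarith] at h3'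
      have : (1 : ℤ) ≤ c := by omega
      nlinarith
  have hsne : s' = 1 ∧ x' = 3 ∧ h' = 1 := by
    by_contra hno
    have h6 : 6 * s' ^ 2 ≤ x' * h' := by
      rcases hsh' with ⟨rfl, rfl⟩ | ⟨e1, e2⟩
      · nlinarith
      · have hs3 : 3 ≤ s' := by obtain ⟨c, hc⟩ := hs'; omega
        have h1 : (x' : ℤ) + 1 = 4 * s' := by exact_mod_cast e1
        have h2 : (h' : ℤ) + 1 = 2 * s' := by exact_mod_cast e2
        have : (6 : ℤ) * (s' : ℤ) ^ 2 ≤ x' * h' := by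
          rw [show (x' : ℤ) = 4 * s' - 1 by linarith, show (h' : ℤ) = 2 * s' - 1 by linarith]
          have : (3 : ℤ) ≤ s' := by exact_mod_cast hs3
          nlinarith
        exact_mod_cast this
    have h1 : k * s ^ 2 * (6 * s' ^ 2) ≤ 45 * s ^ 2 * s' ^ 2 :=
      le_trans (Nat.mul_le_mul_left _ h6) (le_trans hle (Nat.mul_le_mul_right _ h45))
    have h2 : (6 * k) * (s ^ 2 * s' ^ 2) ≤ 45 * (s ^ 2 * s' ^ 2) := by linarith
    have := Nat.le_of_mul_le_mul_right h2 (by positivity)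
    omega
  obtain ⟨rfl, rfl, rfl⟩ := hsne
  simp only [one_pow, one_mul, mul_one] at heq' hle key
  rcases hsh with ⟨rfl, rfl⟩ | ⟨e1, e2⟩
  swap
  · exfalso
    have h1 : x * h < 32 * s ^ 2 := by
      calc x * h < (x + 1) * (h + 1) := by nlinarith
        _ = 32 * s ^ 2 := by rw [e1, e2]; ring
    nlinarith [Nat.mul_le_mul_right (s ^ 2) hk11]
  -- a square
  have hsq : ∃ q, q * q = 3 * k * ((8 * s + 1) * (4 * s + 1)) := by
    have h1 : (3 * k * s * n) ^ 2 = 3 * k * ((8 * s + 1) * (4 * s + 1)) * u ^ 2 := by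
      rw [mul_assoc (3 * k) _ (u ^ 2), ← key]; ring
    obtain ⟨q, hq⟩ : u ∣ 3 * k * s * n :=
      (Nat.pow_dvd_pow_iff two_ne_zero).1 ⟨_, h1.trans (mul_comm _ _)⟩
    refine ⟨q, Nat.eq_of_mul_eq_mul_right (pow_pos hu0 2) ?_⟩
    rw [← h1, hq]; ring
  obtain ⟨q, hq⟩ := hsq
  have hkc : k = 11 ∨ k = 13 ∨ k = 15 := by obtain ⟨c, hc⟩ := hkodd; omega
  rcases hkc with rfl | rfl | rfl
  · exfalso
    have hs12 : s < 13 := by nlinarith
    refine no_square s hs12 hs ?_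
    rw [show 33 * ((8 * s + 1) * (4 * s + 1)) = q * q by rw [hq], Nat.sqrt_eq]
  · exfalso
    obtain rfl : s = 1 := by nlinarith
    norm_num at hq
    have hq' : q ≤ 42 := by nlinarith
    interval_cases q <;> omega
  · obtain rfl : s = 1 := by nlinarith
    have hun : u = n := by
      have h1 : 45 * n ^ 2 = 45 * u ^ 2 := by linarith
      exact (Nat.pow_left_injective two_ne_zero (Nat.eq_of_mul_eq_mul_left (by norm_num) h1)).symm
    obtain rfl : m = n := by omega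
    rw [heq', show Nat.factorial 15 = 720 * 1816214400 by rfl,
      show 2 * (8 * (15 * (m * m ^ 3 * 3))) = 720 * m ^ 4 by ring] at hdvd
    have hd4 := Nat.dvd_of_mul_dvd_mul_left (by norm_num) hdvd
    have hm207 : m < 207 := by
      by_contra hge
      have := le_trans (Nat.pow_le_pow_left (Nat.not_lt.1 hge) 4) (Nat.le_of_dvd (by norm_num) hd4)
      norm_num at this
    obtain rfl := fourth_power m hm207 (Nat.odd_iff.1 hmodd) hm hd4
    exact ⟨rfl, by rw [hgk, heq']; rfl⟩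

end CfsgLib.Char.SmallCent
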