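import Cfsg.Agent.Lib.Char.SmallCent.Cases
import Cfsg.Agent.Lib.Perm.Small.OrderTools
import Mathlib.GroupTheory.Transfer

/-!
# Simple groups of order 2520: centralizers of elements of order five and seven, and the Sylow
2-subgroup

The Sylow 2-subgroup is dihedral: an elementary abelian one would be a trivial intersection subgroup
or would put too many Sylow subgroups into the centralizer of an involution.
-/

set_option autoImplicit false
set_option linter.unusedSectionVars false
set_option linter.style.haveILetI false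

namespace CfsgLib.Char.SmallCent.C2520

open Subgroup CfsgLib.Invol
open scoped IsMulCommutative

universe u

variable {G : Type u} [Group G] [Finite G]

theorem mem_cent {x y : G} : y ∈ centralizer ({x} : Set G) ↔ y * x = x * y :=
  mem_centralizer_singleton_iff

/-- A nontrivial element of an abelian Sylow subgroup is not central in the normalizer. -/
theorem false_of_central [IsSimpleGroup G] (hG : ¬ IsMulCommutative G) {p : ℕ} [Fact p.Prime]
    (P : Sylow p G) (hP : IsMulCommutative (P : Subgroup G)) {z : G} (hz : z ∈ (P : Subgroup G))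
    (hz1 : z ≠ 1) (hc : ∀ g ∈ normalizer ((P : Subgroup G) : Set G), g * z = z * g) : False := by
  haveI := hP
  have key : ∀ (k : ℕ) (g₀ : G), g₀⁻¹ * z ^ k * g₀ ∈ (P : Subgroup G) → g₀⁻¹ * z ^ k * g₀ = z ^ k := by
    intro k g₀ hk
    obtain ⟨n, hn, e⟩ := P.conj_eq_normalizer_conj_of_mem _ g₀ (pow_mem hz k) hk
    rw [e, mul_assoc, ← ((show Commute n z from hc n hn).pow_right k).eq, inv_mul_cancel_left]
  let φ : G →* (P : Subgroup G) := MonoidHom.transfer (MonoidHom.id (P : Subgroup G))
  have hφz : φ z ≠ 1 := by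
    intro e
    have e1 := (MonoidHom.transfer_eq_pow (MonoidHom.id (P : Subgroup G)) z key).symm.trans e
    have e' : z ^ (P : Subgroup G).index = 1 := congrArg Subtype.val e1
    obtain ⟨i, hi⟩ := IsPGroup.iff_orderOf.1 P.2 ⟨z, hz⟩
    rw [Subgroup.orderOf_mk] at hi
    have hd := orderOf_dvd_of_pow_eq_one e'
    rw [hi] at hd
    rcases i with _ | i
    · exact hz1 (orderOf_eq_one_iff.1 (by simpa using hi))
    · exact P.not_dvd_index ((dvd_pow_self p (Nat.succ_ne_zero i)).trans hd)
  rcases IsSimpleGroup.eq_bot_or_eq_top_of_normal φ.ker (MonoidHom.normal_ker _) with h | h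
  · exact hG ⟨⟨fun a b => (MonoidHom.ker_eq_bot_iff φ).1 h (by rw [map_mul, map_mul, mul_comm'])⟩⟩
  · exact hφz (MonoidHom.mem_ker.1 (h ▸ mem_top z))

/-- A `p`-element normalizing a Sylow `p`-subgroup lies in it. -/
theorem mem_of_normalizer {p : ℕ} [Fact p.Prime] (P : Sylow p G) {g : G}
    (hg : g ∈ normalizer ((P : Subgroup G) : Set G)) {i : ℕ} (hi : g ^ p ^ i = 1) :
    g ∈ (P : Subgroup G) := by
  have hp : IsPGroup p (zpowers g) := by
    obtain ⟨j, -, hj⟩ := (Nat.dvd_prime_pow (Fact.out : p.Prime)).1 (orderOf_dvd_of_pow_eq_one hi)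
    exact IsPGroup.of_card (n := j) (by rw [Nat.card_zpowers, hj])
  have h1 : g ∈ zpowers g ⊓ normalizer ((P : Subgroup G) : Set G) := ⟨mem_zpowers g, hg⟩
  exact (le_of_eq (hp.inf_normalizer_sylow P) h1).2

section

variable [IsSimpleGroup G] (h : Nat.card G = 2520)
include h

theorem not_isCyclic : ¬ IsCyclic G := by
  intro hc
  haveI := hc
  haveI : IsMulCommutative G := IsCyclic.isMulCommutative
  letI : CommGroup G := { (inferInstance : Group G) with mul_comm := fun a b => mul_comm' a b }
  have hp : (Nat.card G).Prime := IsSimpleGroup.prime_card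
  rw [h] at hp
  norm_num at hp

theorem not_commutative : ¬ IsMulCommutative G := not_comm (not_isCyclic h)

theorem no_index_two (H : Subgroup G) : H.index ≠ 2 := index_ne_two (not_isCyclic h) H

theorem centralizer_of_prime {p : ℕ} [Fact p.Prime] (P : Sylow p G)
    (hP : Nat.card (P : Subgroup G) = p)
    (hC : Nat.card (centralizer ((P : Subgroup G) : Set G)) = p) {x : G} (hx : orderOf x = p) :
    Nat.card (centralizer ({x} : Set G)) = p := by
  obtain ⟨Q, hQ⟩ := (IsPGroup.of_card (n := 1) (by rw [Nat.card_zpowers, hx, pow_one]) :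
    IsPGroup p (zpowers x)).exists_le_sylow
  obtain ⟨g, hg⟩ := MulAction.exists_smul_eq G Q P
  have hmem : g * x * g⁻¹ ∈ (P : Subgroup G) := by
    have h1 := congrArg (fun R : Sylow p G => (R : Subgroup G)) hg
    rw [← h1]
    exact Subgroup.smul_mem_pointwise_smul x (MulAut.conj g) (Q : Subgroup G) (hQ (mem_zpowers x))
  have hz : zpowers (g * x * g⁻¹) = (P : Subgroup G) :=
    eq_of_le_of_card_ge (zpowers_le.2 hmem) (by
      rw [Nat.card_zpowers, hP, show g * x * g⁻¹ = MulAut.conj g x from rfl, MulEquiv.orderOf_eq, hx])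
  rw [← card_centralizer_conj (isConj_iff.2 ⟨g, rfl⟩ : IsConj x (g * x * g⁻¹)),
    show centralizer ({g * x * g⁻¹} : Set G) = centralizer ((P : Subgroup G) : Set G) by
      rw [← hz, zpowers_eq_closure, centralizer_closure]]
  exact hC

theorem card_centralizer_seven {x : G} (hx : orderOf x = 7) :
    Nat.card (centralizer ({x} : Set G)) = 7 := by
  letI := Fintype.ofFinite G
  haveI : Fact (Nat.Prime 7) := ⟨by norm_num⟩
  obtain ⟨P, n, e, c, hne, hP, hm, -, hC, -, -⟩ := CfsgLib.Perm.PrimeBlock.data_of_refutedTwo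
    2520 7 360 51 8 [(120, 3)] h (not_commutative h) (by norm_num) (by norm_num) (by norm_num)
    (by norm_num) (by norm_num) ⟨3, by norm_num⟩ (by norm_num) (by decide +kernel)
  simp only [List.mem_singleton, Prod.mk.injEq] at hne
  obtain ⟨rfl, rfl⟩ := hne
  exact centralizer_of_prime h P hP (by rw [hC]; omega) hx

theorem card_centralizer_five {x : G} (hx : orderOf x = 5) :
    Nat.card (centralizer ({x} : Set G)) = 5 := by
  letI := Fintype.ofFinite G
  haveI : Fact (Nat.Prime 5) := ⟨by norm_num⟩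
  obtain ⟨P, n, e, c, hne, hP, hm, -, hC, -, -⟩ := CfsgLib.Perm.PrimeBlock.data_of_refutedTwo
    2520 5 504 51 8 [(126, 4)] h (not_commutative h) (by norm_num) (by norm_num) (by norm_num)
    (by norm_num) (by norm_num) ⟨3, by norm_num⟩ (by norm_num) (by decide +kernel)
  simp only [List.mem_singleton, Prod.mk.injEq] at hne
  obtain ⟨rfl, rfl⟩ := hne
  exact centralizer_of_prime h P hP (by rw [hC]; omega) hx

/-- An element of order prime to 35 commutes with no element of order five or seven. -/
theorem eq_one_of_commute {x y : G} (hx : orderOf x = 5 ∨ orderOf x = 7) (hxy : Commute x y)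
    {k : ℕ} (hk : y ^ k = 1) (h35 : Nat.Coprime k 35) : y = 1 := by
  have hmem : y ∈ centralizer ({x} : Set G) := mem_cent.2 hxy.eq.symm
  have h1 : orderOf y ∣ Nat.card (centralizer ({x} : Set G)) := by
    rw [← Subgroup.orderOf_mk (H := centralizer ({x} : Set G)) y hmem]; exact orderOf_dvd_natCard _
  have h2 : orderOf y ∣ 35 := by
    rcases hx with hx | hx
    · exact (card_centralizer_five h hx ▸ h1).trans (by norm_num)
    · exact (card_centralizer_seven h hx ▸ h1).trans (by norm_num)
  exact orderOf_eq_one_iff.1 (Nat.eq_one_of_dvd_coprimes h35 (orderOf_dvd_of_pow_eq_one hk) h2)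

/-- A subgroup centralizing an element of order prime to 35 has order dividing 72. -/
theorem dvd_seventy_two {t : G} (ht : t ≠ 1) {k : ℕ} (hk : t ^ k = 1) (h35 : Nat.Coprime k 35)
    (H : Subgroup G) (hH : ∀ y ∈ H, Commute y t) : Nat.card H ∣ 72 := by
  have hno : ∀ q, (q = 5 ∨ q = 7) → ¬ q ∣ Nat.card H := by
    intro q hq hd
    haveI : Fact q.Prime := ⟨by rcases hq with rfl | rfl <;> norm_num⟩
    obtain ⟨y, hy⟩ := exists_prime_orderOf_dvd_card' q hd
    rw [← Subgroup.orderOf_coe] at hy
    exact ht (eq_one_of_commute h (by rwa [hy]) (hH _ y.2) hk h35)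
  have h2520 : Nat.card H ∣ 72 * 35 := (Subgroup.card_subgroup_dvd_card H).trans (by rw [h])
  refine Nat.Coprime.dvd_of_dvd_mul_right ?_ h2520
  rw [show (35 : ℕ) = 5 * 7 from rfl]
  exact Nat.Coprime.mul_right
    (((Nat.Prime.coprime_iff_not_dvd (by norm_num)).2 (hno 5 (Or.inl rfl))).symm)
    (((Nat.Prime.coprime_iff_not_dvd (by norm_num)).2 (hno 7 (Or.inr rfl))).symm)

theorem card_sylow_two (S : Sylow 2 G) : Nat.card (S : Subgroup G) = 8 := by
  haveI : Fact (Nat.Prime 2) := ⟨Nat.prime_two⟩
  obtain ⟨k, hk⟩ := IsPGroup.iff_card.1 S.2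
  have h1 := (S : Subgroup G).card_mul_index
  rw [hk, h] at h1
  have h2 := S.not_dvd_index
  rw [hk]
  rcases Nat.lt_or_ge k 4 with hlt | hge
  · interval_cases k <;> omega
  · exfalso
    have h3 : 2 ^ 4 ∣ 2520 := ⟨2 ^ (k - 4) * (S : Subgroup G).index, by
      rw [← mul_assoc, ← pow_add, show 4 + (k - 4) = k by omega, h1]⟩
    omega

end

section Elementary

/-- Conjugation of the normalizer on the nontrivial elements of a subgroup. -/
abbrev Pts (S : Subgroup G) : Type u := {u : S // u ≠ 1}

theorem exists_fixed (S : Subgroup G) {p : ℕ} [Fact p.Prime] (T : Subgroup G) (hT : IsPGroup p T)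
    (hTN : T ≤ normalizer (S : Set G)) (hp : ¬ p ∣ Nat.card S - 1) :
    ∃ u ∈ S, u ≠ 1 ∧ ∀ t ∈ T, t * u = u * t := by
  classical
  have hc : ∀ (t : T) (v : Pts S), (t : G) * v.1 * (t : G)⁻¹ ∈ S := fun t v =>
    (Subgroup.mem_normalizer_iff.1 (hTN t.2) _).1 v.1.2
  letI act : MulAction T (Pts S) :=
    { smul := fun t v => ⟨⟨_, hc t v⟩, fun e => v.2 (Subtype.ext (conj_eq_one_iff.1 (congrArg Subtype.val e)))⟩
      one_smul := fun v => Subtype.ext (Subtype.ext (by
        show (1 : G) * v.1 * (1 : G)⁻¹ = v.1; simp))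
      mul_smul := fun s t v => Subtype.ext (Subtype.ext (by
        show ((s : G) * t) * v.1 * ((s : G) * t)⁻¹ = s * (t * v.1 * (t : G)⁻¹) * (s : G)⁻¹
        group)) }
  have hcard : Nat.card (Pts S) = Nat.card S - 1 := by
    haveI := Fintype.ofFinite S
    rw [Nat.card_eq_fintype_card, Nat.card_eq_fintype_card, Fintype.card_subtype_compl,
      Fintype.card_subtype_eq]
  obtain ⟨v, hv⟩ := hT.nonempty_fixed_point_of_prime_not_dvd_card (Pts S) (hcard ▸ hp)
  exact ⟨v.1, v.1.2, fun e => v.2 (Subtype.ext e), fun t ht =>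
    mul_inv_eq_iff_eq_mul.1 (congrArg (fun w : Pts S => (w.1 : G)) (hv ⟨t, ht⟩))⟩

/-- In an elementary abelian group of order eight, a 3-element fixing two points fixes all. -/
theorem commute_of_two_fixed (S : Sylow 2 G) (hS : Nat.card (S : Subgroup G) = 8) {t : G} {i : ℕ}
    (ht : t ^ 3 ^ i = 1) (htN : t ∈ normalizer ((S : Subgroup G) : Set G)) {u v : G}
    (hu : u ∈ (S : Subgroup G)) (hv : v ∈ (S : Subgroup G)) (hu1 : u ≠ 1) (hv1 : v ≠ 1) (huv : u ≠ v)
    (hcu : t * u = u * t) (hcv : t * v = v * t) : ∀ y ∈ (S : Subgroup G), t * y = y * t := by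
  classical
  haveI : Fact (Nat.Prime 3) := ⟨Nat.prime_three⟩
  have hT : IsPGroup 3 (zpowers t) := by
    obtain ⟨j, -, hj⟩ := (Nat.dvd_prime_pow Nat.prime_three).1 (orderOf_dvd_of_pow_eq_one ht)
    exact IsPGroup.of_card (n := j) (by rw [Nat.card_zpowers, hj])
  have hc : ∀ (s : zpowers t) (y : (S : Subgroup G)), (s : G) * y * (s : G)⁻¹ ∈ (S : Subgroup G) :=
    fun s y => (Subgroup.mem_normalizer_iff.1 (zpowers_le.2 htN s.2) _).1 y.2
  letI act : MulAction (zpowers t) (S : Subgroup G) :=
    { smul := fun s y => ⟨_, hc s y⟩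
      one_smul := fun y => Subtype.ext (by show (1 : G) * y * (1 : G)⁻¹ = y; simp)
      mul_smul := fun a b y => Subtype.ext (by
        show ((a : G) * b) * y * ((a : G) * b)⁻¹ = a * (b * y * (b : G)⁻¹) * (a : G)⁻¹
        group) }
  set F : Subgroup (S : Subgroup G) := (centralizer ({t} : Set G)).subgroupOf S
  have hF : (F : Set (S : Subgroup G)) = MulAction.fixedPoints (zpowers t) (S : Subgroup G) := by
    ext y
    constructor
    · intro hy s
      obtain ⟨j, hj⟩ := mem_zpowers_iff.1 s.2
      refine Subtype.ext ?_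
      show (s : G) * y * (s : G)⁻¹ = y
      have h1 : Commute (y : G) t := mem_cent.1 hy
      rw [← hj, ← (h1.zpow_right j).eq, mul_inv_cancel_right]
    · intro hy
      exact mem_cent.2 (mul_inv_eq_iff_eq_mul.1 (congrArg Subtype.val (hy ⟨t, mem_zpowers t⟩))).symm
  have hmod : Nat.card (S : Subgroup G) ≡ Nat.card F [MOD 3] := by
    have h1 := hT.card_modEq_card_fixedPoints (S : Subgroup G)
    rw [← hF] at h1
    exact h1
  have hdvd : Nat.card F ∣ 8 := hS ▸ Subgroup.card_subgroup_dvd_card F
  have hge : 3 ≤ Nat.card F := by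
    let f : Fin 3 → F := ![1, ⟨⟨u, hu⟩, mem_cent.2 hcu.symm⟩, ⟨⟨v, hv⟩, mem_cent.2 hcv.symm⟩]
    have hf : Function.Injective f := by
      intro i j e
      have e' : (![1, u, v] : Fin 3 → G) i = (![1, u, v] : Fin 3 → G) j := by
        have e1 := congrArg (fun z : F => ((z : (S : Subgroup G)) : G)) e
        fin_cases i <;> fin_cases j <;> simpa [f] using e1
      clear e ht
      fin_cases i <;> fin_cases j <;> simp_all [eq_comm]
    exact (Nat.card_fin 3).symm.le.trans (Nat.card_le_card_of_injective f hf)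
  have h8 : Nat.card F = 8 := by
    rw [hS] at hmod
    have := Nat.le_of_dvd (by norm_num) hdvd
    generalize Nat.card F = c at *
    interval_cases c <;> simp_all (config := { decide := true }) [Nat.ModEq]
  have htop : F = ⊤ := eq_top_of_card_eq F (h8.trans hS.symm)
  intro y hy
  have hmem : (⟨y, hy⟩ : (S : Subgroup G)) ∈ F := htop ▸ mem_top _
  exact (mem_cent.1 hmem).symm

end Elementary

end CfsgLib.Char.SmallCent.C2520
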