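import Cfsg.Agent.Lib.Char.SmallCent.Formulas

/-!
# The normalizer of the fixed points of a reflection

`K = N(Wf σ τ)` contains `C(σ²)`, fuses `σ²` with `τ`, and none of its pairs of conjugates of `σ²`
has a product with 2-part `σ`; hence a formula for its order.
-/

set_option autoImplicit false
set_option linter.unusedSectionVars false
set_option linter.style.haveILetI false

namespace CfsgLib.Char.SmallCent

open Subgroup CfsgLib.Block CfsgLib.Block.Dihedral Cfsg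

universe u

variable {G : Type u} [Group G] [Finite G] {P : Sylow 2 G} {σ τ : G}

theorem mem_normalizer_of_conj {H : Subgroup G} {g : G} (h : ∀ x ∈ H, g * x * g⁻¹ ∈ H) :
    g ∈ normalizer (H : Set G) := by
  refine Subgroup.mem_normalizer_iff.2 fun x => ⟨h x, fun hx => ?_⟩
  have hmap : H.map (MulAut.conj g).toMonoidHom = H := by
    refine eq_of_le_of_card_ge (fun y ⟨z, hz, e⟩ => e ▸ h z hz) ?_
    rw [card_map_of_injective (MulAut.conj g).injective]
  rw [← hmap] at hx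
  obtain ⟨y, hy, e⟩ := hx
  exact (MulAut.conj g).injective e ▸ hy

/-- A group has the frame of a subgroup containing the Sylow subgroup. -/
theorem frame_subgroup (D : Frame P σ τ 2) {H : Subgroup G} (hP : (P : Subgroup G) ≤ H) :
    Frame (P.subtype hP) ⟨σ, hP D.memσ⟩ ⟨τ, hP D.memτ⟩ 2 := by
  refine ⟨D.pow2, D.memσ, D.memτ, ?_, Subtype.ext D.sqτ, Subtype.ext D.rel, fun h => ?_, ?_,
    fun x hx => ?_⟩
  · rw [← Subgroup.orderOf_coe]; exact D.orderσ
  · obtain ⟨i, hi⟩ := mem_zpowers_iff.1 h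
    exact D.not_zpow (mem_zpowers_iff.2 ⟨i, by simpa using congrArg Subtype.val hi⟩)
  · exact (Nat.card_congr (subgroupOfEquivOfLe hP).toEquiv).trans D.card
  · obtain ⟨l, e | e⟩ := D.cases (x : G) hx
    · exact ⟨l, Or.inl (Subtype.ext (by simpa using e))⟩
    · exact ⟨l, Or.inr (Subtype.ext (by simpa using e))⟩

namespace Setting

variable (T : Setting P σ τ)
include T

theorem conjσ_τ : σ * τ * σ⁻¹ = τ * σ ^ 2 := by
  have D := T.frame
  have h2 : σ * τ = τ * σ⁻¹ := by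
    rw [← D.rel, D.τ_inv, ← mul_assoc, ← mul_assoc, D.sqτ, one_mul]
  rw [h2, mul_assoc, ← mul_inv_rev, ← pow_two, T.z_inv]

/-- An element fixing `τ` and moving `σ²` to `τ σ²`. -/
theorem exists_fuse : ∃ g : G, g * (σ ^ 2) * g⁻¹ = τ * σ ^ 2 ∧ g * τ * g⁻¹ = τ := by
  have D := T.frame
  obtain ⟨h, hh⟩ := isConj_iff.1 (T.conj τ (σ ^ 2) T.orderOf_τ T.orderOf_z)
  set y := h * σ ^ 2 * h⁻¹ with hy
  have hyz : Commute y (σ ^ 2) := by
    rw [hy]; nth_rewrite 2 [← hh]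
    exact (D.J_comm D.memτ).symm.map (MulAut.conj h).toMonoidHom
  obtain ⟨p, hp, v, hv, e⟩ := T.exists_decomp hyz
  have hy2 : y * y = 1 := by
    rw [hy, show h * σ ^ 2 * h⁻¹ * (h * σ ^ 2 * h⁻¹) = h * (σ ^ 2 * σ ^ 2) * h⁻¹ by group, T.z_sq,
      mul_one, mul_inv_cancel]
  have hy1 : y ≠ 1 := fun e1 => D.sigma_h_ne (conj_eq_one_iff.1 e1)
  have hyne : y ≠ σ ^ 2 := fun e1 => by
    have h1 : h * σ ^ 2 * h⁻¹ = h * τ * h⁻¹ := by rw [hh]; exact e1
    exact D.refl_not_rot 0 2 (by simpa using (mul_left_cancel (mul_right_cancel h1)).symm)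
  have hpv : p⁻¹ * v * p ∈ W σ := by
    simpa using T.conj_mem (p := p⁻¹) (D.J_comm (inv_mem hp)) hv
  obtain ⟨hpp, hvv⟩ := T.decomp_unique (p := p * p) (q := 1) (v := p⁻¹ * v * p * v) (v' := 1)
    (mul_mem hp hp) (one_mem _) (mul_mem hpv hv) (one_mem _) (by
      rw [one_mul, ← hy2, e]; group)
  -- `y` is a reflection in a conjugate of `P`
  obtain ⟨l, hl⟩ : ∃ l : ℕ, p = τ * σ ^ l := by
    obtain ⟨l, hl | hl⟩ := D.cases p hp
    · exfalso
      have hpc : p = 1 ∨ p = σ ^ 2 := by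
        by_cases h1 : σ ^ l = 1
        · exact Or.inl (hl.trans h1)
        · exact Or.inr (hl.trans (D.eq_J h1 (by
            by_contra hd; exact (D.sq_ne_iff l).2 hd (hl ▸ hpp))))
      have hcv : p⁻¹ * v * p = v := by
        rcases hpc with h1 | h1
        · rw [h1]; group
        · rw [h1, mul_assoc, (T.commute_z hv).eq, inv_mul_cancel_left]
      rw [hcv] at hvv
      have hv1 : v = 1 := by
        have h2 : orderOf v ∣ 2 := orderOf_dvd_of_pow_eq_one (by rw [pow_two]; exact hvv)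
        rcases (Nat.dvd_prime Nat.prime_two).1 h2 with h2 | h2
        · exact orderOf_eq_one_iff.1 h2
        · exact absurd (dvd_of_eq h2.symm) (T.mem_W.1 hv).2
      rw [hv1, mul_one] at e
      rcases hpc with h1 | h1
      · exact hy1 (e.trans h1)
      · exact hyne (e.trans h1)
    · exact ⟨l, hl⟩
  -- a square root `w` of `v` inverted by the reflection
  obtain ⟨w, hw, hww⟩ := T.exists_sqrt (H := zpowers v) (zpowers_le.2 hv) (mem_zpowers v)
  have hwW : w ∈ W σ := (zpowers_le.2 hv) hw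
  have hpw : p⁻¹ * w * p = w⁻¹ := by
    obtain ⟨i, rfl⟩ := mem_zpowers_iff.1 hw
    have h1 : p⁻¹ * v * p⁻¹⁻¹ = v⁻¹ := by rw [inv_inv]; exact eq_inv_of_mul_eq_one_left hvv
    rw [← inv_zpow, ← h1, conj_zpow, inv_inv]
  have hc : w * y * w⁻¹ = p := by
    rw [e, ← hww, show w * (p * (w * w)) * w⁻¹ = w * p * w by group]
    calc w * p * w = p * (p⁻¹ * w * p) * w := by group
      _ = p := by rw [hpw]; group
  -- `σ` conjugates `p` to `p z`
  have hσp : σ * p * σ⁻¹ = p * σ ^ 2 := by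
    rw [hl, show σ * (τ * σ ^ l) * σ⁻¹ = (σ * τ * σ⁻¹) * σ ^ l by group, T.conjσ_τ, mul_assoc, mul_assoc,
      ← pow_add, ← pow_add, add_comm]
  set k := w * h with hk
  have hkτ : k * τ * k⁻¹ = σ ^ 2 := by
    rw [show k * τ * k⁻¹ = w * (h * τ * h⁻¹) * w⁻¹ by rw [hk]; group, hh]
    exact mul_inv_eq_iff_eq_mul.2 (T.commute_z hwW).eq
  have hkz : k * σ ^ 2 * k⁻¹ = p := by
    rw [show k * σ ^ 2 * k⁻¹ = w * (h * σ ^ 2 * h⁻¹) * w⁻¹ by rw [hk]; group, ← hy, hc]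
  refine ⟨k⁻¹ * σ * k, ?_, ?_⟩
  · rw [show k⁻¹ * σ * k * σ ^ 2 * (k⁻¹ * σ * k)⁻¹ = k⁻¹ * (σ * (k * σ ^ 2 * k⁻¹) * σ⁻¹) * k by group,
      hkz, hσp]
    have e1 : σ ^ 2 = k⁻¹ * p * k := by rw [← hkz]; group
    have e2 : τ = k⁻¹ * σ ^ 2 * k := by rw [← hkτ]; group
    have e3 : p * σ ^ 2 = σ ^ 2 * p := (D.J_comm hp).eq
    rw [e3, show k⁻¹ * (σ ^ 2 * p) * k = (k⁻¹ * σ ^ 2 * k) * (k⁻¹ * p * k) by group, ← e1, ← e2]
  · rw [show k⁻¹ * σ * k * τ * (k⁻¹ * σ * k)⁻¹ = k⁻¹ * (σ * (k * τ * k⁻¹) * σ⁻¹) * k by group, hkτ,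
      mul_inv_eq_iff_eq_mul.2 T.commute_σ.eq]
    conv_rhs => rw [show τ = k⁻¹ * (k * τ * k⁻¹) * k by group, hkτ]

theorem centralizer_z_le :
    centralizer ({σ ^ 2} : Set G) ≤ normalizer (Wf σ τ : Set G) := by
  have D := T.frame
  have hσN : σ ∈ normalizer (Wf σ τ : Set G) := mem_normalizer_of_conj fun x hx => by
    rw [T.conjσ hx.1]; exact inv_mem hx
  have hτN : τ ∈ normalizer (Wf σ τ : Set G) := mem_normalizer_of_conj fun x hx => by
    rw [(T.mem_Wf.1 hx).2]; exact hx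
  have hPN : (P : Subgroup G) ≤ normalizer (Wf σ τ : Set G) := by
    rw [← T.closure_pair, closure_le]
    rintro x (rfl | rfl)
    exacts [hσN, hτN]
  intro x hx
  obtain ⟨p, hp, v, hv, rfl⟩ := T.exists_decomp (mem_centralizer_singleton_iff.1 hx)
  refine mul_mem (hPN hp) (mem_normalizer_of_conj fun y hy => ?_)
  rw [T.W_comm hv hy.1, mul_inv_cancel_right]
  exact hy

/-- The data of the normalizer. -/
theorem normalizer_data (hm : 1 < Nat.card (Wf σ τ)) :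
    ∃ (x : ℕ) (δ : ℤ), (δ = 1 ∨ δ = -1) ∧ 0 < x ∧ (x : ℤ) + δ ≠ 0 ∧
      (Nat.card (normalizer (Wf σ τ : Set G)) : ℤ) * ((x : ℤ) - δ) ^ 2 =
        64 * Nat.card (Wf σ τ) * (Nat.card (Wf σ (τ * σ)) : ℤ) ^ 3 * x * ((x : ℤ) + δ) := by
  classical
  obtain ⟨M, hM⟩ := exists_pModular (p := 2) Nat.prime_two
  have D := T.frame
  set H := normalizer (Wf σ τ : Set G) with hH
  have hCH : centralizer ({σ ^ 2} : Set G) ≤ H := T.centralizer_z_le
  have hPH : (P : Subgroup G) ≤ H := le_trans D.le_centralizer_J hCH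
  have D' := frame_subgroup D hPH
  set σ' : H := ⟨σ, hPH D.memσ⟩
  set τ' : H := ⟨τ, hPH D.memτ⟩
  have hz' : ((σ' ^ 2 : H) : G) = σ ^ 2 := rfl
  set Y : Subgroup H := (centralizer (Wf σ τ : Set G)).subgroupOf H
  have hYmem : ∀ {a : H}, a ∈ Y ↔ ∀ v ∈ Wf σ τ, Commute (a : G) v := fun {a} => by
    rw [mem_subgroupOf, mem_centralizer_iff]
    exact ⟨fun h v hv => (h v hv).symm, fun h v hv => (h v hv).eq.symm⟩
  have hYn : ∀ (g a : H), a ∈ Y → g * a * g⁻¹ ∈ Y := by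
    intro g a ha
    refine hYmem.2 fun v hv => ?_
    have hv' : (g : G)⁻¹ * v * (g : G) ∈ Wf σ τ := by
      simpa using (Subgroup.mem_normalizer_iff.1 (g⁻¹).2 v).1 hv
    simpa [mul_assoc] using (hYmem.1 ha _ hv').map (MulAut.conj (g : G)).toMonoidHom
  have hWY : ∀ {a : H}, (a : G) ∈ W σ → a ∈ Y := fun ha =>
    hYmem.2 fun v hv => T.W_comm ha hv.1
  have hσY : σ' ∉ Y := by
    intro h
    obtain ⟨⟨v, hv⟩, hv1⟩ : ∃ v : Wf σ τ, v ≠ 1 := by
      haveI := Finite.one_lt_card_iff_nontrivial.1 hm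
      exact exists_ne 1
    have h1 : σ * v * σ⁻¹ = v := mul_inv_eq_iff_eq_mul.2 (hYmem.1 h v hv).eq
    rw [T.conjσ hv.1] at h1
    refine hv1 (Subtype.ext ?_)
    have h2 : orderOf v ∣ 2 := orderOf_dvd_of_pow_eq_one (by
      rw [pow_two]; nth_rewrite 1 [← h1]; exact inv_mul_cancel v)
    rcases (Nat.dvd_prime Nat.prime_two).1 h2 with h2 | h2
    · exact orderOf_eq_one_iff.1 h2
    · exact absurd (dvd_of_eq h2.symm) (T.mem_W.1 hv.1).2
  have hzY : σ' ^ 2 ∈ Y := hYmem.2 fun v hv => (T.commute_z hv.1).symm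
  have hτY : τ' ∈ Y := hYmem.2 fun v hv => (mem_centralizer_singleton_iff.1 hv.2 : Commute v τ).symm
  have hcY : ∀ {a : H}, IsConj (σ' ^ 2) a → a ∈ Y := fun ha => by
    obtain ⟨c, rfl⟩ := isConj_iff.1 ha
    exact hYn c _ hzY
  have hcinv : ∀ {a : H}, IsConj (σ' ^ 2) a → a * a = 1 ∧ a ≠ 1 := fun ha => by
    obtain ⟨c, rfl⟩ := isConj_iff.1 ha
    refine ⟨?_, fun e => D'.sigma_h_ne (conj_eq_one_iff.1 e)⟩
    rw [show c * σ' ^ 2 * c⁻¹ * (c * σ' ^ 2 * c⁻¹) = c * (σ' ^ 2 * σ' ^ 2) * c⁻¹ by group,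
      D'.sigma_h_sq]
    group
  -- no pairs with product of 2-part `σ`
  have h0 : Nat.card (pairsAt (σ' ^ 2) σ') = 0 := by
    haveI : IsEmpty (pairsAt (σ' ^ 2) σ') := ⟨fun p => by
      obtain ⟨⟨a, b⟩, ha, hb, y, hy, hc, ⟨k, hk⟩, hy2⟩ := p
      have hab : σ' * y ∈ Y := hy.symm ▸ mul_mem (hcY ha) (hcY hb)
      obtain ⟨t, ht⟩ : Odd (orderOf y) := by
        rw [← Nat.not_even_iff_odd, even_iff_two_dvd]; exact hy2
      have h1 : σ' ^ orderOf y ∈ Y := by
        have h2 := pow_mem hab (orderOf y)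
        rwa [hc.mul_pow, pow_orderOf_eq_one, mul_one] at h2
      rw [ht, pow_succ, pow_mul] at h1
      exact hσY ((mul_mem_cancel_left (pow_mem hzY t)).1 h1)⟩
    exact Nat.card_of_isEmpty
  -- fusion inside `H`
  obtain ⟨g, hgz, hgτ⟩ := T.exists_fuse
  have hgH : g ∈ H := mem_normalizer_of_conj fun x hx => by
    obtain ⟨hxW, hxτ⟩ := T.mem_Wf.1 hx
    have hcτ : Commute (g * x * g⁻¹) τ := by
      have := (show Commute x τ from mem_centralizer_singleton_iff.1 hx.2).map (MulAut.conj g).toMonoidHom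
      simpa [hgτ] using this
    have hcz : Commute (g * x * g⁻¹) (τ * σ ^ 2) := by
      have := (T.commute_z hxW).map (MulAut.conj g).toMonoidHom
      simpa [hgz] using this
    have hz2 : Commute (g * x * g⁻¹) (σ ^ 2) := by
      have := hcτ.mul_right hcz
      rwa [← mul_assoc, D.sqτ, one_mul] at this
    refine T.mem_Wf.2 ⟨T.mem_W.2 ⟨hz2, ?_⟩, mul_inv_eq_iff_eq_mul.2 hcτ.eq.symm⟩
    rw [show orderOf (g * x * g⁻¹) = orderOf x from (MulAut.conj g).orderOf_eq x]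
    exact (T.mem_W.1 hxW).2
  have hJτz : IsConj (σ' ^ 2) (τ' * σ' ^ 2) := isConj_iff.2 ⟨⟨g, hgH⟩, Subtype.ext hgz⟩
  have hJτ : IsConj (σ' ^ 2) τ' := hJτz.trans (isConj_iff.2 ⟨σ'⁻¹, Subtype.ext (by
    show σ⁻¹ * (τ * σ ^ 2) * σ⁻¹⁻¹ = τ
    rw [← T.conjσ_τ]; group)⟩)
  have hrefl : ∀ (p : H), (p = τ' ∨ p = τ' * σ' ^ 2) → ∀ u ∈ Wf σ (τ * σ),
      ∀ hu : u ∈ H, IsConj (σ' ^ 2) (p * ⟨u, hu⟩) ∧ (p : G) * u * (p : G)⁻¹ = u⁻¹ := by
    intro p hp u hu huH
    have hp' : IsConj (σ' ^ 2) p := by rcases hp with rfl | rfl <;> assumption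
    have hinv : ∀ w ∈ Wf σ (τ * σ), (p : G) * w * (p : G)⁻¹ = w⁻¹ := fun w hw => by
      have h1 := (T.mem_Wf'.1 hw).2
      rcases hp with rfl | rfl
      · exact h1
      · show τ * σ ^ 2 * w * (τ * σ ^ 2)⁻¹ = w⁻¹
        rw [show τ * σ ^ 2 * w * (τ * σ ^ 2)⁻¹ = τ * (σ ^ 2 * w * (σ ^ 2)⁻¹) * τ⁻¹ by group,
          mul_inv_eq_iff_eq_mul.2 (T.commute_z hw.1).eq.symm, h1]
    refine ⟨?_, hinv u hu⟩
    obtain ⟨w, hw, hww⟩ := T.exists_sqrt (H := Wf σ (τ * σ)) inf_le_left hu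
    have hwH : w ∈ H := hCH (mem_centralizer_singleton_iff.2 (T.commute_z hw.1).eq)
    refine hp'.trans (isConj_iff.2 ⟨(⟨w, hwH⟩ : H)⁻¹, Subtype.ext ?_⟩)
    show w⁻¹ * (p : G) * w⁻¹⁻¹ = (p : G) * u
    have h1 : (p : G)⁻¹ * w⁻¹ * p = w := by rw [← hinv w hw]; group
    rw [← hww, show w⁻¹ * (p : G) * w⁻¹⁻¹ = p * ((p : G)⁻¹ * w⁻¹ * p) * w by group, h1, mul_assoc]
  -- the pairs with product of 2-part `σ²`
  have hWH : ∀ v : Wf σ (τ * σ), (v : G) ∈ H := fun v =>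
    hCH (mem_centralizer_singleton_iff.2 (T.commute_z v.2.1).eq)
  let p₁ : Bool → H := fun b => if b then τ' else τ' * σ' ^ 2
  have hp₁ : ∀ b, p₁ b = τ' ∨ p₁ b = τ' * σ' ^ 2 := fun b => by cases b <;> simp [p₁]
  have hp₁P : ∀ b, (p₁ b : G) ∈ (P : Subgroup G) := fun b => by
    rcases hp₁ b with e | e <;> rw [e]
    · exact D.memτ
    · exact mul_mem D.memτ (pow_mem D.memσ 2)
  have hprod : ∀ b, (p₁ b : G) * p₁ (!b) = σ ^ 2 := fun b => by
    cases b <;> simp only [p₁, Bool.not_false, Bool.not_true, Bool.false_eq_true, if_false, if_true]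
    · show τ * σ ^ 2 * τ = σ ^ 2
      rw [(D.J_comm D.memτ).eq, mul_assoc, D.sqτ, mul_one]
    · show τ * (τ * σ ^ 2) = σ ^ 2
      rw [← mul_assoc, D.sqτ, one_mul]
  let f : Bool × Wf σ (τ * σ) × Wf σ (τ * σ) → pairsAt (σ' ^ 2) (σ' ^ 2) := fun q =>
    ⟨(p₁ q.1 * ⟨q.2.1, hWH _⟩, p₁ (!q.1) * ⟨q.2.2, hWH _⟩),
      (hrefl _ (hp₁ _) _ q.2.1.2 _).1, (hrefl _ (hp₁ _) _ q.2.2.2 _).1,
      (⟨q.2.1, hWH _⟩ : H)⁻¹ * ⟨q.2.2, hWH _⟩, by
        refine ⟨Subtype.ext ?_, Subtype.ext ?_, ⟨1, ?_⟩, ?_⟩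
        · show σ ^ 2 * ((q.2.1 : G)⁻¹ * q.2.2) = (p₁ q.1 : G) * q.2.1 * ((p₁ (!q.1) : G) * q.2.2)
          have h1 := (hrefl _ (hp₁ (!q.1)) _ q.2.1.2 (hWH _)).2
          rw [← h1, ← hprod q.1]
          have h2 : (p₁ (!q.1) : G) * p₁ (!q.1) = 1 := by
            rcases hp₁ (!q.1) with e | e <;> rw [e]
            · exact D.sqτ
            · exact D.refl_sq 2
          rw [inv_eq_of_mul_eq_one_right h2,
            show (p₁ q.1 : G) * p₁ (!q.1) * (p₁ (!q.1) * q.2.1 * p₁ (!q.1) * q.2.2) =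
              p₁ q.1 * (p₁ (!q.1) * p₁ (!q.1)) * q.2.1 * (p₁ (!q.1) * q.2.2) by group, h2, mul_one]
        · show σ ^ 2 * ((q.2.1 : G)⁻¹ * q.2.2) = (q.2.1 : G)⁻¹ * q.2.2 * σ ^ 2
          exact (T.commute_z (mul_mem (inv_mem q.2.1.2.1) q.2.2.2.1)).eq.symm
        · rw [← Subgroup.orderOf_coe, hz', T.orderOf_z]; norm_num
        · rw [← Subgroup.orderOf_coe]
          exact (T.mem_W.1 (mul_mem (inv_mem q.2.1.2.1) q.2.2.2.1)).2⟩
  have hanalyse : ∀ {a : H}, IsConj (σ' ^ 2) a → Commute (a : G) (σ ^ 2) → (a : G) ≠ σ ^ 2 →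
      ∃ b : Bool, ∃ v : Wf σ (τ * σ), a = p₁ b * ⟨v, hWH v⟩ := by
    intro a ha haz hane
    obtain ⟨p, hp, v, hv, e⟩ := T.exists_decomp haz
    obtain ⟨ha2, ha1⟩ := hcinv ha
    have hpv : p⁻¹ * v * p ∈ W σ := by
      simpa using T.conj_mem (p := p⁻¹) (D.J_comm (inv_mem hp)) hv
    obtain ⟨hpp, hvv⟩ := T.decomp_unique (p := p * p) (q := 1) (v := p⁻¹ * v * p * v) (v' := 1)
      (mul_mem hp hp) (one_mem _) (mul_mem hpv hv) (one_mem _) (by
        rw [one_mul, ← show ((a : G) * a) = 1 from congrArg Subtype.val ha2, e]; group)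
    have hpY : ∀ w ∈ Wf σ τ, p * w * p⁻¹ = w := fun w hw => by
      have h1 : Commute (a : G) w := hYmem.1 (hcY ha) w hw
      have h2 : Commute p w := by
        have : Commute ((a : G) * v⁻¹) w := h1.mul_left
          (show Commute v w from T.W_comm hv hw.1).inv_left
        rwa [e, mul_inv_cancel_right] at this
      exact mul_inv_eq_iff_eq_mul.2 h2.eq
    obtain ⟨l, hl⟩ := D.cases p hp
    have hev : 2 ∣ l := by
      by_contra hd
      obtain ⟨j, hj⟩ : Odd l := by rw [← Nat.not_even_iff_odd, even_iff_two_dvd]; exact hd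
      apply hσY
      refine hYmem.2 fun w hw => mul_inv_eq_iff_eq_mul.1 ?_
      have hz : ∀ i : ℕ, (σ ^ 2) ^ i * w * ((σ ^ 2) ^ i)⁻¹ = w := fun i =>
        mul_inv_eq_iff_eq_mul.2 ((T.commute_z hw.1).symm.pow_left i).eq
      have hpw := hpY w hw
      have hσl : σ ^ l * w * (σ ^ l)⁻¹ = σ * w * σ⁻¹ := by
        rw [hj, pow_succ', pow_mul, show σ * (σ ^ 2) ^ j * w * (σ * (σ ^ 2) ^ j)⁻¹ =
          σ * ((σ ^ 2) ^ j * w * ((σ ^ 2) ^ j)⁻¹) * σ⁻¹ by group, hz]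
      rcases hl with hl | hl <;> rw [hl] at hpw
      · exact hσl.symm.trans hpw
      · rw [show τ * σ ^ l * w * (τ * σ ^ l)⁻¹ = τ * (σ ^ l * w * (σ ^ l)⁻¹) * τ⁻¹ by group, hσl] at hpw
        have h3 := (T.mem_Wf.1 hw).2
        exact mul_left_cancel (mul_right_cancel (hpw.trans h3.symm))
    have hσl : σ ^ l = 1 ∨ σ ^ l = σ ^ 2 := by
      by_cases h1 : σ ^ l = 1
      · exact Or.inl h1
      · exact Or.inr (D.eq_J h1 hev)
    have hrot : p = 1 ∨ p = σ ^ 2 → False := by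
      intro hpc
      have hcv : p⁻¹ * v * p = v := by
        rcases hpc with h1 | h1
        · rw [h1]; group
        · rw [h1, mul_assoc, (T.commute_z hv).eq, inv_mul_cancel_left]
      rw [hcv] at hvv
      have hv1 : v = 1 := by
        have h2 : orderOf v ∣ 2 := orderOf_dvd_of_pow_eq_one (by rw [pow_two]; exact hvv)
        rcases (Nat.dvd_prime Nat.prime_two).1 h2 with h2 | h2
        · exact orderOf_eq_one_iff.1 h2
        · exact absurd (dvd_of_eq h2.symm) (T.mem_W.1 hv).2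
      rw [hv1, mul_one] at e
      rcases hpc with h1 | h1
      · exact ha1 (Subtype.ext (e.trans h1))
      · exact hane (e.trans h1)
    have hp' : p = τ ∨ p = τ * σ ^ 2 := by
      rcases hl with hl | hl <;> rcases hσl with hs | hs <;> rw [hs] at hl
      · exact (hrot (Or.inl hl)).elim
      · exact (hrot (Or.inr hl)).elim
      · exact Or.inl (by rw [hl, mul_one])
      · exact Or.inr hl
    have hvm : v ∈ Wf σ (τ * σ) := by
      refine T.mem_Wf'.2 ⟨hv, ?_⟩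
      have h1 : p⁻¹ * v * p = v⁻¹ := eq_inv_of_mul_eq_one_left hvv
      rcases hp' with h2 | h2 <;> rw [h2] at h1
      · rwa [D.τ_inv] at h1 ⊢
      · rw [show (τ * σ ^ 2)⁻¹ = τ * σ ^ 2 from inv_eq_of_mul_eq_one_right (D.refl_sq 2)] at h1
        rw [show τ * σ ^ 2 * v * (τ * σ ^ 2) = τ * (σ ^ 2 * v) * (τ * σ ^ 2) by group,
          ← (T.commute_z hv).eq, show τ * (v * σ ^ 2) * (τ * σ ^ 2) = τ * v * (σ ^ 2 * τ) * σ ^ 2 by group,
          ← (D.J_comm D.memτ).eq, show τ * v * (τ * σ ^ 2) * σ ^ 2 = τ * v * τ * (σ ^ 2 * σ ^ 2) by group,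
          T.z_sq, mul_one] at h1
        rwa [D.τ_inv]
    rcases hp' with h2 | h2
    · exact ⟨true, ⟨v, hvm⟩, Subtype.ext (by rw [e, h2]; rfl)⟩
    · exact ⟨false, ⟨v, hvm⟩, Subtype.ext (by rw [e, h2]; rfl)⟩
  have hfb : Function.Bijective f := by
    refine ⟨fun q q' e => ?_, fun r => ?_⟩
    · obtain ⟨b, u, v⟩ := q
      obtain ⟨b', u', v'⟩ := q'
      have e1 : (p₁ b : G) * u = p₁ b' * u' := congrArg (fun r => ((r.1.1 : H) : G)) e
      have e2 : (p₁ (!b) : G) * v = p₁ (!b') * v' := congrArg (fun r => ((r.1.2 : H) : G)) e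
      obtain ⟨h1, h2⟩ := T.decomp_unique (hp₁P b) (hp₁P b') u.2.1 u'.2.1 e1
      obtain ⟨-, h3⟩ := T.decomp_unique (hp₁P _) (hp₁P _) v.2.1 v'.2.1 e2
      have hb : b = b' := by
        cases b <;> cases b' <;> simp only [p₁, Bool.false_eq_true, if_false, if_true] at h1 <;>
          first
            | rfl
            | exact absurd (show τ * σ ^ 2 = τ * 1 from h1.trans (mul_one τ).symm)
                (fun h => D.sigma_h_ne (mul_left_cancel h))
            | exact absurd (show τ * 1 = τ * σ ^ 2 from (mul_one τ).trans h1)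
                (fun h => D.sigma_h_ne (mul_left_cancel h).symm)
      subst hb
      rw [Subtype.ext h2, Subtype.ext h3]
    · obtain ⟨⟨a, b⟩, ha, hb, hpart⟩ := r
      obtain ⟨ha2, ha1⟩ := hcinv ha
      obtain ⟨hb2, hb1⟩ := hcinv hb
      have hai : a⁻¹ = a := inv_eq_of_mul_eq_one_right ha2
      have hbi : b⁻¹ = b := inv_eq_of_mul_eq_one_right hb2
      obtain ⟨y, hy, hc, hvp, hy2⟩ := hpart
      have hinv : IsPPart 2 (a * b)⁻¹ (σ' ^ 2)⁻¹ := ⟨y⁻¹, by rw [← hy, mul_inv_rev, hc.inv_inv.eq],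
        hc.inv_inv, by simpa [orderOf_inv] using hvp, by rwa [orderOf_inv]⟩
      have h1 := isPPart_conj ⟨y, hy, hc, hvp, hy2⟩ a
      rw [show a * (a * b) * a⁻¹ = (a * b)⁻¹ by
        rw [mul_inv_rev, hbi, hai, ← mul_assoc, ha2, one_mul]] at h1
      have haz' : a * σ' ^ 2 * a⁻¹ = (σ' ^ 2)⁻¹ := isPPart_unique Nat.prime_two h1 hinv
      rw [inv_eq_of_mul_eq_one_right D'.sigma_h_sq] at haz'
      have haz : Commute (a : G) (σ ^ 2) :=
        congrArg Subtype.val (mul_inv_eq_iff_eq_mul.1 haz')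
      have hab : (a : G) * b = σ ^ 2 * y := congrArg Subtype.val hy.symm
      have hyz : Commute (y : G) (σ ^ 2) := (congrArg Subtype.val hc.eq).symm
      have hbe : (b : G) = (a : G) * (σ ^ 2 * y) := by
        rw [← hab, ← mul_assoc, show (a : G) * a = 1 from congrArg Subtype.val ha2, one_mul]
      have hbz : Commute (b : G) (σ ^ 2) := by
        rw [hbe]; exact haz.mul_left ((Commute.refl _).mul_left hyz)
      have hane : (a : G) ≠ σ ^ 2 := by
        intro e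
        have hby : b = y := Subtype.ext (by rw [hbe, e, ← mul_assoc, T.z_sq, one_mul])
        exact hy2 (hby ▸ dvd_of_eq (orderOf_eq_prime (by rw [pow_two]; exact hb2) hb1).symm)
      have hbne : (b : G) ≠ σ ^ 2 := by
        intro e
        have hay : a = y := Subtype.ext (by
          have h2 : (a : G) * σ ^ 2 = y * σ ^ 2 := by rw [hyz.eq, ← hab, e]
          exact mul_right_cancel h2)
        exact hy2 (hay ▸ dvd_of_eq (orderOf_eq_prime (by rw [pow_two]; exact ha2) ha1).symm)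
      obtain ⟨c, u, hau⟩ := hanalyse ha haz hane
      obtain ⟨d, v, hbv⟩ := hanalyse hb hbz hbne
      have hyW : (y : G) ∈ W σ := T.mem_W.2 ⟨hyz, by rwa [Subgroup.orderOf_coe]⟩
      dsimp only at hau hbv
      have hdc : d = !c := by
        have h2 := (hrefl _ (hp₁ d) _ u.2 (hWH _)).2
        have h3 : (p₁ d : G)⁻¹ = p₁ d := by
          rcases hp₁ d with e | e <;> rw [e]
          · exact D.τ_inv
          · exact inv_eq_of_mul_eq_one_right (D.refl_sq 2)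
        have h4 : (p₁ c : G) * p₁ d * ((u : G)⁻¹ * v) = σ ^ 2 * y := by
          rw [← hab, hau, hbv, ← h2, h3]
          show _ = (p₁ c : G) * u * ((p₁ d : G) * v)
          have h5 : (p₁ d : G) * p₁ d = 1 := by nth_rewrite 2 [← h3]; exact mul_inv_cancel _
          rw [show (p₁ c : G) * p₁ d * (p₁ d * u * p₁ d * v) = p₁ c * (p₁ d * p₁ d) * u * (p₁ d * v) by
            group, h5, mul_one]
        obtain ⟨h6, -⟩ := T.decomp_unique (mul_mem (hp₁P c) (hp₁P d)) (pow_mem D.memσ 2)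
          (mul_mem (inv_mem u.2.1) v.2.1) hyW h4
        have h7 : (p₁ d : G) = p₁ (!c) := mul_left_cancel (h6.trans (hprod c).symm)
        cases c <;> cases d <;> simp only [p₁, Bool.not_false, Bool.not_true, Bool.false_eq_true, if_false, if_true] at h7 ⊢
        · exact absurd (show τ * σ ^ 2 = τ * 1 from h7.trans (mul_one τ).symm)
            (fun h => D.sigma_h_ne (mul_left_cancel h))
        · exact absurd (show τ * 1 = τ * σ ^ 2 from (mul_one τ).trans h7)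
            (fun h => D.sigma_h_ne (mul_left_cancel h).symm)
      subst hdc
      exact ⟨(c, u, v), Subtype.ext (Prod.ext hau.symm hbv.symm)⟩
  have hPJ : Nat.card (pairsAt (σ' ^ 2) (σ' ^ 2)) = 2 * Nat.card (Wf σ (τ * σ)) ^ 2 := by
    rw [← Nat.card_eq_of_bijective f hfb, Nat.card_prod, Nat.card_prod,
      Nat.card_eq_fintype_card (α := Bool), Fintype.card_bool, pow_two]
  obtain ⟨x, δ, hδ, hx, hxd, hform⟩ := formula_of_no_pairs D' hM h0
  refine ⟨x, δ, hδ, hx, hxd, ?_⟩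
  have hc : Nat.card (centralizer ({σ' ^ 2} : Set H)) =
      8 * (Nat.card (Wf σ τ) * Nat.card (Wf σ (τ * σ))) := by
    rw [← T.card_W, ← T.card_centralizer_z]
    refine Nat.card_congr
      { toFun := fun a => ⟨((a : H) : G), mem_centralizer_singleton_iff.2
          (congrArg Subtype.val (mem_centralizer_singleton_iff.1 a.2))⟩
        invFun := fun a => ⟨⟨a, hCH a.2⟩, mem_centralizer_singleton_iff.2
          (Subtype.ext (mem_centralizer_singleton_iff.1 a.2))⟩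
        left_inv := fun a => rfl
        right_inv := fun a => rfl }
  rw [hform, hc, hPJ]
  push_cast
  ring

end Setting

end CfsgLib.Char.SmallCent
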