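import Cfsg.Agent.Lib.Char.SmallCent.Card2520
import Cfsg.Agent.Lib.Char.SmallCent.Normal

/-!
# A simple group of order 2520 has no elementary abelian Sylow 2-subgroup

An element of order seven of the normalizer permutes the involutions of `S` transitively and
`C(S) = S`.  Some four-subgroup of `S` centralizes a nontrivial 3-element, so three of them through
each involution do; these give four Sylow subgroups in an involution centralizer, or a 3-group
on which a four-group would act without room.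
-/

set_option autoImplicit false
set_option linter.unusedSectionVars false
set_option linter.style.haveILetI false

namespace CfsgLib.Char.SmallCent.C2520

open Subgroup

universe u

variable {G : Type u} [Group G] [Finite G]

/-- The data: an elementary abelian Sylow subgroup and an element of order seven normalizing it. -/
structure Elem (S : Sylow 2 G) (x : G) : Prop where
  card : Nat.card G = 2520
  card_S : Nat.card (S : Subgroup G) = 8
  sq : ∀ y ∈ (S : Subgroup G), y * y = 1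
  memx : x ∈ normalizer ((S : Subgroup G) : Set G)
  ordx : orderOf x = 7

theorem elem_comm (S : Sylow 2 G) (he : ∀ y ∈ (S : Subgroup G), y * y = 1) :
    ∀ y ∈ (S : Subgroup G), ∀ y' ∈ (S : Subgroup G), y * y' = y' * y := by
  intro y hy y' hy'
  have e : ∀ z ∈ (S : Subgroup G), z⁻¹ = z := fun z hz => inv_eq_of_mul_eq_one_right (he z hz)
  rw [← e _ (mul_mem hy hy'), mul_inv_rev, e y hy, e y' hy']

theorem exists_elem [IsSimpleGroup G] (h : Nat.card G = 2520) (S : Sylow 2 G)
    (he : ∀ y ∈ (S : Subgroup G), y * y = 1) : ∃ x, Elem S x := by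
  classical
  haveI : Fact (Nat.Prime 2) := ⟨Nat.prime_two⟩
  haveI : Fact (Nat.Prime 3) := ⟨Nat.prime_three⟩
  haveI : Fact (Nat.Prime 5) := ⟨by norm_num⟩
  haveI : Fact (Nat.Prime 7) := ⟨by norm_num⟩
  have hS := card_sylow_two h S
  have hc := elem_comm S he
  set N := normalizer ((S : Subgroup G) : Set G) with hN
  have hSN : (S : Subgroup G) ≤ N := le_normalizer
  suffices h7 : 7 ∣ Nat.card N by
    obtain ⟨y, hy⟩ := exists_prime_orderOf_dvd_card' 7 h7
    exact ⟨y, h, hS, he, y.2, by rw [Subgroup.orderOf_coe, hy]⟩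
  by_contra h7
  have h5 : ¬ 5 ∣ Nat.card N := by
    intro hd
    obtain ⟨y, hy⟩ := exists_prime_orderOf_dvd_card' 5 hd
    rw [← Subgroup.orderOf_coe] at hy
    obtain ⟨v, hv, hv1, hfix⟩ := exists_fixed (S : Subgroup G) (p := 5) (zpowers (y : G))
      (IsPGroup.of_card (n := 1) (by rw [Nat.card_zpowers, hy, pow_one])) (zpowers_le.2 y.2)
      (by rw [hS]; norm_num)
    exact hv1 (eq_one_of_commute h (Or.inl hy) (hfix _ (mem_zpowers _)) (k := 2)
      (by rw [pow_two]; exact he v hv) (by norm_num))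
  obtain ⟨r, hr⟩ : 8 ∣ Nat.card N := hS ▸ card_dvd_of_le hSN
  have hr9 : r ∣ 9 := by
    have h1 : 8 * r ∣ 8 * (9 * 35) := hr ▸ (Subgroup.card_subgroup_dvd_card N).trans (by rw [h])
    refine Nat.Coprime.dvd_of_dvd_mul_right ?_ (Nat.dvd_of_mul_dvd_mul_left (by norm_num) h1)
    rw [show (35 : ℕ) = 5 * 7 from rfl]
    exact Nat.Coprime.mul_right
      (((Nat.Prime.coprime_iff_not_dvd (by norm_num)).2 fun hd => h5 (hr ▸ hd.mul_left 8)).symm)
      (((Nat.Prime.coprime_iff_not_dvd (by norm_num)).2 fun hd => h7 (hr ▸ hd.mul_left 8)).symm)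
  obtain ⟨i, -, rfl⟩ := (Nat.dvd_prime_pow Nat.prime_three).1 (show r ∣ 3 ^ 2 from hr9)
  obtain ⟨T0, hT0⟩ := Sylow.exists_subgroup_card_pow_prime (G := N) 3 (n := i) ⟨8, by rw [hr]; ring⟩
  have hcardT : Nat.card (T0.map N.subtype) = 3 ^ i := by
    rw [card_map_of_injective N.subtype_injective, hT0]
  obtain ⟨v, hv, hv1, hfix⟩ := exists_fixed (S : Subgroup G) (p := 3) (T0.map N.subtype)
    (IsPGroup.of_card hcardT) (fun t ⟨s, _, e⟩ => e ▸ s.2) (by rw [hS]; norm_num)
  refine false_of_central (not_commutative h) S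
    ⟨⟨fun a b => Subtype.ext (hc a a.2 b b.2)⟩⟩ hv hv1 fun g hg => ?_
  set C : Subgroup N := (centralizer ({v} : Set G)).subgroupOf N
  have hS' : (S : Subgroup G).subgroupOf N ≤ C := fun s hs =>
    mem_subgroupOf.2 (mem_cent.2 (hc _ hs v hv))
  have hT' : T0 ≤ C := fun t ht =>
    mem_subgroupOf.2 (mem_cent.2 (hfix _ ⟨t, ht, rfl⟩))
  have hd8 : 8 ∣ Nat.card C := by
    have h1 := card_dvd_of_le hS'
    rwa [Nat.card_congr (subgroupOfEquivOfLe hSN).toEquiv, hS] at h1
  have hd3 : 3 ^ i ∣ Nat.card C := hT0 ▸ card_dvd_of_le hT'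
  have hd : Nat.card N ∣ Nat.card C :=
    hr ▸ Nat.Coprime.mul_dvd_of_dvd_of_dvd (Nat.Coprime.pow_right i (by norm_num)) hd8 hd3
  have htop : C = ⊤ := eq_top_of_le_card C (Nat.le_of_dvd Nat.card_pos hd)
  have : (⟨g, hg⟩ : N) ∈ C := htop ▸ mem_top _
  exact mem_cent.1 this

namespace Elem

variable [IsSimpleGroup G] {S : Sylow 2 G} {x : G} (E : Elem S x)
include E

theorem comm {y y' : G} (hy : y ∈ (S : Subgroup G)) (hy' : y' ∈ (S : Subgroup G)) : y * y' = y' * y :=
  elem_comm S E.sq y hy y' hy'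

theorem conj_mem {g y : G} (hg : g ∈ normalizer ((S : Subgroup G) : Set G))
    (hy : y ∈ (S : Subgroup G)) : g * y * g⁻¹ ∈ (S : Subgroup G) :=
  (Subgroup.mem_normalizer_iff.1 hg y).1 hy

theorem inv_of_conj {g y v : G} (e : g * y * g⁻¹ = v) : g⁻¹ * v * g = y := by
  rw [← e]; group

/-- A power of `x` fixing an involution of `S` is trivial. -/
theorem no_fix {v : G} (hv : v ∈ (S : Subgroup G)) (hv1 : v ≠ 1) {n : ℕ}
    (hfix : x ^ n * v * (x ^ n)⁻¹ = v) : 7 ∣ n := by
  by_contra hd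
  have ho : orderOf (x ^ n) = 7 := by
    rw [Nat.Coprime.orderOf_pow, E.ordx]
    rw [E.ordx]
    exact (Nat.Prime.coprime_iff_not_dvd (by norm_num)).2 hd
  exact hv1 (eq_one_of_commute E.card (Or.inr ho) (mul_inv_eq_iff_eq_mul.1 hfix) (k := 2)
    (by rw [pow_two]; exact E.sq v hv) (by norm_num))

theorem pow_mem_normalizer (n : ℕ) : x ^ n ∈ normalizer ((S : Subgroup G) : Set G) :=
  pow_mem E.memx n

theorem conj_inj {v : G} (hv : v ∈ (S : Subgroup G)) (hv1 : v ≠ 1) {i j : ℕ} (hi : i < 7) (hj : j < 7)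
    (e : x ^ i * v * (x ^ i)⁻¹ = x ^ j * v * (x ^ j)⁻¹) : i = j := by
  wlog hle : i ≤ j generalizing i j
  · exact (this hj hi e.symm (le_of_not_ge hle)).symm
  obtain ⟨d, rfl⟩ := Nat.exists_eq_add_of_le hle
  have h1 : x ^ d * v * (x ^ d)⁻¹ = v := by
    rw [pow_add] at e
    have e' : x ^ i * v * (x ^ i)⁻¹ = x ^ i * (x ^ d * v * (x ^ d)⁻¹) * (x ^ i)⁻¹ := by rw [e]; group
    exact (mul_left_cancel (mul_right_cancel e')).symm
  have := E.no_fix hv hv1 h1
  omega

theorem transitive {v w : G} (hv : v ∈ (S : Subgroup G)) (hv1 : v ≠ 1) (hw : w ∈ (S : Subgroup G))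
    (hw1 : w ≠ 1) : ∃ i < 7, x ^ i * v * (x ^ i)⁻¹ = w := by
  classical
  haveI := Fintype.ofFinite (S : Subgroup G)
  let f : Fin 7 → Pts (S : Subgroup G) := fun i =>
    ⟨⟨_, E.conj_mem (E.pow_mem_normalizer i) hv⟩, fun e =>
      hv1 (conj_eq_one_iff.1 (congrArg Subtype.val e))⟩
  have hf : Function.Bijective f := (Nat.bijective_iff_injective_and_card f).2
    ⟨fun i j e => Fin.ext (E.conj_inj hv hv1 i.2 j.2 (congrArg (fun z : Pts (S : Subgroup G) => (z.1 : G)) e)), by
      rw [Nat.card_fin, Nat.card_eq_fintype_card, Fintype.card_subtype_compl, Fintype.card_subtype_eq,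
        ← Nat.card_eq_fintype_card, E.card_S]⟩
  obtain ⟨i, hi⟩ := hf.2 ⟨⟨w, hw⟩, fun e => hw1 (congrArg Subtype.val e)⟩
  exact ⟨i, i.2, congrArg (fun z : Pts (S : Subgroup G) => (z.1 : G)) hi⟩

theorem exists_pt : ∃ v ∈ (S : Subgroup G), v ≠ 1 := by
  haveI : Nontrivial (S : Subgroup G) := Finite.one_lt_card_iff_nontrivial.1 (by rw [E.card_S]; norm_num)
  obtain ⟨v, hv⟩ := exists_ne (1 : (S : Subgroup G))
  exact ⟨v, v.2, fun e => hv (Subtype.ext e)⟩

theorem dvd_of_commute {t : G} (ht : t ∈ (S : Subgroup G)) (ht1 : t ≠ 1) (H : Subgroup G)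
    (hH : ∀ y ∈ H, Commute y t) : Nat.card H ∣ 72 :=
  dvd_seventy_two E.card ht1 (k := 2) (by rw [pow_two]; exact E.sq t ht) (by norm_num) H hH

theorem cent_eq {y : G} (hy : ∀ u ∈ (S : Subgroup G), y * u = u * y) : y ∈ (S : Subgroup G) := by
  classical
  haveI : Fact (Nat.Prime 2) := ⟨Nat.prime_two⟩
  haveI : Fact (Nat.Prime 7) := ⟨by norm_num⟩
  set C := centralizer ((S : Subgroup G) : Set G)
  have hSC : (S : Subgroup G) ≤ C := fun a ha => Subgroup.mem_centralizer_iff.2 fun b hb => E.comm hb ha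
  obtain ⟨t, htS, ht1⟩ := E.exists_pt
  have h72 : Nat.card C ∣ 72 := E.dvd_of_commute htS ht1 C fun c hc =>
    ((Subgroup.mem_centralizer_iff.1 hc) t htS).symm
  set S' := S.subtype hSC
  have hnc : normalizer ((S' : Subgroup C) : Set C) ≤ centralizer ((S' : Subgroup C) : Set C) :=
    fun g _ => Subgroup.mem_centralizer_iff.2 fun s hs =>
      Subtype.ext ((Subgroup.mem_centralizer_iff.1 g.2) s hs)
  set π := MonoidHom.transferSylow S' hnc
  have hcmp := MonoidHom.ker_transferSylow_isComplement' S' hnc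
  have hS'card : Nat.card (S' : Subgroup C) = 8 :=
    (Nat.card_congr (subgroupOfEquivOfLe hSC).toEquiv).trans E.card_S
  have hmul : Nat.card π.ker * 8 = Nat.card C := by rw [← hS'card]; exact hcmp.card_mul
  have hk9 : Nat.card π.ker ∣ 9 := by
    rw [← hmul] at h72
    exact Nat.dvd_of_mul_dvd_mul_right (by norm_num) (show Nat.card π.ker * 8 ∣ 9 * 8 from h72)
  have hker : ∀ c : C, (c : G) ^ 9 = 1 ↔ c ∈ π.ker := by
    intro c
    constructor
    · intro hc
      rw [MonoidHom.mem_ker]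
      have h9 : π c ^ 9 = 1 := by
        rw [← map_pow, show c ^ 9 = 1 from Subtype.ext (by simpa using hc), map_one]
      have h8 : π c ^ 8 = 1 := hS'card ▸ pow_card_eq_one'
      exact orderOf_eq_one_iff.1 (Nat.eq_one_of_dvd_coprimes (by norm_num : Nat.Coprime 9 8)
        (orderOf_dvd_of_pow_eq_one h9) (orderOf_dvd_of_pow_eq_one h8))
    · intro hc
      have h1 : (⟨c, hc⟩ : π.ker) ^ 9 = 1 :=
        orderOf_dvd_iff_pow_eq_one.1 ((_root_.orderOf_dvd_natCard _).trans hk9)
      have := congrArg (fun z : π.ker => ((z : C) : G)) h1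
      simpa using this
  set K := π.ker.map C.subtype
  have hKcard : Nat.card K = Nat.card π.ker := card_map_of_injective C.subtype_injective
  have hxK : zpowers x ≤ normalizer (K : Set G) := by
    refine zpowers_le.2 (mem_normalizer_of_conj fun a ha => ?_)
    obtain ⟨c, hc, rfl⟩ := ha
    have hmem : x * (c : G) * x⁻¹ ∈ C := Subgroup.mem_centralizer_iff.2 fun b hb => by
      have hb' : x⁻¹ * b * x ∈ (S : Subgroup G) := by
        simpa using E.conj_mem (inv_mem E.memx) hb
      have h1 := ((Subgroup.mem_centralizer_iff.1 c.2) _ hb')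
      have h2 := congrArg (fun z => x * z * x⁻¹) h1
      simpa [mul_assoc] using h2
    refine ⟨⟨_, hmem⟩, (hker _).1 ?_, rfl⟩
    show (x * (c : G) * x⁻¹) ^ 9 = 1
    rw [conj_pow, (hker c).2 hc, mul_one, mul_inv_cancel]
  have hk1 : Nat.card π.ker = 1 := by
    by_contra hne
    obtain ⟨v, hv, hv1, hfix⟩ := exists_fixed K (p := 7) (zpowers x)
      (IsPGroup.of_card (n := 1) (by rw [Nat.card_zpowers, E.ordx, pow_one])) hxK (by
        rw [hKcard]
        obtain ⟨j, hj, e⟩ := (Nat.dvd_prime_pow Nat.prime_three).1 (show _ ∣ 3 ^ 2 from hk9)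
        rw [e] at hne ⊢
        interval_cases j <;> simp_all)
    obtain ⟨c, hc, rfl⟩ := hv
    exact hv1 (eq_one_of_commute E.card (Or.inr E.ordx) (hfix x (mem_zpowers x)) (k := 9)
      ((hker c).2 hc) (by norm_num))
  have hCS : (S : Subgroup G) = C := eq_of_le_of_card_ge hSC (by rw [E.card_S]; omega)
  rw [hCS]
  exact Subgroup.mem_centralizer_iff.2 fun b hb => (hy b hb).symm

theorem eq_one_of_fix_all {q : G} (hq : q ^ 9 = 1) (hf : ∀ u ∈ (S : Subgroup G), q * u = u * q) :
    q = 1 := by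
  have h2 : q ^ 2 = 1 := by rw [pow_two]; exact E.sq q (E.cent_eq hf)
  exact orderOf_eq_one_iff.1 (Nat.eq_one_of_dvd_coprimes (by norm_num : Nat.Coprime 9 2)
    (orderOf_dvd_of_pow_eq_one hq) (orderOf_dvd_of_pow_eq_one h2))

/-- The normalizer and the stabilizer of an involution. -/
theorem card_stab {v : G} (hv : v ∈ (S : Subgroup G)) (hv1 : v ≠ 1) :
    Nat.card (normalizer ((S : Subgroup G) : Set G)) =
        7 * Nat.card (normalizer ((S : Subgroup G) : Set G) ⊓ centralizer ({v} : Set G) : Subgroup G) ∧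
      (Nat.card (normalizer ((S : Subgroup G) : Set G) ⊓ centralizer ({v} : Set G) : Subgroup G) = 8 ∨
        Nat.card (normalizer ((S : Subgroup G) : Set G) ⊓ centralizer ({v} : Set G) : Subgroup G) = 24) := by
  classical
  haveI : Fact (Nat.Prime 3) := ⟨Nat.prime_three⟩
  set N := normalizer ((S : Subgroup G) : Set G)
  set M : Subgroup G := N ⊓ centralizer ({v} : Set G) with hM
  constructor
  · have hmem : ∀ p : Fin 7 × M, x ^ (p.1 : ℕ) * (p.2 : G) ∈ N := fun p =>
      mul_mem (E.pow_mem_normalizer _) p.2.2.1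
    let f : Fin 7 × M → N := fun p => ⟨_, hmem p⟩
    have hf : Function.Bijective f := by
      refine ⟨fun a b e => ?_, fun g => ?_⟩
      · have e' : x ^ (a.1 : ℕ) * (a.2 : G) = x ^ (b.1 : ℕ) * (b.2 : G) := congrArg Subtype.val e
        have hconj : ∀ c : Fin 7 × M, x ^ (c.1 : ℕ) * v * (x ^ (c.1 : ℕ))⁻¹ =
            (x ^ (c.1 : ℕ) * (c.2 : G)) * v * (x ^ (c.1 : ℕ) * (c.2 : G))⁻¹ := fun c => by
          have hcv : (c.2 : G) * v * (c.2 : G)⁻¹ = v := mul_inv_eq_iff_eq_mul.2 (mem_cent.1 c.2.2.2)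
          conv_lhs => rw [← hcv]
          group
        have hij := E.conj_inj hv hv1 a.1.2 b.1.2 (by rw [hconj a, hconj b, e'])
        rw [hij] at e'
        exact Prod.ext (Fin.ext hij) (Subtype.ext (mul_left_cancel e'))
      · obtain ⟨i, hi, ei⟩ := E.transitive hv hv1 (E.conj_mem g.2 hv)
          (fun e => hv1 (conj_eq_one_iff.1 e))
        have hm : (x ^ i)⁻¹ * (g : G) ∈ M := ⟨N.mul_mem (N.inv_mem (E.pow_mem_normalizer i)) g.2, by
          refine mem_cent.2 (mul_inv_eq_iff_eq_mul.1 ?_)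
          rw [show (x ^ i)⁻¹ * (g : G) * v * ((x ^ i)⁻¹ * (g : G))⁻¹ =
            (x ^ i)⁻¹ * ((g : G) * v * (g : G)⁻¹) * x ^ i by group, ← ei]
          group⟩
        exact ⟨(⟨i, hi⟩, ⟨_, hm⟩), Subtype.ext (mul_inv_cancel_left (x ^ i) (g : G))⟩
    rw [← Nat.card_eq_of_bijective f hf, Nat.card_prod, Nat.card_fin]
  · have h72 : Nat.card M ∣ 72 := E.dvd_of_commute hv hv1 M fun y hy => mem_cent.1 hy.2
    have h8 : 8 ∣ Nat.card M := E.card_S ▸ card_dvd_of_le
      (le_inf le_normalizer fun a ha => mem_cent.2 (E.comm ha hv))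
    obtain ⟨r, hr⟩ := h8
    rw [hr] at h72 ⊢
    obtain ⟨j, hj, rfl⟩ := (Nat.dvd_prime_pow Nat.prime_three).1
      (show r ∣ 3 ^ 2 from Nat.dvd_of_mul_dvd_mul_left (by norm_num) (show 8 * r ∣ 8 * 9 from h72))
    rcases Nat.lt_or_ge j 2 with hj2 | hj2
    · interval_cases j <;> norm_num
    exfalso
    obtain rfl : j = 2 := by omega
    obtain ⟨T, hT⟩ := Sylow.exists_subgroup_card_pow_prime (G := M) 3 (n := 2) ⟨8, by rw [hr]; ring⟩
    obtain ⟨w, hw, hw1, hwv⟩ : ∃ w ∈ (S : Subgroup G), w ≠ 1 ∧ w ≠ v := by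
      obtain ⟨i, hi, -⟩ := E.transitive hv hv1 hv hv1
      refine ⟨_, E.conj_mem (E.pow_mem_normalizer 1) hv, fun e => hv1 (conj_eq_one_iff.1 e),
        fun e => ?_⟩
      have := E.no_fix hv hv1 e
      omega
    let f : T → (S : Subgroup G) := fun t => ⟨((t : M) : G) * w * ((t : M) : G)⁻¹, E.conj_mem (t : M).2.1 hw⟩
    have hf : Function.Injective f := by
      intro a b e
      have e' : ((a : M) : G) * w * ((a : M) : G)⁻¹ = ((b : M) : G) * w * ((b : M) : G)⁻¹ :=
        congrArg Subtype.val e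
      set c : T := b⁻¹ * a
      have hc9 : ((c : M) : G) ^ 9 = 1 := by
        have h1 : c ^ 9 = 1 := by rw [show (9 : ℕ) = Nat.card T by rw [hT]; norm_num]; exact pow_card_eq_one'
        have := congrArg (fun z : T => ((z : M) : G)) h1
        simpa using this
      have hcw : ((c : M) : G) * w = w * ((c : M) : G) := by
        refine mul_inv_eq_iff_eq_mul.1 ?_
        show ((b : M) : G)⁻¹ * ((a : M) : G) * w * (((b : M) : G)⁻¹ * ((a : M) : G))⁻¹ = w
        rw [show ((b : M) : G)⁻¹ * ((a : M) : G) * w * (((b : M) : G)⁻¹ * ((a : M) : G))⁻¹ =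
          ((b : M) : G)⁻¹ * (((a : M) : G) * w * ((a : M) : G)⁻¹) * ((b : M) : G) by group, e']
        group
      have hc1 := E.eq_one_of_fix_all hc9 (commute_of_two_fixed S E.card_S (t := ((c : M) : G)) (i := 2)
        hc9 (c : M).2.1 hv hw hv1 hw1 (Ne.symm hwv) (mem_cent.1 (c : M).2.2) hcw)
      have : c = 1 := Subtype.ext (Subtype.ext hc1)
      exact (inv_mul_eq_one.1 this).symm
    have := Nat.card_le_card_of_injective f hf
    rw [hT, E.card_S] at this
    norm_num at this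

end Elem

end CfsgLib.Char.SmallCent.C2520
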