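import Cfsg.Agent.Lib.Char.SmallCent.Card2520Elementary

/-!
# No elementary abelian Sylow 2-subgroup in order 2520: the contradiction
-/

set_option autoImplicit false
set_option linter.unusedSectionVars false
set_option linter.style.haveILetI false

namespace CfsgLib.Char.SmallCent.C2520

open Subgroup

universe u

variable {G : Type u} [Group G] [Finite G]

/-- If some orbit of a Sylow subgroup on the others is short, two Sylow subgroups meet in a large
subgroup. -/
theorem exists_inter (S : Sylow 2 G) {d : ℕ} (hd : ¬ d ∣ Nat.card (Sylow 2 G) - 1) :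
    ∃ R : Sylow 2 G, R ≠ S ∧
      ¬ d ∣ Nat.card (S : Subgroup G) / Nat.card ((S : Subgroup G) ⊓ R : Subgroup G) := by
  classical
  haveI : Fact (Nat.Prime 2) := ⟨Nat.prime_two⟩
  by_contra hcon
  push Not at hcon
  have hfix : ∀ s : (S : Subgroup G), s • S = S := fun s =>
    Sylow.smul_eq_iff_mem_normalizer.2 (le_normalizer s.2)
  letI act : MulAction (S : Subgroup G) {R : Sylow 2 G // R ≠ S} :=
    { smul := fun s R => ⟨s • R.1, fun e => R.2 (MulAction.injective s (e.trans (hfix s).symm))⟩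
      one_smul := fun R => Subtype.ext (one_smul _ R.1)
      mul_smul := fun a b R => Subtype.ext (mul_smul a b R.1) }
  apply hd
  haveI := Fintype.ofFinite (Sylow 2 G)
  haveI := Fintype.ofFinite {R : Sylow 2 G // R ≠ S}
  haveI := Fintype.ofFinite (MulAction.orbitRel.Quotient (S : Subgroup G) {R : Sylow 2 G // R ≠ S})
  rw [show Nat.card (Sylow 2 G) - 1 = Nat.card {R : Sylow 2 G // R ≠ S} by
    rw [Nat.card_eq_fintype_card, Nat.card_eq_fintype_card, Fintype.card_subtype_compl,
      Fintype.card_subtype_eq],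
    Nat.card_congr (MulAction.selfEquivSigmaOrbits (S : Subgroup G) {R : Sylow 2 G // R ≠ S}),
    Nat.card_sigma]
  refine Finset.dvd_sum fun ω _ => ?_
  set R := Quotient.out ω
  have h1 := (MulAction.stabilizer (S : Subgroup G) R).card_mul_index
  rw [MulAction.index_stabilizer] at h1
  have h2 : Nat.card (MulAction.stabilizer (S : Subgroup G) R) =
      Nat.card ((S : Subgroup G) ⊓ R.1 : Subgroup G) := by
    refine Nat.card_congr
      { toFun := fun s => ⟨(s.1 : G), ?_⟩
        invFun := fun y => ⟨⟨y.1, y.2.1⟩, ?_⟩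
        left_inv := fun s => rfl
        right_inv := fun y => rfl }
    · have e : (s.1 : G) • R.1 = R.1 := congrArg Subtype.val (MulAction.mem_stabilizer_iff.1 s.2)
      exact (le_of_eq (S.2.inf_normalizer_sylow R.1)) ⟨s.1.2, Sylow.smul_eq_iff_mem_normalizer.1 e⟩
    · exact MulAction.mem_stabilizer_iff.2 (Subtype.ext
        (Sylow.smul_eq_iff_mem_normalizer.2 (le_normalizer y.2.2) : (y.1 : G) • R.1 = R.1))
  rw [h2, ← Nat.card_coe_set_eq] at h1
  have h3 := hcon R.1 R.2
  rw [← h1, Nat.mul_div_cancel_left _ Nat.card_pos] at h3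
  convert h3 using 2

/-- A four-subgroup of `S` centralized by a nontrivial 3-element. -/
def Cent (S : Sylow 2 G) (q : G) : Subgroup G := (S : Subgroup G) ⊓ centralizer ({q} : Set G)

namespace Elem

variable [IsSimpleGroup G] {S : Sylow 2 G} {x : G} (E : Elem S x)
include E

theorem cent_card {q : G} (hq : q ^ 9 = 1) (hq1 : q ≠ 1) {u v : G} (hu : u ∈ Cent S q)
    (hv : v ∈ Cent S q) (hu1 : u ≠ 1) (hv1 : v ≠ 1) (huv : u ≠ v) : Nat.card (Cent S q) = 4 := by
  have hd : Nat.card (Cent S q) ∣ 8 := E.card_S ▸ card_dvd_of_le inf_le_left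
  have h3 : 3 ≤ Nat.card (Cent S q) := by
    let f : Fin 3 → Cent S q := ![1, ⟨u, hu⟩, ⟨v, hv⟩]
    have hf : Function.Injective f := by
      intro i j e
      have e' := congrArg (fun z : Cent S q => (z : G)) e
      clear e hq
      fin_cases i <;> fin_cases j <;> simp_all [f, eq_comm]
    exact (Nat.card_fin 3).symm.le.trans (Nat.card_le_card_of_injective f hf)
  have h8 : Nat.card (Cent S q) ≠ 8 := by
    intro e
    have hK : Cent S q = (S : Subgroup G) := eq_of_le_of_card_ge inf_le_left (by rw [e, E.card_S])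
    refine hq1 (E.eq_one_of_fix_all hq fun a ha => ?_)
    rw [← hK] at ha
    exact (mem_cent.1 ha.2).symm
  obtain ⟨i, hi, e⟩ := (Nat.dvd_prime_pow Nat.prime_two).1 (show _ ∣ 2 ^ 3 from hd)
  rw [e] at h3 h8 ⊢
  interval_cases i <;> simp_all

theorem exists_cent : ∃ q, q ^ 9 = 1 ∧ q ≠ 1 ∧ Nat.card (Cent S q) = 4 := by
  classical
  haveI : Fact (Nat.Prime 2) := ⟨Nat.prime_two⟩
  haveI : Fact (Nat.Prime 3) := ⟨Nat.prime_three⟩
  obtain ⟨t₀, ht₀, ht₀1⟩ := E.exists_pt
  obtain ⟨hN7, hs⟩ := E.card_stab ht₀ ht₀1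
  have hn2 : Nat.card (Sylow 2 G) * Nat.card (normalizer ((S : Subgroup G) : Set G)) = 2520 := by
    rw [S.card_eq_index_normalizer]
    exact (normalizer ((S : Subgroup G) : Set G)).index_mul_card.trans E.card
  -- the two cases
  rcases hs with hs | hs
  · rw [hN7, hs] at hn2
    obtain ⟨R, hRS, hR⟩ := exists_inter S (d := 8) (by
      rw [show Nat.card (Sylow 2 G) = 45 by omega]; norm_num)
    obtain ⟨t, htR, ht1⟩ : ∃ t ∈ ((S : Subgroup G) ⊓ R : Subgroup G), t ≠ 1 := by
      by_contra hcon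
      push Not at hcon
      rw [(Subgroup.eq_bot_iff_forall _).2 hcon, card_bot, E.card_S] at hR
      exact hR (dvd_refl 8)
    have htS := htR.1
    set M := centralizer ({t} : Set G) with hM
    have hSM : (S : Subgroup G) ≤ M := fun a ha => mem_cent.2 (E.comm ha htS)
    set S' := S.subtype hSM
    have hstab : (normalizer ((S : Subgroup G) : Set G) ⊓ M : Subgroup G) = (S : Subgroup G) := by
      refine (eq_of_le_of_card_ge (le_inf le_normalizer hSM) ?_).symm
      obtain ⟨h7, -⟩ := E.card_stab ht₀ ht₀1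
      obtain ⟨h7', -⟩ := E.card_stab htS ht1
      rw [E.card_S, hM]
      omega
    have hnc : normalizer ((S' : Subgroup M) : Set M) ≤ centralizer ((S' : Subgroup M) : Set M) := by
      intro g hg
      have hgS : (g : G) ∈ (S : Subgroup G) := by
        rw [← hstab]
        refine ⟨mem_normalizer_of_conj fun y hy => ?_, g.2⟩
        exact (Subgroup.mem_normalizer_iff.1 hg ⟨y, hSM hy⟩).1 hy
      exact Subgroup.mem_centralizer_iff.2 fun s hs => Subtype.ext (E.comm hs hgS)
    set π := MonoidHom.transferSylow S' hnc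
    have hmul := (MonoidHom.ker_transferSylow_isComplement' S' hnc).card_mul
    change Nat.card π.ker * Nat.card (S' : Subgroup M) = Nat.card M at hmul
    rw [show Nat.card (S' : Subgroup M) = 8 from
      (Nat.card_congr (subgroupOfEquivOfLe hSM).toEquiv).trans E.card_S] at hmul
    have hk9 : Nat.card π.ker ∣ 9 := by
      have h72 : Nat.card M ∣ 72 := E.dvd_of_commute htS ht1 M fun y hy => mem_cent.1 hy
      rw [← hmul] at h72
      exact Nat.dvd_of_mul_dvd_mul_right (by norm_num) (show Nat.card π.ker * 8 ∣ 9 * 8 from h72)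
    have hW : ∃ w ∈ π.ker, w ≠ 1 := by
      by_contra hcon
      push Not at hcon
      rw [(Subgroup.eq_bot_iff_forall _).2 hcon, card_bot] at hmul
      have hMS : (S : Subgroup G) = M := eq_of_le_of_card_ge hSM (by rw [E.card_S]; omega)
      refine hRS (Sylow.ext (eq_of_le_of_card_ge ?_ (by rw [card_sylow_two E.card S, card_sylow_two E.card R])))
      intro a ha
      rw [hMS]
      refine mem_cent.2 ?_
      obtain ⟨g, hg⟩ := MulAction.exists_smul_eq G S R
      have hR' : ∀ b ∈ (R : Subgroup G), g⁻¹ * b * g ∈ (S : Subgroup G) := fun b hb => by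
        rw [← hg] at hb
        obtain ⟨c, hc, rfl⟩ := hb
        show g⁻¹ * (g * c * g⁻¹) * g ∈ (S : Subgroup G)
        rw [show g⁻¹ * (g * c * g⁻¹) * g = c by group]
        exact hc
      have h1 := E.comm (hR' a ha) (hR' t htR.2)
      have h2 := congrArg (fun z => g * z * g⁻¹) h1
      simpa [mul_assoc] using h2
    obtain ⟨w, hw, hw1⟩ := hW
    have hWc : ∀ a ∈ π.ker, ∀ b ∈ π.ker, a * b = b * a := by
      intro a ha b hb
      obtain ⟨i, hi, e⟩ := (Nat.dvd_prime_pow Nat.prime_three).1 (show _ ∣ 3 ^ 2 from hk9)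
      rcases Nat.lt_or_ge i 2 with hi2 | hi2
      · haveI : IsCyclic π.ker := by
          rcases Nat.eq_zero_or_pos i with rfl | hi0
          · haveI : Subsingleton π.ker := (Nat.card_eq_one_iff_unique.1 (by rw [e, pow_zero])).1
            infer_instance
          · exact isCyclic_of_prime_card (p := 3) (by rw [e, show i = 1 by omega, pow_one])
        haveI : IsMulCommutative π.ker := IsCyclic.isMulCommutative
        exact congrArg Subtype.val (mul_comm' (⟨a, ha⟩ : π.ker) ⟨b, hb⟩)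
      · exact congrArg Subtype.val (IsPGroup.commutative_of_card_eq_prime_sq
          (p := 3) (by rw [e, show i = 2 by omega]) (⟨a, ha⟩ : π.ker) ⟨b, hb⟩)
    have hord : ∀ a ∈ π.ker, (a : G) ^ 9 = 1 := fun a ha => by
      have h1 : (⟨a, ha⟩ : π.ker) ^ 9 = 1 :=
        orderOf_dvd_iff_pow_eq_one.1 ((_root_.orderOf_dvd_natCard _).trans hk9)
      simpa using congrArg (fun z : π.ker => ((z : M) : G)) h1
    -- an involution fixing or inverting everything
    have hdich : ∀ k ∈ (S : Subgroup G),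
        (∃ q : M, q ∈ π.ker ∧ q ≠ 1 ∧ (q : G) * k = k * q) ∨
          ∀ q : M, q ∈ π.ker → k * (q : G) * k⁻¹ = (q : G)⁻¹ := by
      intro k hk
      by_contra hcon
      push Not at hcon
      obtain ⟨hcon1, q, hq, hne⟩ := hcon
      set k' : M := ⟨k, hSM hk⟩
      have hq' : k' * q * k'⁻¹ ∈ π.ker := (MonoidHom.normal_ker π).conj_mem q hq k'
      have hk2 : k' * k' = 1 := Subtype.ext (E.sq k hk)
      refine hcon1 (q * (k' * q * k'⁻¹)) (mul_mem hq hq') (fun e => hne ?_) ?_
      · exact congrArg Subtype.val (eq_inv_of_mul_eq_one_right e)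
      · have e : k' * (q * (k' * q * k'⁻¹)) * k'⁻¹ = q * (k' * q * k'⁻¹) := by
          rw [show k' * (q * (k' * q * k'⁻¹)) * k'⁻¹ =
            (k' * q * k'⁻¹) * ((k' * k') * q * (k' * k')⁻¹) by group, hk2, one_mul, inv_one, mul_one]
          exact hWc _ hq' _ hq
        exact congrArg Subtype.val (mul_inv_eq_iff_eq_mul.1 e).symm
    have hdone : ∀ k ∈ (S : Subgroup G), k ≠ 1 → k ≠ t → (∃ q : M, q ∈ π.ker ∧ q ≠ 1 ∧ (q : G) * k = k * q) →
        ∃ q, q ^ 9 = 1 ∧ q ≠ 1 ∧ Nat.card (Cent S q) = 4 := by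
      rintro k hk hk1 hkt ⟨q, hq, hq1, hqk⟩
      refine ⟨q, hord q hq, fun e => hq1 (Subtype.ext e), E.cent_card (hord q hq) (fun e => hq1 (Subtype.ext e))
        (u := t) (v := k) ⟨htS, mem_cent.2 (mem_cent.1 q.2).symm⟩ ⟨hk, mem_cent.2 hqk.symm⟩ ht1 hk1
        (Ne.symm hkt)⟩
    set k₁ := x ^ 1 * t * (x ^ 1)⁻¹ with hk₁
    have hkS : ∀ n, x ^ n * t * (x ^ n)⁻¹ ∈ (S : Subgroup G) := fun n => E.conj_mem (E.pow_mem_normalizer n) htS
    have hne1 : ∀ n, x ^ n * t * (x ^ n)⁻¹ ≠ 1 := fun n e => ht1 (conj_eq_one_iff.1 e)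
    have hnet : ∀ n, 0 < n → n < 7 → x ^ n * t * (x ^ n)⁻¹ ≠ t := fun n h0 h7 e => by
      have := E.no_fix htS ht1 e
      omega
    obtain ⟨n, hn0, hn7, hn1, hk12⟩ : ∃ n, 0 < n ∧ n < 7 ∧ n ≠ 1 ∧ k₁ * (x ^ n * t * (x ^ n)⁻¹) ≠ t := by
      by_contra hcon
      push Not at hcon
      have e := (hcon 2 (by norm_num) (by norm_num) (by norm_num)).trans
        (hcon 3 (by norm_num) (by norm_num) (by norm_num)).symm
      exact absurd (E.conj_inj htS ht1 (by norm_num) (by norm_num) (mul_left_cancel e)) (by norm_num)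
    set k₂ := x ^ n * t * (x ^ n)⁻¹ with hk₂
    rcases hdich k₁ (hkS 1) with h₁ | h₁
    · exact hdone _ (hkS 1) (hne1 1) (hnet 1 (by norm_num) (by norm_num)) h₁
    rcases hdich k₂ (hkS n) with h₂ | h₂
    · exact hdone _ (hkS n) (hne1 n) (hnet n hn0 hn7) h₂
    refine hdone _ (mul_mem (hkS 1) (hkS n)) (fun e => ?_) hk12 ⟨w, hw, hw1, ?_⟩
    · have e' := eq_inv_of_mul_eq_one_left e
      rw [inv_eq_of_mul_eq_one_right (E.sq _ (hkS n))] at e'
      exact hn1 (E.conj_inj htS ht1 (by norm_num) hn7 e').symm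
    · have e : (k₁ * k₂) * (w : G) * (k₁ * k₂)⁻¹ = w := by
        rw [show (k₁ * k₂) * (w : G) * (k₁ * k₂)⁻¹ = k₁ * (k₂ * (w : G) * k₂⁻¹) * k₁⁻¹ by group,
          h₂ w hw, show k₁ * (w : G)⁻¹ * k₁⁻¹ = (k₁ * (w : G) * k₁⁻¹)⁻¹ by group, h₁ w hw, inv_inv]
      exact (mul_inv_eq_iff_eq_mul.1 e).symm
  · rw [hN7, hs] at hn2
    obtain ⟨R, hRS, hR⟩ := exists_inter S (d := 4) (by
      rw [show Nat.card (Sylow 2 G) = 15 by omega]; norm_num)
    set K : Subgroup G := (S : Subgroup G) ⊓ R with hK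
    have hK4 : 3 ≤ Nat.card K := by
      have hd : Nat.card K ∣ 8 := E.card_S ▸ card_dvd_of_le inf_le_left
      by_contra hlt
      rw [E.card_S] at hR
      have h0 : 0 < Nat.card K := Nat.card_pos
      generalize Nat.card K = c at *
      interval_cases c <;> norm_num at hR
    obtain ⟨a, ha1, ha⟩ : ∃ a : K, a ≠ 1 ∧ True := by
      haveI : Nontrivial K := Finite.one_lt_card_iff_nontrivial.1 (by omega)
      obtain ⟨a, ha⟩ := exists_ne (1 : K)
      exact ⟨a, ha, trivial⟩
    obtain ⟨b, hb1, hba⟩ : ∃ b : K, b ≠ 1 ∧ b ≠ a := by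
      by_contra hcon
      push Not at hcon
      haveI := Fintype.ofFinite K
      have : (Finset.univ : Finset K) ⊆ {1, a} := fun z _ => by
        by_cases hz : z = 1
        · simp [hz]
        · simp [hcon z hz]
      have h2 := (Finset.card_le_card this).trans Finset.card_le_two
      rw [Finset.card_univ, ← Nat.card_eq_fintype_card] at h2
      omega
    set C : Subgroup G := centralizer ({(a : G)} : Set G) ⊓ centralizer ({(b : G)} : Set G)
    have hS : (S : Subgroup G) ≤ C := fun y hy =>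
      ⟨mem_cent.2 (E.comm hy a.2.1), mem_cent.2 (E.comm hy b.2.1)⟩
    have hR' : (R : Subgroup G) ≤ C := by
      obtain ⟨g, hg⟩ := MulAction.exists_smul_eq G S R
      have hRc : ∀ y ∈ (R : Subgroup G), ∀ z ∈ (R : Subgroup G), y * z = z * y := by
        intro y hy z hz
        rw [← hg] at hy hz
        obtain ⟨c, hc, rfl⟩ := hy
        obtain ⟨d, hd, rfl⟩ := hz
        show g * c * g⁻¹ * (g * d * g⁻¹) = g * d * g⁻¹ * (g * c * g⁻¹)
        rw [show g * c * g⁻¹ * (g * d * g⁻¹) = g * (c * d) * g⁻¹ by group, E.comm hc hd]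
        group
      exact fun y hy => ⟨mem_cent.2 (hRc y hy _ a.2.2), mem_cent.2 (hRc y hy _ b.2.2)⟩
    have h72 : Nat.card C ∣ 72 := E.dvd_of_commute a.2.1 (fun e => ha1 (Subtype.ext e)) C
      fun y hy => mem_cent.1 hy.1
    have h8 : 8 ∣ Nat.card C := E.card_S ▸ card_dvd_of_le hS
    have hne8 : Nat.card C ≠ 8 := by
      intro e
      refine hRS (Sylow.ext ?_)
      rw [eq_of_le_of_card_ge hR' (by rw [e, card_sylow_two E.card R]),
        eq_of_le_of_card_ge hS (by rw [e, E.card_S])]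
    have h3 : 3 ∣ Nat.card C := by
      obtain ⟨r, hr⟩ := h8
      rw [hr] at h72 hne8 ⊢
      obtain ⟨j, hj, rfl⟩ := (Nat.dvd_prime_pow Nat.prime_three).1
        (show r ∣ 3 ^ 2 from Nat.dvd_of_mul_dvd_mul_left (by norm_num) (show 8 * r ∣ 8 * 9 from h72))
      rcases Nat.eq_zero_or_pos j with rfl | hj0
      · simp at hne8
      · exact Dvd.dvd.mul_left (dvd_pow_self 3 hj0.ne') 8
    obtain ⟨q, hq⟩ := exists_prime_orderOf_dvd_card' 3 h3
    have hq9 : (q : G) ^ 9 = 1 := by
      rw [show (9 : ℕ) = 3 * 3 by norm_num, pow_mul, ← hq, ← Subgroup.orderOf_coe, pow_orderOf_eq_one,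
        one_pow]
    have hq1 : (q : G) ≠ 1 := fun e => by
      rw [← Subgroup.orderOf_coe, e, orderOf_one] at hq; norm_num at hq
    exact ⟨q, hq9, hq1, E.cent_card hq9 hq1 (u := (a : G)) (v := (b : G))
      ⟨a.2.1, mem_cent.2 (mem_cent.1 q.2.1).symm⟩ ⟨b.2.1, mem_cent.2 (mem_cent.1 q.2.2).symm⟩
      (fun e => ha1 (Subtype.ext e)) (fun e => hb1 (Subtype.ext e)) (fun e => hba (Subtype.ext e.symm))⟩

/-- Three four-subgroups through an involution, each centralized by a nontrivial 3-element. -/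
theorem exists_three {t : G} (ht : t ∈ (S : Subgroup G)) (ht1 : t ≠ 1) :
    ∃ q : Fin 3 → G, (∀ j, q j ^ 9 = 1 ∧ q j ≠ 1 ∧ t ∈ Cent S (q j) ∧ Nat.card (Cent S (q j)) = 4) ∧
      Function.Injective fun j => Cent S (q j) := by
  classical
  obtain ⟨q₀, hq₀, hq₀1, hK⟩ := E.exists_cent
  set K := Cent S q₀ with hKdef
  haveI := Fintype.ofFinite K
  have hpts : Fintype.card {m : K // m ≠ 1} = 3 := by
    rw [Fintype.card_subtype_compl, Fintype.card_subtype_eq, ← Nat.card_eq_fintype_card, hK]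
  let m : Fin 3 ≃ {m : K // m ≠ 1} := (Fintype.equivFinOfCardEq hpts).symm
  have hm1 : ∀ j, ((m j).1 : G) ≠ 1 := fun j e => (m j).2 (Subtype.ext e)
  choose i hi ei using fun j => E.transitive (m j).1.2.1 (hm1 j) ht ht1
  refine ⟨fun j => x ^ i j * q₀ * (x ^ i j)⁻¹, fun j => ?_, fun a b e => ?_⟩
  · have hmem : ∀ y, y ∈ Cent S (x ^ i j * q₀ * (x ^ i j)⁻¹) ↔ (x ^ i j)⁻¹ * y * x ^ i j ∈ K := by
      intro y
      constructor
      · intro hy
        refine ⟨by have h := E.conj_mem (inv_mem (E.pow_mem_normalizer (i j))) hy.1; rwa [inv_inv] at h, mem_cent.2 ?_⟩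
        have h2 := congrArg (fun z => (x ^ i j)⁻¹ * z * x ^ i j) (mem_cent.1 hy.2)
        simpa [mul_assoc] using h2
      · intro hy
        refine ⟨?_, mem_cent.2 ?_⟩
        · have := E.conj_mem (E.pow_mem_normalizer (i j)) hy.1
          rwa [show x ^ i j * ((x ^ i j)⁻¹ * y * x ^ i j) * (x ^ i j)⁻¹ = y by group] at this
        · have h2 := congrArg (fun z => x ^ i j * z * (x ^ i j)⁻¹) (mem_cent.1 hy.2)
          simpa [mul_assoc] using h2
    refine ⟨by rw [conj_pow, hq₀, mul_one, mul_inv_cancel], fun e => hq₀1 (conj_eq_one_iff.1 e), ?_, ?_⟩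
    · refine (hmem t).2 ?_
      rw [E.inv_of_conj (ei j)]
      exact (m j).1.2
    · rw [← hK]
      exact Nat.card_congr ((MulAut.conj (x ^ i j)⁻¹).toEquiv.subtypeEquiv fun y => by
        show _ ↔ (x ^ i j)⁻¹ * y * (x ^ i j)⁻¹⁻¹ ∈ K
        rw [inv_inv]
        exact hmem y)
  · -- equal conjugates make a power of `x` permute the three points
    by_contra hne
    have hmem : ∀ y, y ∈ K → (x ^ i a)⁻¹ * (x ^ i b * y * (x ^ i b)⁻¹) * x ^ i a ∈ K := by
      intro y hy
      have h1 : x ^ i b * y * (x ^ i b)⁻¹ ∈ Cent S (x ^ i b * q₀ * (x ^ i b)⁻¹) :=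
        ⟨E.conj_mem (E.pow_mem_normalizer _) hy.1, mem_cent.2 (by
          have h2 := congrArg (fun z => x ^ i b * z * (x ^ i b)⁻¹) (mem_cent.1 hy.2)
          simpa [mul_assoc] using h2)⟩
      rw [← show Cent S (x ^ i a * q₀ * (x ^ i a)⁻¹) = Cent S (x ^ i b * q₀ * (x ^ i b)⁻¹) from e] at h1
      refine ⟨by have h := E.conj_mem (inv_mem (E.pow_mem_normalizer (i a))) h1.1; rwa [inv_inv] at h, mem_cent.2 ?_⟩
      have h2 := congrArg (fun z => (x ^ i a)⁻¹ * z * x ^ i a) (mem_cent.1 h1.2)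
      simpa [mul_assoc] using h2
    have hiab : i a ≠ i b := by
      intro e'
      have h1 := (E.inv_of_conj (ei a)).symm
      rw [e', E.inv_of_conj (ei b)] at h1
      exact hne (m.injective (Subtype.ext (Subtype.ext h1)))
    -- `x ^ d` maps `K` to itself
    set d := 7 - i a + i b
    have hd : ∀ y, x ^ d * y * (x ^ d)⁻¹ = (x ^ i a)⁻¹ * (x ^ i b * y * (x ^ i b)⁻¹) * x ^ i a := by
      intro y
      have e1 : x ^ (7 - i a) = (x ^ i a)⁻¹ := by
        rw [eq_inv_iff_mul_eq_one, ← pow_add, Nat.sub_add_cancel (hi a).le, ← E.ordx, pow_orderOf_eq_one]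
      rw [show x ^ d = x ^ (7 - i a) * x ^ i b from pow_add x _ _, e1]
      group
    have hiter : ∀ (n : ℕ), ∀ y ∈ K, x ^ (d * n) * y * (x ^ (d * n))⁻¹ ∈ K := by
      intro n
      induction n with
      | zero => intro y hy; simpa using hy
      | succ n ih =>
        intro y hy
        rw [show x ^ (d * (n + 1)) * y * (x ^ (d * (n + 1)))⁻¹ =
            x ^ d * (x ^ (d * n) * y * (x ^ (d * n))⁻¹) * (x ^ d)⁻¹ by
          rw [show d * (n + 1) = d + d * n by ring, pow_add]; group, hd]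
        exact hmem _ (ih y hy)
    let f : Fin 4 → {m : K // m ≠ 1} := fun n =>
      ⟨⟨_, hiter n _ (m a).1.2⟩, fun e1 => hm1 a (conj_eq_one_iff.1 (congrArg Subtype.val e1))⟩
    obtain ⟨n₁, n₂, hn, en⟩ := Fintype.exists_ne_map_eq_of_card_lt f (by rw [hpts, Fintype.card_fin]; norm_num)
    wlog hlt : (n₁ : ℕ) < n₂ generalizing n₁ n₂
    · exact this n₂ n₁ hn.symm en.symm
        (lt_of_le_of_ne (not_lt.1 hlt) fun e1 => hn (Fin.ext e1.symm))
    obtain ⟨c, hc⟩ := Nat.exists_eq_add_of_lt hlt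
    have e2 : x ^ (d * (n₁ : ℕ)) * ((m a).1 : G) * (x ^ (d * (n₁ : ℕ)))⁻¹ =
        x ^ (d * (n₂ : ℕ)) * ((m a).1 : G) * (x ^ (d * (n₂ : ℕ)))⁻¹ :=
      congrArg (fun z : {m : K // m ≠ 1} => ((z.1 : K) : G)) en
    rw [hc, show (n₁ : ℕ) + c + 1 = n₁ + (c + 1) by ring, mul_add, pow_add] at e2
    have e3 : x ^ (d * (c + 1)) * ((m a).1 : G) * (x ^ (d * (c + 1)))⁻¹ = ((m a).1 : G) := by
      have e4 : x ^ (d * (n₁ : ℕ)) * ((m a).1 : G) * (x ^ (d * (n₁ : ℕ)))⁻¹ =
          x ^ (d * (n₁ : ℕ)) * (x ^ (d * (c + 1)) * ((m a).1 : G) * (x ^ (d * (c + 1)))⁻¹) *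
            (x ^ (d * (n₁ : ℕ)))⁻¹ := by rw [e2]; group
      exact (mul_left_cancel (mul_right_cancel e4)).symm
    have h7 := E.no_fix (m a).1.2.1 (hm1 a) e3
    rcases (Nat.Prime.dvd_mul (by norm_num)).1 h7 with h | h
    · have := hi a; have := hi b; omega
    · have := Nat.le_of_dvd (by omega) h
      have := n₂.2
      omega

theorem eq_of_two_cents {q q' : G} (hne : Cent S q ≠ Cent S q') (h4 : Nat.card (Cent S q) = 4)
    (h4' : Nat.card (Cent S q') = 4) (H : Subgroup G) (hq : Cent S q ≤ H) (hq' : Cent S q' ≤ H) :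
    (S : Subgroup G) ≤ H := by
  set J : Subgroup G := (S : Subgroup G) ⊓ H
  have hle : Cent S q ≤ J := le_inf inf_le_left hq
  have hd : Nat.card J ∣ 8 := E.card_S ▸ card_dvd_of_le inf_le_left
  have h4le : 4 ≤ Nat.card J := h4 ▸ Subgroup.card_le_of_le hle
  have hne4 : Nat.card J ≠ 4 := by
    intro e
    refine hne ?_
    rw [eq_of_le_of_card_ge hle (by rw [e, h4]),
      eq_of_le_of_card_ge (show Cent S q' ≤ J from le_inf inf_le_left hq') (by rw [e, h4'])]
  obtain ⟨i, hi, e⟩ := (Nat.dvd_prime_pow Nat.prime_two).1 (show _ ∣ 2 ^ 3 from hd)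
  rw [e] at h4le hne4
  have h8 : Nat.card J = 8 := by rw [e]; interval_cases i <;> simp_all
  have hJ : J = (S : Subgroup G) := eq_of_le_of_card_ge inf_le_left (by rw [h8, E.card_S])
  exact hJ ▸ inf_le_right

theorem absurd_elem : False := by
  classical
  haveI : Fact (Nat.Prime 2) := ⟨Nat.prime_two⟩
  haveI : Fact (Nat.Prime 3) := ⟨Nat.prime_three⟩
  obtain ⟨t, htS, ht1⟩ := E.exists_pt
  obtain ⟨q, hq, hqinj⟩ := E.exists_three htS ht1
  set M := centralizer ({t} : Set G) with hM
  have hSM : (S : Subgroup G) ≤ M := fun a ha => mem_cent.2 (E.comm ha htS)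
  set S' := S.subtype hSM
  have hqM : ∀ j, q j ∈ M := fun j => mem_cent.2 (mem_cent.1 (hq j).2.2.1.2).symm
  -- each element moves `S`
  have hqN : ∀ j, q j ∉ normalizer ((S : Subgroup G) : Set G) := by
    intro j hmem
    obtain ⟨hq9, hq1, htc, h4⟩ := hq j
    obtain ⟨k, hk, hk1, hkt⟩ : ∃ k ∈ Cent S (q j), k ≠ 1 ∧ k ≠ t := by
      by_contra hcon
      push Not at hcon
      haveI := Fintype.ofFinite (Cent S (q j))
      have hsub : (Finset.univ : Finset (Cent S (q j))) ⊆ {1, ⟨t, htc⟩} := fun z _ => by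
        by_cases hz : (z : G) = 1
        · simp [Subtype.ext_iff, hz]
        · simp [Subtype.ext_iff, hcon _ z.2 hz]
      have h2 := (Finset.card_le_card hsub).trans Finset.card_le_two
      rw [Finset.card_univ, ← Nat.card_eq_fintype_card, h4] at h2
      omega
    exact hq1 (E.eq_one_of_fix_all hq9 (commute_of_two_fixed S E.card_S (t := q j) (i := 2) hq9 hmem
      htS hk.1 ht1 hk1 (Ne.symm hkt) (mem_cent.1 htc.2).symm (mem_cent.1 hk.2).symm))
  obtain ⟨hN7, hs⟩ := E.card_stab htS ht1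
  rcases hs with hs | hs
  · -- the centralizer has a normal complement, a 3-group
    have hstab : (normalizer ((S : Subgroup G) : Set G) ⊓ M : Subgroup G) = (S : Subgroup G) :=
      (eq_of_le_of_card_ge (le_inf le_normalizer hSM) (by rw [hs, E.card_S])).symm
    have hnc : normalizer ((S' : Subgroup M) : Set M) ≤ centralizer ((S' : Subgroup M) : Set M) := by
      intro g hg
      have hgS : (g : G) ∈ (S : Subgroup G) := by
        rw [← hstab]
        refine ⟨mem_normalizer_of_conj fun y hy => ?_, g.2⟩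
        exact (Subgroup.mem_normalizer_iff.1 hg ⟨y, hSM hy⟩).1 hy
      exact Subgroup.mem_centralizer_iff.2 fun s hs => Subtype.ext (E.comm hs hgS)
    have hS'card : Nat.card (S' : Subgroup M) = 8 :=
      (Nat.card_congr (subgroupOfEquivOfLe hSM).toEquiv).trans E.card_S
    obtain ⟨π, hmul⟩ : ∃ π : M →* (S' : Subgroup M), Nat.card π.ker * 8 = Nat.card M := by
      refine ⟨MonoidHom.transferSylow S' hnc, ?_⟩
      rw [← hS'card]
      exact (MonoidHom.ker_transferSylow_isComplement' S' hnc).card_mul_card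
    have hk9 : Nat.card π.ker ∣ 9 := by
      have h72 : Nat.card M ∣ 72 := E.dvd_of_commute htS ht1 M fun y hy => mem_cent.1 hy
      rw [← hmul] at h72
      exact Nat.dvd_of_mul_dvd_mul_right (by norm_num) (show Nat.card π.ker * 8 ∣ 9 * 8 from h72)
    set W : Subgroup G := π.ker.map M.subtype
    have hW9 : Nat.card W ∣ 9 := by
      rw [show Nat.card W = Nat.card π.ker from card_map_of_injective M.subtype_injective]; exact hk9
    have hWord : ∀ w ∈ W, w ^ 9 = 1 := fun w hw => by
      have h1 : (⟨w, hw⟩ : W) ^ 9 = 1 :=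
        orderOf_dvd_iff_pow_eq_one.1 ((_root_.orderOf_dvd_natCard _).trans hW9)
      simpa using congrArg Subtype.val h1
    have hWc : ∀ a ∈ W, ∀ b ∈ W, a * b = b * a := by
      intro a ha b hb
      obtain ⟨i, hi, e⟩ := (Nat.dvd_prime_pow Nat.prime_three).1 (show _ ∣ 3 ^ 2 from hW9)
      rcases Nat.lt_or_ge i 2 with hi2 | hi2
      · haveI : IsCyclic W := by
          rcases Nat.eq_zero_or_pos i with rfl | hi0
          · haveI : Subsingleton W := (Nat.card_eq_one_iff_unique.1 (by rw [e, pow_zero])).1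
            infer_instance
          · exact isCyclic_of_prime_card (p := 3) (by rw [e, show i = 1 by omega, pow_one])
        haveI : IsMulCommutative W := IsCyclic.isMulCommutative
        exact congrArg Subtype.val (mul_comm' (⟨a, ha⟩ : W) ⟨b, hb⟩)
      · haveI := IsPGroup.isMulCommutative_of_card_eq_prime_sq
          (p := 3) (G := W) (by rw [e, show i = 2 by omega])
        exact congrArg Subtype.val (mul_comm' (⟨a, ha⟩ : W) ⟨b, hb⟩)
    have hWM : W ≤ M := fun w ⟨c, _, e⟩ => e ▸ c.2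
    have hWconj : ∀ k ∈ (S : Subgroup G), ∀ w ∈ W, k * w * k⁻¹ ∈ W := by
      rintro k hk _ ⟨c, hc, rfl⟩
      exact ⟨⟨k, hSM hk⟩ * c * ⟨k, hSM hk⟩⁻¹, (MonoidHom.normal_ker π).conj_mem c hc _, rfl⟩
    have hqW : ∀ j, q j ∈ W := by
      intro j
      refine ⟨⟨q j, hqM j⟩, MonoidHom.mem_ker.2 ?_, rfl⟩
      have h9 : π ⟨q j, hqM j⟩ ^ 9 = 1 := by
        rw [← map_pow, show (⟨q j, hqM j⟩ : M) ^ 9 = 1 from Subtype.ext (by simpa using (hq j).1), map_one]
      have h8 : π ⟨q j, hqM j⟩ ^ 8 = 1 := hS'card ▸ pow_card_eq_one'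
      exact orderOf_eq_one_iff.1 (Nat.eq_one_of_dvd_coprimes (by norm_num : Nat.Coprime 9 8)
        (orderOf_dvd_of_pow_eq_one h9) (orderOf_dvd_of_pow_eq_one h8))
    obtain ⟨k, hk, hk0, hk1⟩ : ∃ k ∈ Cent S (q 2), k ∉ Cent S (q 0) ∧ k ∉ Cent S (q 1) := by
      by_contra hcon
      push Not at hcon
      have hne0 : ¬ Cent S (q 2) ≤ Cent S (q 0) := fun h => absurd
        (hqinj (eq_of_le_of_card_ge h (by rw [(hq 2).2.2.2, (hq 0).2.2.2]))) (by decide)
      have hne1 : ¬ Cent S (q 2) ≤ Cent S (q 1) := fun h => absurd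
        (hqinj (eq_of_le_of_card_ge h (by rw [(hq 2).2.2.2, (hq 1).2.2.2]))) (by decide)
      obtain ⟨y, hy, hy0⟩ := SetLike.not_le_iff_exists.1 hne0
      obtain ⟨z, hz, hz1⟩ := SetLike.not_le_iff_exists.1 hne1
      have hy1 := hcon y hy hy0
      have hz0 : z ∈ Cent S (q 0) := by
        by_contra h; exact hz1 (hcon z hz h)
      have hyz : y * z ∉ Cent S (q 0) := fun h => hy0 (by simpa using mul_mem h (inv_mem hz0))
      exact hz1 (by simpa using mul_mem (inv_mem hy1) (hcon _ (mul_mem hy hz) hyz))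
    -- `k` inverts the first two elements
    have hinv : ∀ j, k ∉ Cent S (q j) → k * q j * k⁻¹ = (q j)⁻¹ := by
      intro j hj
      have hkk : k * k = 1 := E.sq k hk.1
      set w := q j * (k * q j * k⁻¹)
      have hw : w ∈ W := mul_mem (hqW j) (hWconj k hk.1 _ (hqW j))
      have hfixk : w * k = k * w := by
        have e : k * w * k⁻¹ = w := by
          rw [show k * w * k⁻¹ = (k * q j * k⁻¹) * ((k * k) * q j * (k * k)⁻¹) by
            simp only [w]; group, hkk, one_mul, inv_one, mul_one]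
          exact hWc _ (hWconj k hk.1 _ (hqW j)) _ (hqW j)
        exact (mul_inv_eq_iff_eq_mul.1 e).symm
      set H : Subgroup G := centralizer ({w} : Set G)
      have h1 : Cent S (q j) ≤ H := by
        intro y hy
        have hyq : Commute y (q j) := mem_cent.1 hy.2
        have hyk : Commute y k := E.comm hy.1 hk.1
        exact mem_cent.2 (hyq.mul_right ((hyk.mul_right hyq).mul_right hyk.inv_right)).eq
      have hd : ¬ (S : Subgroup G) ⊓ H ≤ Cent S (q j) := fun h => hj (h ⟨hk.1, mem_cent.2 hfixk.symm⟩)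
      set J : Subgroup G := (S : Subgroup G) ⊓ H
      have hJ8 : Nat.card J ∣ 8 := E.card_S ▸ card_dvd_of_le inf_le_left
      have hJ4 : 4 < Nat.card J := by
        by_contra hle
        exact hd (le_of_eq (eq_of_le_of_card_ge (le_inf inf_le_left h1 : Cent S (q j) ≤ J)
          (by show Nat.card J ≤ _; rw [(hq j).2.2.2]; omega)).symm)
      have hJS : J = (S : Subgroup G) := eq_of_le_of_card_ge inf_le_left (by
        have := Nat.le_of_dvd (by norm_num) hJ8
        rw [E.card_S]
        generalize Nat.card J = c at *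
        interval_cases c <;> omega)
      have hw1 : w = 1 := E.eq_one_of_fix_all (hWord w hw) fun u hu => by
        rw [← hJS] at hu
        exact (mem_cent.1 hu.2).symm
      exact eq_inv_of_mul_eq_one_right hw1
    -- the elements inverted by `k`
    let L : Subgroup G :=
      { carrier := {w | w ∈ W ∧ k * w * k⁻¹ = w⁻¹}
        one_mem' := ⟨one_mem W, by simp⟩
        mul_mem' := fun {a b} ha hb => ⟨mul_mem ha.1 hb.1, by
          rw [show k * (a * b) * k⁻¹ = (k * a * k⁻¹) * (k * b * k⁻¹) by group, ha.2, hb.2, mul_inv_rev]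
          exact hWc _ (inv_mem ha.1) _ (inv_mem hb.1)⟩
        inv_mem' := fun {a} ha => ⟨inv_mem ha.1, by
          rw [show k * a⁻¹ * k⁻¹ = (k * a * k⁻¹)⁻¹ by group, ha.2]⟩ }
    have hL0 : q 0 ∈ L := ⟨hqW 0, hinv 0 hk0⟩
    have hL1 : q 1 ∈ L := ⟨hqW 1, hinv 1 hk1⟩
    have hLW : L ≤ W := fun w hw => hw.1
    have hdL : Nat.card L ∣ 9 := (card_dvd_of_le hLW).trans hW9
    have hLeq : L = W := by
      refine eq_of_le_of_card_ge hLW ?_
      have hW := Nat.le_of_dvd (by norm_num) hW9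
      obtain ⟨i, hi, e⟩ := (Nat.dvd_prime_pow Nat.prime_three).1 (show _ ∣ 3 ^ 2 from hdL)
      rcases Nat.lt_or_ge i 2 with hi2 | hi2
      · exfalso
        have hL : L = zpowers (q 0) := by
          refine (eq_of_le_of_card_ge (zpowers_le.2 hL0) ?_).symm
          have h1 : 1 < Nat.card (zpowers (q 0)) := by
            refine Finite.one_lt_card_iff_nontrivial.2 ⟨⟨⟨q 0, mem_zpowers _⟩, 1, fun e => ?_⟩⟩
            exact (hq 0).2.1 (congrArg Subtype.val e)
          have h2 : Nat.card (zpowers (q 0)) ∣ Nat.card L := card_dvd_of_le (zpowers_le.2 hL0)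
          rw [e] at h2 ⊢
          interval_cases i
          · rw [pow_zero, Nat.dvd_one] at h2; omega
          · rw [pow_one] at h2 ⊢
            rcases (Nat.dvd_prime Nat.prime_three).1 h2 with h | h <;> omega
        rw [hL] at hL1
        obtain ⟨n, hn⟩ := mem_zpowers_iff.1 hL1
        have hle : (S : Subgroup G) ≤ centralizer ({q 1} : Set G) := by
          refine E.eq_of_two_cents (fun h => absurd (hqinj h) (by decide)) (hq 0).2.2.2 (hq 1).2.2.2 _
            (fun y hy => ?_) inf_le_right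
          rw [← hn]
          exact mem_cent.2 (((show Commute y (q 0) from mem_cent.1 hy.2)).zpow_right n).eq
        exact (hq 1).2.1 (E.eq_one_of_fix_all (hq 1).1 fun u hu => (mem_cent.1 (hle hu)).symm)
      · rw [e, show i = 2 by omega]; exact hW
    have h2 : q 2 ∈ L := hLeq.symm ▸ hqW 2
    have hfix : k * q 2 * k⁻¹ = q 2 := mul_inv_eq_iff_eq_mul.2 (mem_cent.1 hk.2)
    have hsq : q 2 ^ 2 = 1 := by
      rw [pow_two]
      nth_rewrite 1 [← hfix]
      rw [h2.2]
      exact inv_mul_cancel _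
    exact (hq 2).2.1 (orderOf_eq_one_iff.1 (Nat.eq_one_of_dvd_coprimes (by norm_num : Nat.Coprime 9 2)
      (orderOf_dvd_of_pow_eq_one (hq 2).1) (orderOf_dvd_of_pow_eq_one hsq)))
  · -- four Sylow subgroups in `M`, of at most three
    have hn : Nat.card (Sylow 2 M) ≤ 3 := by
      rw [S'.card_eq_index_normalizer]
      have heq : Nat.card (normalizer ((S' : Subgroup M) : Set M)) = 24 := by
        rw [← hs]
        refine Nat.card_congr
          { toFun := fun g => ⟨(g.1 : G), mem_normalizer_of_conj fun y hy =>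
              (Subgroup.mem_normalizer_iff.1 g.2 ⟨y, hSM hy⟩).1 hy, g.1.2⟩
            invFun := fun g => ⟨⟨g.1, g.2.2⟩, mem_normalizer_of_conj fun y hy =>
              (Subgroup.mem_normalizer_iff.1 g.2.1 (y : G)).1 hy⟩
            left_inv := fun g => rfl
            right_inv := fun g => rfl }
      have h72 : Nat.card M ∣ 72 := E.dvd_of_commute htS ht1 M fun y hy => mem_cent.1 hy
      have hmul := (normalizer ((S' : Subgroup M) : Set M)).index_mul_card
      rw [heq] at hmul
      change (normalizer ((S' : Subgroup M) : Set M)).index ≤ 3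
      have := Nat.le_of_dvd (by norm_num) h72
      omega
    let g : Option (Fin 3) → Sylow 2 M := fun o => o.elim S' fun j => (⟨q j, hqM j⟩ : M) • S'
    have hback : ∀ j j', (⟨q j, hqM j⟩ : M) • S' = (⟨q j', hqM j'⟩ : M) • S' →
        (q j')⁻¹ * q j ∈ normalizer ((S : Subgroup G) : Set G) := by
      intro j j' e
      have h1 : ((⟨q j', hqM j'⟩ : M)⁻¹ * ⟨q j, hqM j⟩) ∈ normalizer ((S' : Subgroup M) : Set M) := by
        refine Sylow.smul_eq_iff_mem_normalizer.1 ?_
        rw [mul_smul, e, inv_smul_smul]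
      exact mem_normalizer_of_conj fun y hy => (Subgroup.mem_normalizer_iff.1 h1 ⟨y, hSM hy⟩).1 hy
    have hone : ∀ j, (⟨q j, hqM j⟩ : M) • S' ≠ S' := fun j e => hqN j (mem_normalizer_of_conj fun y hy =>
      (Subgroup.mem_normalizer_iff.1 (Sylow.smul_eq_iff_mem_normalizer.1 e) ⟨y, hSM hy⟩).1 hy)
    have hg : Function.Injective g := by
      rintro (_ | j) (_ | j') e
      · rfl
      · exact absurd (show (⟨q j', hqM j'⟩ : M) • S' = S' from e.symm) (hone j')
      · exact absurd (show (⟨q j, hqM j⟩ : M) • S' = S' from e) (hone j)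
      · by_contra hne
        have hne' : j ≠ j' := fun h => hne (h ▸ rfl)
        have hn' := hback j j' e
        -- then the conjugate of `S` by `q j` contains both four-groups
        have hle : (S : Subgroup G) ≤ (S : Subgroup G).map (MulAut.conj (q j)).toMonoidHom := by
          refine E.eq_of_two_cents (fun h => hne' (hqinj h)) (hq j).2.2.2 (hq j').2.2.2 _
            (fun y hy => ?_) (fun y hy => ?_)
          · refine ⟨y, hy.1, ?_⟩
            show q j * y * (q j)⁻¹ = y
            exact mul_inv_eq_iff_eq_mul.2 (mem_cent.1 hy.2).symm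
          · refine ⟨(q j)⁻¹ * y * q j, ?_, ?_⟩
            · have h2 : (q j')⁻¹ * y * q j' = y := by
                rw [mul_assoc, mem_cent.1 hy.2, inv_mul_cancel_left]
              have h3 := E.conj_mem (inv_mem hn') hy.1
              rw [show ((q j')⁻¹ * q j)⁻¹ * y * ((q j')⁻¹ * q j)⁻¹⁻¹ =
                (q j)⁻¹ * (q j' * y * (q j')⁻¹) * q j by group,
                show q j' * y * (q j')⁻¹ = y from mul_inv_eq_iff_eq_mul.2 (mem_cent.1 hy.2).symm] at h3
              exact h3
            · show q j * ((q j)⁻¹ * y * q j) * (q j)⁻¹ = y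
              group
        refine hqN j (mem_normalizer_of_conj fun y hy => ?_)
        have heq := eq_of_le_of_card_ge hle (by rw [card_map_of_injective (MulAut.conj (q j)).injective])
        exact heq.symm.le ⟨y, hy, rfl⟩
    have := Nat.card_le_card_of_injective g hg
    rw [Nat.card_eq_fintype_card, Fintype.card_option, Fintype.card_fin] at this
    omega

end Elem

/-- In a simple group of order 2520 no Sylow 2-subgroup has exponent two. -/
theorem false_of_elementary [IsSimpleGroup G] (h : Nat.card G = 2520) (S : Sylow 2 G)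
    (he : ∀ y ∈ (S : Subgroup G), y * y = 1) : False := by
  obtain ⟨x, E⟩ := exists_elem h S he
  exact E.absurd_elem

end CfsgLib.Char.SmallCent.C2520
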