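import Cfsg.Agent.Lib.Char.SmallCent.Cases
import Cfsg.Agent.Lib.Char.SmallCent.Normal
import Cfsg.Agent.Lib.Char.SmallCent.Arith
import Cfsg.Agent.Lib.Char.DihedralEight
import Cfsg.Agent.S0107
import Mathlib.GroupTheory.GroupAction.Jordan

/-!
# The orders of the simple groups with an element whose centralizer has order at most four
-/

set_option autoImplicit false
set_option linter.unusedSectionVars false
set_option linter.style.haveILetI false

namespace CfsgLib.Char.SmallCent

open Subgroup CfsgLib.Block.Dihedral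

universe u

variable {G : Type u} [Group G] [Finite G]

theorem commutator_top [IsSimpleGroup G] (hG : ¬ IsCyclic G) : commutator G = ⊤ := by
  refine (IsSimpleGroup.eq_bot_or_eq_top_of_normal (commutator G) inferInstance).resolve_left fun h => ?_
  refine not_comm hG ⟨⟨fun a b => commutatorElement_eq_one_iff_mul_comm.1 (mem_bot.1 ?_)⟩⟩
  rw [← h]
  exact commutator_mem_commutator (mem_top a) (mem_top b)

/-- In a simple group a frame of order eight gives one class of involutions. -/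
theorem conj_of_frame [IsSimpleGroup G] (hG : ¬ IsCyclic G) {P : Sylow 2 G} {σ τ : G}
    (D : Frame P σ τ 2) : (∀ a b : G, orderOf a = 2 → orderOf b = 2 → IsConj a b) ∧
      Nonempty ((P : Subgroup G) ≃* DihedralGroup (2 ^ 2)) := by
  classical
  haveI : Fact (Nat.Prime 2) := ⟨Nat.prime_two⟩
  have F : CfsgLib.Invol.CyclicFrame 4 (-1) 0 (⟨σ, D.memσ⟩ : (P : Subgroup G)) ⟨τ, D.memτ⟩ :=
    { ord := by rw [← Subgroup.orderOf_coe]; exact D.orderσ
      card := D.card
      notMem := fun h => by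
        obtain ⟨i, hi⟩ := mem_zpowers_iff.1 h
        exact D.not_zpow (mem_zpowers_iff.2 ⟨i, by simpa using congrArg Subtype.val hi⟩)
      conj := by rw [zpow_neg_one]; exact Subtype.ext D.rel
      sq := by rw [zpow_zero]; exact Subtype.ext D.sqτ
      pos := by norm_num }
  obtain ⟨φ⟩ := F.dihedralEquiv
  refine ⟨fun a b ha hb => isConj_iff.2 ?_, ⟨φ⟩⟩
  have hO : Cfsg.pResidual 2 G = ⊤ := by
    haveI := CfsgLib.Fusion.pResidual_normal (G := G) (p := 2)
    refine (IsSimpleGroup.eq_bot_or_eq_top_of_normal (Cfsg.pResidual 2 G) inferInstance).resolve_left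
      fun h => ?_
    refine CfsgLib.Invol.not_isPGroup_of_simple (not_comm hG) (p := 2) ?_
    rw [IsPGroup.iff_card]
    refine ⟨_, Nat.eq_prime_pow_of_unique_prime_dvd Nat.card_pos.ne' fun {d} hd hdvd => ?_⟩
    by_contra hne
    haveI : Fact d.Prime := ⟨hd⟩
    obtain ⟨g, hg⟩ := exists_prime_orderOf_dvd_card' d hdvd
    have h1 : g ∈ Cfsg.pResidual 2 G := subset_closure
      (show Nat.Coprime (orderOf g) 2 by rw [hg]; exact (Nat.coprime_primes hd Nat.prime_two).2 hne)
    rw [h, mem_bot] at h1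
    rw [h1, orderOf_one] at hg
    exact hd.ne_one hg.symm
  exact Cfsg.Agent.S0107.result P 2 le_rfl ⟨φ⟩ hO a b ha hb

/-- A frame with a rotation generating its centralizer gives the setting. -/
theorem setting_of_frame [IsSimpleGroup G] (hG : ¬ IsCyclic G) {P : Sylow 2 G} {σ τ : G}
    (D : Frame P σ τ 2) (hC : Nat.card (centralizer ({σ} : Set G)) = 4) :
    Setting P σ τ ∧ Nonempty ((P : Subgroup G) ≃* DihedralGroup (2 ^ 2)) :=
  ⟨⟨D, hC, (conj_of_frame hG D).1⟩, (conj_of_frame hG D).2⟩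

namespace Setting

variable {P : Sylow 2 G} {σ τ : G} (T : Setting P σ τ)
include T

theorem card_split : ∃ g : ℕ, Odd g ∧ Nat.card G = 8 * g := by
  haveI : Fact (Nat.Prime 2) := ⟨Nat.prime_two⟩
  refine ⟨(P : Subgroup G).index, ?_, ?_⟩
  · rw [← Nat.not_even_iff_odd, even_iff_two_dvd]; exact P.not_dvd_index
  · rw [← (P : Subgroup G).card_mul_index, T.frame.card]

theorem small_case [IsSimpleGroup G] (hG : ¬ IsCyclic G)
    (hφ : Nonempty ((P : Subgroup G) ≃* DihedralGroup (2 ^ 2)))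
    (hm : Nat.card (Wf σ τ) = 1) (hn : Nat.card (Wf σ (τ * σ)) = 1) :
    Nat.card G = 168 ∨ Nat.card G = 360 := by
  obtain ⟨φ⟩ := hφ
  have hC : (P : Subgroup G) = centralizer ({σ ^ 2} : Set G) := by
    refine eq_of_le_of_card_ge T.frame.le_centralizer_J ?_
    rw [T.card_centralizer_z, T.card_W, hm, hn, T.frame.card]
  letI := Fintype.ofFinite G
  exact CfsgLib.Char.card_of_centralizer_dihedral_eight (commutator_top hG) (σ ^ 2) T.orderOf_z
    ((MulEquiv.subgroupCongr hC.symm).trans φ)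

/-- The normalizer of a nontrivial fixed point group and its formula. -/
theorem normalizer_facts [IsSimpleGroup G] (hG : ¬ IsCyclic G) (hm : 1 < Nat.card (Wf σ τ))
    {g : ℕ} (hg : Odd g) (hGg : Nat.card G = 8 * g) :
    ∃ j k x' h' s' : ℕ, Odd s' ∧ g = k * j ∧ k ≠ 1 ∧ 2 * (8 * g) ∣ k.factorial ∧
      k = (normalizer (Wf σ τ : Set G)).index ∧
      Nat.card (normalizer (Wf σ τ : Set G)) = 8 * j ∧
      ((x' = 4 * s' + 1 ∧ h' = 2 * s' + 1) ∨ (x' + 1 = 4 * s' ∧ h' + 1 = 2 * s')) ∧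
      s' ^ 2 * j = Nat.card (Wf σ τ) * Nat.card (Wf σ (τ * σ)) ^ 3 * x' * h' := by
  classical
  set H := normalizer (Wf σ τ : Set G) with hH
  obtain ⟨x, δ, hδ, hx, hxd, hform⟩ := T.normalizer_data hm
  obtain ⟨j, hj⟩ : 8 ∣ Nat.card H := by
    have h1 := card_dvd_of_le (le_trans T.frame.le_centralizer_J T.centralizer_z_le)
    rwa [T.frame.card] at h1
  have hgk : g = H.index * j := by
    have h1 := H.card_mul_index
    rw [hj, hGg] at h1
    apply Nat.eq_of_mul_eq_mul_left (show 0 < 8 by norm_num)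
    rw [← h1]; ring
  have hjodd : Odd j := (Nat.odd_mul.1 (hgk ▸ hg)).2
  have hne : H ≠ ⊤ := by
    intro h
    haveI : (Wf σ τ).Normal := normalizer_eq_top_iff.1 h
    rcases IsSimpleGroup.eq_bot_or_eq_top_of_normal (Wf σ τ) inferInstance with e | e
    · rw [e, card_bot] at hm; omega
    · have h1 := T.Wf_odd τ
      rw [e, card_top, hGg] at h1
      exact absurd h1 (Nat.not_odd_iff_even.2 ⟨4 * g, by ring⟩)
  have hk1 : H.index ≠ 1 := fun h => hne (index_eq_one.1 h)
  have hdvd : 2 * (8 * g) ∣ H.index.factorial := by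
    rw [← hGg, index_eq_card]
    obtain ⟨a, -, ha⟩ := SetLike.exists_of_lt (lt_top_iff_ne_top.2 hne)
    refine CfsgLib.Invol.two_mul_card_dvd_factorial (not_comm hG) ⟨a, ((1 : G) : G ⧸ H), fun e => ha ?_⟩
    rw [MulAction.Quotient.smul_coe, smul_eq_mul, mul_one, QuotientGroup.eq, mul_one] at e
    exact inv_mem_iff.1 e
  rw [hj] at hform
  push_cast at hform
  obtain ⟨s', h', hs', hsh, heq⟩ := shapeK hjodd hδ hx hxd (T.Wf_odd τ) (T.Wf_odd (τ * σ)) hform
  exact ⟨j, H.index, x, h', s', hs', hgk, hk1, hdvd, rfl, hj, hsh, heq⟩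

/-- One trivial factor. -/
theorem case_single [IsSimpleGroup G] (hG : ¬ IsCyclic G) (hm : 1 < Nat.card (Wf σ τ))
    (hn : Nat.card (Wf σ (τ * σ)) = 1) : Nat.card G = 2520 := by
  classical
  obtain ⟨g, hg, hGg⟩ := T.card_split
  obtain ⟨x, δ, A, B, hδ, hx, -, -, hrel, hA, hB⟩ := T.formulas (commutator_top hG)
  rw [hGg, hn] at hA hB
  push_cast at hA hB
  obtain ⟨s, h, u, hs, hu, hsh, heq⟩ := shape (m := Nat.card (Wf σ τ)) (n := 1) hg hδ hx (T.Wf_odd τ) odd_one
    (by push_cast; linear_combination hA)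
  rw [mul_one] at heq
  rcases case_one hg hs hm hu hsh heq hrel (by linear_combination hB) with h1 | ⟨h1, h5⟩
  · omega
  exfalso
  obtain ⟨j, k, x', h', s', hs', hgk, hk1, -, hkH, hjH, hsh', heq'⟩ := T.normalizer_facts hG hm hg hGg
  subst h1
  rw [h5, hn, one_pow, mul_one] at heq'
  have hs1 : s' = 1 := by
    have hco : Nat.Coprime (s' ^ 2) (x' * h') := by
      refine Nat.Coprime.pow_left 2 (Nat.Coprime.mul_right ?_ ?_)
      · rcases hsh' with ⟨rfl, -⟩ | ⟨e1, -⟩
        · simp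
        · refine Nat.coprime_of_dvd' fun d _ hd1 hd2 => ?_
          have h2 : d ∣ 4 * s' := hd1.mul_left 4
          rw [← e1] at h2
          exact (Nat.dvd_add_right hd2).1 h2
      · rcases hsh' with ⟨-, rfl⟩ | ⟨-, e1⟩
        · simp
        · refine Nat.coprime_of_dvd' fun d _ hd1 hd2 => ?_
          have h2 : d ∣ 2 * s' := hd1.mul_left 2
          rw [← e1] at h2
          exact (Nat.dvd_add_right hd2).1 h2
    have h2 : s' ^ 2 ∣ 5 := hco.dvd_of_dvd_mul_right ⟨j, by rw [heq']; ring⟩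
    have h3 := Nat.le_of_dvd (by norm_num) h2
    obtain ⟨c, rfl⟩ := hs'
    have : (2 * c + 1) * (2 * c + 1) ≤ 5 := by rw [← pow_two]; exact h3
    rcases Nat.eq_zero_or_pos c with e | e
    · omega
    · nlinarith
  subst hs1
  simp only [one_pow, one_mul] at heq'
  rcases hsh' with ⟨rfl, rfl⟩ | ⟨e1, e2⟩
  · norm_num at heq'; subst heq'; omega
  obtain rfl : x' = 3 := by omega
  obtain rfl : h' = 1 := by omega
  norm_num at heq'
  have hk63 : k = 63 := by subst heq'; omega
  -- the fixed points form a Sylow 5-subgroup with 63 conjugates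
  haveI : Fact (Nat.Prime 5) := ⟨by norm_num⟩
  have hp5 : IsPGroup 5 (Wf σ τ) := IsPGroup.of_card (n := 1) (by rw [h5, pow_one])
  have hnd : ¬ 5 ∣ (Wf σ τ).index := by
    have h1 := (Wf σ τ).card_mul_index
    rw [h5, hGg] at h1
    omega
  let Q : Sylow 5 G := hp5.toSylow hnd
  have h6 := card_sylow_modEq_one 5 G
  rw [Q.card_eq_index_normalizer] at h6
  change (normalizer (Wf σ τ : Set G)).index ≡ 1 [MOD 5] at h6
  rw [← hkH, hk63] at h6
  exact absurd h6 (by decide)

/-- Two nontrivial factors are impossible. -/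
theorem case_two [IsSimpleGroup G] (hG : ¬ IsCyclic G) (hm : 1 < Nat.card (Wf σ τ))
    (hmn : Nat.card (Wf σ τ) ≤ Nat.card (Wf σ (τ * σ))) : False := by
  classical
  obtain ⟨g, hg, hGg⟩ := T.card_split
  obtain ⟨x, δ, A, B, hδ, hx, -, -, -, hA, -⟩ := T.formulas (commutator_top hG)
  rw [hGg] at hA
  push_cast at hA
  obtain ⟨s, h, u, hs, hu, hsh, heq⟩ := shape hg hδ hx (T.Wf_odd τ) (T.Wf_odd (τ * σ)) hA
  obtain ⟨j, k, x', h', s', hs', hgk, hk1, hdvd, hkH, hjH, hsh', heq'⟩ :=
    T.normalizer_facts hG hm hg hGg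
  obtain ⟨rfl, rfl⟩ := case_both hg hgk hk1 hdvd hm (T.Wf_odd τ) (T.Wf_odd _) hmn hs hu
    (hsh.imp (fun e => e.2) (fun e => e.2)) heq hs' hsh' heq'
  -- index fifteen
  set H := normalizer (Wf σ τ : Set G) with hH
  have hcard : Nat.card G = 29160 := by omega
  have hcoset : Nat.card (G ⧸ H) = 15 := by rw [← index_eq_card, ← hkH]
  haveI : Nontrivial (G ⧸ H) := Finite.one_lt_card_iff_nontrivial.1 (by omega)
  letI := Fintype.ofFinite (G ⧸ H)
  have hco : IsCoatom H := by
    refine ⟨fun e => hk1 (by rw [hkH, e, index_top]), fun K hK => ?_⟩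
    by_contra hKtop
    have h1 := relIndex_mul_index hK.le
    rw [← hkH] at h1
    have hrel : H.relIndex K ≠ 1 := fun e => hK.not_ge (relIndex_eq_one.1 e)
    have hidx : K.index ≠ 1 := fun e => hKtop (index_eq_one.1 e)
    have hK5 : K.index ≤ 5 := by
      have hd : K.index ∣ 15 := ⟨H.relIndex K, by rw [← h1]; ring⟩
      have hlt := Nat.le_of_dvd (by norm_num) hd
      by_contra h5
      interval_cases hi : K.index <;> first | omega | (norm_num at hd)
    obtain ⟨a, -, ha⟩ := SetLike.exists_of_lt (lt_top_iff_ne_top.2 hKtop)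
    have h2 := CfsgLib.Invol.two_mul_card_dvd_factorial (not_comm hG)
      (α := G ⧸ K) ⟨a, ((1 : G) : G ⧸ K), fun e => ha (by
        rw [MulAction.Quotient.smul_coe, smul_eq_mul, mul_one, QuotientGroup.eq, mul_one] at e
        exact inv_mem_iff.1 e)⟩
    have h3 := Nat.le_of_dvd (Nat.factorial_pos _) h2
    rw [← index_eq_card] at h3
    have h4 : K.index.factorial ≤ Nat.factorial 5 := Nat.factorial_le hK5
    rw [hcard] at h3
    norm_num [Nat.factorial] at h4
    omega
  haveI : MulAction.IsPreprimitive G (G ⧸ H) := by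
    rw [← MulAction.isCoatom_stabilizer_iff_preprimitive G ((1 : G) : G ⧸ H),
      MulAction.stabilizer_quotient]
    exact hco
  set φ := MulAction.toPermHom G (G ⧸ H)
  have hinj : Function.Injective φ := by
    rw [← MonoidHom.ker_eq_bot_iff]
    refine (IsSimpleGroup.eq_bot_or_eq_top_of_normal φ.ker inferInstance).resolve_right fun h => ?_
    obtain ⟨a, -, ha⟩ := SetLike.exists_of_lt (lt_top_iff_ne_top.2 hco.1)
    refine ha ?_
    have e : a • ((1 : G) : G ⧸ H) = ((1 : G) : G ⧸ H) :=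
      congrArg (fun π : Equiv.Perm (G ⧸ H) => π ((1 : G) : G ⧸ H)) (MonoidHom.mem_ker.1 (h ▸ mem_top a))
    rw [MulAction.Quotient.smul_coe, smul_eq_mul, mul_one, QuotientGroup.eq, mul_one] at e
    exact inv_mem_iff.1 e
  have hprim : MulAction.IsPreprimitive φ.range (G ⧸ H) := by
    let f : (G ⧸ H) →ₑ[φ.rangeRestrict] (G ⧸ H) := ⟨id, fun _ _ => rfl⟩
    exact MulAction.IsPreprimitive.of_surjective (f := f) Function.surjective_id
  have hcardR : Nat.card φ.range = 29160 := by
    rw [← Nat.card_congr (MonoidHom.ofInjective hinj).toEquiv, hcard]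
  haveI : Fact (Nat.Prime 3) := ⟨Nat.prime_three⟩
  obtain ⟨S₀, hS₀⟩ := Sylow.exists_subgroup_card_pow_prime 3 (n := 6) (G := φ.range)
    (by rw [hcardR]; norm_num)
  set S := S₀.map φ.range.subtype
  have hScard : Nat.card S = 3 ^ 6 := by
    rw [card_map_of_injective Subtype.coe_injective, hS₀]
  have hperm : Nat.card (Equiv.Perm (G ⧸ H)) = Nat.factorial 15 := by rw [Nat.card_perm, hcoset]
  let R : Sylow 3 (Equiv.Perm (G ⧸ H)) := Sylow.ofCard S (by
    rw [hScard, hperm]
    congr 1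
    rw [Nat.factorization_factorial Nat.prime_three (show Nat.log 3 15 < 4 by norm_num [Nat.log_lt_iff_lt_pow])]
    rfl)
  have h3lt : 3 ≤ Fintype.card (G ⧸ H) := by rw [← Nat.card_eq_fintype_card, hcoset]; norm_num
  obtain ⟨c, hc⟩ : ∃ c : Equiv.Perm (G ⧸ H), c.IsThreeCycle := by
    obtain ⟨e⟩ := Function.Embedding.nonempty_of_card_le (α := Fin 3) (β := G ⧸ H) (by simpa using h3lt)
    exact ⟨Equiv.swap (e 0) (e 1) * Equiv.swap (e 0) (e 2),
      Equiv.Perm.isThreeCycle_swap_mul_swap_same (e.injective.ne (by decide)) (e.injective.ne (by decide))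
        (e.injective.ne (by decide))⟩
  obtain ⟨d, hd⟩ := CfsgLib.Invol.exists_conj_le_sylow
    (IsPGroup.of_card (n := 1) (by rw [Nat.card_zpowers, hc.orderOf, pow_one]) :
      IsPGroup 3 (zpowers c)) R
  have hmem : d * c * d⁻¹ ∈ φ.range := by
    obtain ⟨y, -, hy⟩ := (hd c (mem_zpowers c) : d * c * d⁻¹ ∈ S)
    exact hy ▸ y.2
  have hcyc : (d * c * d⁻¹).IsThreeCycle := by
    show (d * c * d⁻¹).cycleType = {3}
    rw [Equiv.Perm.cycleType_conj]; exact hc
  have hle := Equiv.Perm.alternatingGroup_le_of_isPreprimitive_of_isThreeCycle_mem hprim hcyc hmem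
  have h7 := Nat.le_of_dvd Nat.card_pos (card_dvd_of_le hle)
  have h8 : 2 * Nat.card (alternatingGroup (G ⧸ H)) = (15 : ℕ).factorial := by
    have := two_mul_card_alternatingGroup (α := G ⧸ H)
    rwa [← Nat.card_eq_fintype_card, ← Nat.card_eq_fintype_card, hperm] at this
  rw [hcardR] at h7
  rw [show Nat.factorial 15 = 1307674368000 from rfl] at h8
  omega

end Setting

/-- The orders. -/
theorem card_cases [IsSimpleGroup G] (hG : ¬ IsCyclic G) (w : G)
    (hw : Nat.card (centralizer ({w} : Set G)) ≤ 4) :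
    Nat.card G = 60 ∨ Nat.card G = 168 ∨ Nat.card G = 360 ∨ Nat.card G = 2520 := by
  rcases cases hG w hw with h | h | ⟨P, σ, τ, D, hC⟩
  · exact Or.inl h
  · exact Or.inr (Or.inl h)
  obtain ⟨T, hφ⟩ := setting_of_frame hG D hC
  have hm0 : 0 < Nat.card (Wf σ τ) := Nat.card_pos
  have hn0 : 0 < Nat.card (Wf σ (τ * σ)) := Nat.card_pos
  have T' := T.swap
  have hsw : Nat.card (Wf σ (τ * σ * σ)) = Nat.card (Wf σ τ) := by rw [T.Wf_swap]
  rcases Nat.eq_or_lt_of_le hm0 with hm | hm <;> rcases Nat.eq_or_lt_of_le hn0 with hn | hn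
  · rcases T.small_case hG hφ hm.symm hn.symm with h | h
    · exact Or.inr (Or.inl h)
    · exact Or.inr (Or.inr (Or.inl h))
  · exact Or.inr (Or.inr (Or.inr (T'.case_single hG hn (hsw.trans hm.symm))))
  · exact Or.inr (Or.inr (Or.inr (T.case_single hG hm hn.symm)))
  · exfalso
    rcases le_total (Nat.card (Wf σ τ)) (Nat.card (Wf σ (τ * σ))) with h | h
    · exact T.case_two hG hm h
    · exact T'.case_two hG hn (h.trans hsw.ge)

end CfsgLib.Char.SmallCent
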