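import Cfsg.Agent.Lib.Char.SmallCent.Card2520NoElementary
import Cfsg.Agent.Lib.Char.SmallCent.Main

/-!
# The centralizer of an involution in a simple group of order 2520

The Sylow 2-subgroup is dihedral of order eight; the order formula of the principal block leaves
`|C(z)| = 24` with an element of order four generating its centralizer.
-/

set_option autoImplicit false
set_option linter.unusedSectionVars false
set_option linter.style.haveILetI false

namespace CfsgLib.Char.SmallCent.C2520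

open Subgroup CfsgLib.Invol CfsgLib.Block CfsgLib.Block.Dihedral Cfsg

universe u

variable {G : Type u} [Group G] [Finite G]

theorem exists_frame [IsSimpleGroup G] (h : Nat.card G = 2520) :
    ∃ (P : Sylow 2 G) (σ τ : G), Frame P σ τ 2 := by
  classical
  haveI : Fact (Nat.Prime 2) := ⟨Nat.prime_two⟩
  obtain ⟨S⟩ : Nonempty (Sylow 2 G) := inferInstance
  have hS := card_sylow_two h S
  have hG := not_isCyclic h
  have heven : Even (Nat.card G) := by rw [h]; decide
  have hncyc : ¬ IsCyclic (S : Subgroup G) := fun hc => by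
    obtain ⟨H, hH⟩ := exists_index_two_of_cyclic heven S hc
    exact no_index_two h H hH
  have hno8 : ∀ y : (S : Subgroup G), y ^ 4 = 1 := fun y => by
    have hd : orderOf y ∣ 2 ^ 3 := (_root_.orderOf_dvd_natCard y).trans (by rw [hS]; norm_num)
    obtain ⟨i, hi, e⟩ := (Nat.dvd_prime_pow Nat.prime_two).1 hd
    rcases Nat.lt_or_ge i 3 with hi3 | hi3
    · exact orderOf_dvd_iff_pow_eq_one.1 (e ▸ (pow_dvd_pow 2 (show i ≤ 2 by omega)))
    · exact absurd (isCyclic_of_orderOf_eq_card y (by rw [e, show i = 3 by omega, hS]; norm_num)) hncyc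
  obtain ⟨w, hw⟩ : ∃ w : (S : Subgroup G), w * w ≠ 1 := by
    by_contra hcon
    push Not at hcon
    exact false_of_elementary h S fun y hy => congrArg Subtype.val (hcon ⟨y, hy⟩)
  have how : orderOf w = 2 ^ (1 + 1) :=
    orderOf_eq_prime_pow (by rw [pow_one, pow_two]; exact hw) (hno8 w)
  have hidx : (zpowers w).index = 2 := by
    have h1 := (zpowers w).card_mul_index
    rw [Nat.card_zpowers, how, hS] at h1
    norm_num at h1; omega
  by_cases hab : IsMulCommutative (S : Subgroup G)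
  · exfalso
    haveI := hab
    have hsq : ∀ y : (S : Subgroup G), y * y = 1 ∨ y * y = w * w := by
      intro y
      obtain ⟨i, hi⟩ := mem_powers_iff_mem_zpowers.2 (mul_self_mem_of_index_two hidx y)
      have h4 : (y * y) * (y * y) = 1 := by
        have := hno8 y
        rwa [show (4 : ℕ) = 2 + 2 from rfl, pow_add, pow_two] at this
      have hi' : w ^ i = y * y := hi
      rw [← hi'] at h4 ⊢
      rw [← pow_mod_orderOf, how]
      have h2 : w ^ (i + i) = 1 := by rw [pow_add]; exact h4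
      have hd := orderOf_dvd_of_pow_eq_one h2
      rw [how] at hd
      norm_num at hd ⊢
      rcases (show i % 4 = 0 ∨ i % 4 = 2 by omega) with e | e <;> rw [e]
      · exact Or.inl (pow_zero w)
      · exact Or.inr (pow_two w)
    have hz : ((w * w : (S : Subgroup G)) : G) ≠ 1 := fun e => hw (Subtype.ext e)
    refine false_of_central (not_commutative h) S hab (w * w).2 hz fun g hg => ?_
    refine mul_inv_eq_iff_eq_mul.1 ?_
    have hmem := (Subgroup.mem_normalizer_iff.1 hg (w : G)).1 w.2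
    rcases hsq ⟨_, hmem⟩ with e | e
    · exfalso
      have e' : g * (w : G) * g⁻¹ * (g * (w : G) * g⁻¹) = 1 := congrArg Subtype.val e
      rw [show g * (w : G) * g⁻¹ * (g * (w : G) * g⁻¹) = g * ((w : G) * w) * g⁻¹ by group,
        conj_eq_one_iff] at e'
      exact hz e'
    · have e' : g * (w : G) * g⁻¹ * (g * (w : G) * g⁻¹) = (w : G) * w := congrArg Subtype.val e
      rw [show g * (w : G) * g⁻¹ * (g * (w : G) * g⁻¹) = g * ((w : G) * w) * g⁻¹ by group] at e'
      exact e'
  · have hcard : Nat.card (centralizer ({w} : Set (S : Subgroup G))) = 4 := by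
      have hle : zpowers w ≤ centralizer ({w} : Set (S : Subgroup G)) :=
        zpowers_le.2 (mem_centralizer_singleton_iff.2 rfl)
      have h4 : Nat.card (zpowers w) = 4 := by rw [Nat.card_zpowers, how]; norm_num
      have hd : Nat.card (centralizer ({w} : Set (S : Subgroup G))) ∣ 2 ^ 3 :=
        (Subgroup.card_subgroup_dvd_card _).trans (by rw [hS]; norm_num)
      have hge : 4 ≤ Nat.card (centralizer ({w} : Set (S : Subgroup G))) :=
        h4 ▸ Subgroup.card_le_of_le hle
      obtain ⟨i, hi, e⟩ := (Nat.dvd_prime_pow Nat.prime_two).1 hd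
      rcases Nat.lt_or_ge i 3 with hi3 | hi3
      · rw [e] at hge ⊢
        interval_cases i <;> simp_all
      · exfalso
        have htop : centralizer ({w} : Set (S : Subgroup G)) = ⊤ :=
          eq_top_of_card_eq _ (by rw [e, show i = 3 by omega, hS]; norm_num)
        have hc : ∀ y, y * w = w * y := fun y => mem_centralizer_singleton_iff.1 (htop ▸ mem_top y)
        refine hab ⟨⟨fun a b => ?_⟩⟩
        by_cases ha : a ∈ zpowers w
        · obtain ⟨n, rfl⟩ := mem_zpowers_iff.1 ha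
          exact ((show Commute w b from (hc b).symm).zpow_left n).eq
        by_cases hb : b ∈ zpowers w
        · obtain ⟨n, rfl⟩ := mem_zpowers_iff.1 hb
          exact ((show Commute a w from hc a).zpow_right n).eq
        obtain ⟨n, hn⟩ := mem_zpowers_iff.1
          ((mul_mem_iff_of_index_two hidx (a := a⁻¹) (b := b)).2 (by simp [ha, hb]))
        have hb' : b = a * w ^ n := by rw [hn, mul_inv_cancel_left]
        rw [hb']
        exact (((Commute.refl a).mul_right ((show Commute a w from hc a).zpow_right n))).eq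
    obtain ⟨k, r, e, a, b, hstd, F⟩ := exists_std_frame S.2 hab (card_le_four_mul_commutator w hcard)
    have hk' : k = 2 := by
      have h1 := F.card
      rw [hS] at h1
      have h2 : 2 ^ k = 2 ^ 2 := by omega
      exact Nat.pow_right_injective le_rfl h2
    subst hk'
    rcases hstd with ⟨hk, ⟨rfl, rfl | rfl⟩ | ⟨hk3, rfl, rfl⟩⟩
    · obtain ⟨φ⟩ := F.dihedralEquiv
      obtain ⟨τ, D⟩ := Cfsg.Agent.S4481.Aux.exists_frame (P := S) (h := 2) ⟨1, one_pos, rfl⟩ φ
        w.2 (by rw [Subgroup.orderOf_coe, how]; norm_num)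
      exact ⟨S, w, τ, D⟩
    · exfalso
      have hpow : 2 ^ 2 = 2 * 2 := by norm_num
      rw [hpow] at F
      rw [show (2 : ℤ) ^ (2 - 1) = ((2 : ℕ) : ℤ) by norm_num] at F
      obtain ⟨φ⟩ := F.quaternionEquiv
      have hc := card_center_eq_two S le_rfl even_two φ (fun K hK hodd => by
        rcases IsSimpleGroup.eq_bot_or_eq_top_of_normal K hK with h' | h'
        · exact h'
        · rw [h', card_top] at hodd
          exact absurd hodd (Nat.not_odd_iff_even.2 heven))
      rw [center_eq_bot hG, card_bot] at hc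
      omega
    · omega

/-- Exchanging the two classes of reflections. -/
theorem frame_swap {P : Sylow 2 G} {σ τ : G} (D : Frame P σ τ 2) : Frame P σ (τ * σ) 2 := by
  refine ⟨D.pow2, D.memσ, mul_mem D.memτ D.memσ, D.orderσ, ?_, ?_, ?_, D.card, fun x hx => ?_⟩
  · simpa using D.refl_sq 1
  · rw [show (τ * σ) * σ * (τ * σ)⁻¹ = τ * σ * τ⁻¹ by group, D.rel]
  · intro h
    exact D.not_zpow (by simpa using mul_mem h (inv_mem (mem_zpowers σ)))
  · obtain ⟨l, e | e⟩ := D.cases x hx
    · exact ⟨l, Or.inl e⟩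
    · refine ⟨l + 3, Or.inr ?_⟩
      rw [e, mul_assoc τ σ, ← pow_succ', show l + 3 + 1 = l + 4 by rfl, pow_add,
        D.pow_eq_one.2 (dvd_refl 4), mul_one]

section

variable {P : Sylow 2 G} {σ τ : G} (D : Frame P σ τ 2)
include D

theorem conjσ_refl : σ * (τ * σ) * σ⁻¹ = σ * τ := by group

theorem four_of_commute {p : G} (hp : p ∈ (P : Subgroup G)) (hc : τ * p * τ⁻¹ = p) :
    p = 1 ∨ p = σ ^ 2 ∨ p = τ ∨ p = τ * σ ^ 2 := by
  obtain ⟨l, e⟩ := D.cases p hp
  have hl : σ ^ l * σ ^ l = 1 := by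
    have h1 : τ * σ ^ l * τ⁻¹ = σ ^ l := by
      rcases e with e | e
      · rwa [e] at hc
      · rw [e, show τ * (τ * σ ^ l) * τ⁻¹ = τ * (τ * σ ^ l * τ⁻¹) by group] at hc
        exact mul_left_cancel hc
    rw [D.conjτ] at h1
    nth_rewrite 1 [← h1]
    exact inv_mul_cancel _
  have h2 : σ ^ l = 1 ∨ σ ^ l = σ ^ 2 := by
    by_cases h1 : σ ^ l = 1
    · exact Or.inl h1
    · exact Or.inr (D.eq_J h1 (by by_contra hd; exact (D.sq_ne_iff l).2 hd hl))
  rcases e with e | e <;> rcases h2 with h2 | h2 <;> rw [h2] at e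
  · exact Or.inl e
  · exact Or.inr (Or.inl e)
  · exact Or.inr (Or.inr (Or.inl (by rw [e, mul_one])))
  · exact Or.inr (Or.inr (Or.inr e))

/-- The shapes of the centralizers: a normal part of odd order `w`, and its fixed points. -/
theorem local_shape (h : Nat.card G = 2520) [IsSimpleGroup G] :
    ∃ π : centralizer ({σ ^ 2} : Set G) →* G,
      (∀ y, π y ∈ (P : Subgroup G)) ∧
      (∀ y : centralizer ({σ ^ 2} : Set G), (y : G) ∈ (P : Subgroup G) → π y = (y : G)) ∧
      (∀ y, π y = 1 ↔ ¬ 2 ∣ orderOf y) ∧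
      Nat.card π.ker ∣ 9 ∧ Nat.card (centralizer ({σ ^ 2} : Set G)) = 8 * Nat.card π.ker ∧
      ∃ m, m ∣ 9 ∧ Nat.card (centralizer ({σ ^ 2, τ} : Set G)) = 4 * m ∧
        m ∣ Nat.card π.ker := by
  classical
  set C := centralizer ({σ ^ 2} : Set G)
  obtain ⟨π, hP, hfix, hπ⟩ := D.exists_retraction
  have hrange : π.range = (P : Subgroup G) := by
    refine le_antisymm (fun y ⟨c, e⟩ => e ▸ hP c) fun y hy => ?_
    exact ⟨⟨y, D.le_centralizer_J hy⟩, hfix _ hy⟩
  have hcard : Nat.card C = 8 * Nat.card π.ker := by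
    rw [← π.ker.card_mul_index, index_ker, hrange, D.card]; ring
  have hz0 : σ ^ 2 ≠ 1 := D.sigma_h_ne
  have h72 : Nat.card C ∣ 72 := dvd_seventy_two h hz0 (k := 2)
    (by rw [pow_two]; exact D.sigma_h_sq) (by norm_num) C fun y hy => mem_cent.1 hy
  have h9 : Nat.card π.ker ∣ 9 := by
    rw [hcard] at h72
    exact Nat.dvd_of_mul_dvd_mul_left (by norm_num) (show 8 * _ ∣ 8 * 9 from h72)
  set E : Subgroup C := (centralizer ({σ ^ 2, τ} : Set G)).subgroupOf C
  have hEC : centralizer ({σ ^ 2, τ} : Set G) ≤ C :=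
    centralizer_le (Set.singleton_subset_iff.2 (Set.mem_insert _ _))
  have hτC : τ ∈ C := D.le_centralizer_J D.memτ
  set ρ : E →* G := π.comp E.subtype
  have hEmem : ∀ y : C, y ∈ E ↔ (y : G) * τ = τ * (y : G) := fun y => by
    rw [mem_subgroupOf, mem_centralizer_iff]
    refine ⟨fun hy => (hy τ (Set.mem_insert_of_mem _ rfl)).symm, fun hy u hu => ?_⟩
    rcases hu with rfl | rfl
    exacts [(mem_cent.1 y.2).symm, hy.symm]
  have hfour : ∀ y ∈ ({1, σ ^ 2, τ, τ * σ ^ 2} : Finset G), y ∈ ρ.range := by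
    intro y hy
    have hyP : y ∈ (P : Subgroup G) ∧ y * τ = τ * y := by
      have hzτ : Commute (σ ^ 2) τ := (D.J_comm D.memτ).symm
      simp only [Finset.mem_insert, Finset.mem_singleton] at hy
      rcases hy with rfl | rfl | rfl | rfl
      · exact ⟨one_mem _, by simp⟩
      · exact ⟨pow_mem D.memσ 2, hzτ.eq⟩
      · exact ⟨D.memτ, rfl⟩
      · exact ⟨mul_mem D.memτ (pow_mem D.memσ 2), ((Commute.refl τ).mul_left hzτ).eq⟩
    exact ⟨⟨⟨y, D.le_centralizer_J hyP.1⟩, (hEmem _).2 hyP.2⟩, hfix _ hyP.1⟩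
  have hsub : ∀ y ∈ ρ.range, y ∈ ({1, σ ^ 2, τ, τ * σ ^ 2} : Finset G) := by
    rintro y ⟨c, rfl⟩
    have hc : ρ c * τ = τ * ρ c := by
      have e : (c : C) * ⟨τ, hτC⟩ = ⟨τ, hτC⟩ * (c : C) := Subtype.ext ((hEmem _).1 c.2)
      have e' := congrArg π e
      rwa [map_mul, map_mul, hfix ⟨τ, hτC⟩ D.memτ] at e'
    have := four_of_commute D (hP (c : C)) (mul_inv_eq_iff_eq_mul.2 hc.symm)
    simpa [ρ] using this
  have hr : Nat.card ρ.range = 4 := by
    rw [show Nat.card ρ.range = Nat.card {y // y ∈ ({1, σ ^ 2, τ, τ * σ ^ 2} : Finset G)} from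
      Nat.card_congr (Equiv.subtypeEquivRight fun y => ⟨hsub y, hfour y⟩), Nat.card_eq_fintype_card,
      Fintype.card_coe]
    have e1 : τ ≠ σ ^ 2 := fun e => D.refl_not_rot 0 2 (by simpa using e)
    have e2 : τ ≠ 1 := fun e => D.refl_not_rot 0 0 (by simpa using e)
    have e3 : τ * σ ^ 2 ≠ 1 := fun e => D.refl_not_rot 2 0 (by simpa using e)
    have e4 : τ * σ ^ 2 ≠ σ ^ 2 := fun e => e2 (mul_eq_right.1 e)
    have e5 : τ * σ ^ 2 ≠ τ := fun e => hz0 (mul_eq_left.1 e)
    rw [Finset.card_insert_of_notMem (by simp [hz0.symm, e2.symm, e3.symm]),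
      Finset.card_insert_of_notMem (by simp [e1.symm, e4.symm]),
      Finset.card_insert_of_notMem (by simp [e5.symm]), Finset.card_singleton]
  refine ⟨π, hP, hfix, hπ, h9, hcard, Nat.card ρ.ker, ?_, ?_, ?_⟩
  rotate_left
  · rw [← Nat.card_congr (subgroupOfEquivOfLe hEC).toEquiv, ← ρ.ker.card_mul_index, index_ker, hr]
    ring
  all_goals
    have hle : ρ.ker.map E.subtype ≤ π.ker := fun y ⟨c, hc, e⟩ => e ▸ hc
    have h1 := card_dvd_of_le hle
    rw [card_map_of_injective E.subtype_injective] at h1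
  · exact h1
  · exact h1.trans h9

end

/-- The arithmetic of the order formula. -/
theorem arith {w m n x : ℕ} {δ : ℤ} (hw : w = 3 ∨ w = 9) (hm : m = 1 ∨ m = 3 ∨ m = 9)
    (hn : n = 1 ∨ n = 3 ∨ n = 9) (hδ : δ = 1 ∨ δ = -1) (hx : 1 ≤ x)
    (e : 2520 * ((m : ℤ) * n) ^ 2 * ((x : ℤ) - δ) ^ 2 =
      64 * (w : ℤ) ^ 3 * x * ((x : ℤ) + δ) * ((m : ℤ) + n) ^ 2)
    (hne : (x : ℤ) + δ ≠ 0) : w = 3 ∧ ((m = 3 ∧ n = 1) ∨ (m = 1 ∧ n = 3)) := by
  have hx61 : x < 61 := by
    by_contra hlt
    push Not at hlt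
    have hx' : (61 : ℤ) ≤ x := by exact_mod_cast hlt
    rcases hw with rfl | rfl <;> rcases hm with rfl | rfl | rfl <;> rcases hn with rfl | rfl | rfl <;>
      rcases hδ with rfl | rfl <;> norm_num at e <;> nlinarith
  have key : ∀ x' ∈ List.range 61, ∀ w' ∈ ([3, 9] : List ℕ), ∀ m' ∈ ([1, 3, 9] : List ℕ),
      ∀ n' ∈ ([1, 3, 9] : List ℕ), ∀ δ' ∈ ([1, -1] : List ℤ), 1 ≤ x' → (x' : ℤ) + δ' ≠ 0 →
      2520 * ((m' : ℤ) * n') ^ 2 * ((x' : ℤ) - δ') ^ 2 =
        64 * (w' : ℤ) ^ 3 * x' * ((x' : ℤ) + δ') * ((m' : ℤ) + n') ^ 2 →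
      w' = 3 ∧ ((m' = 3 ∧ n' = 1) ∨ (m' = 1 ∧ n' = 3)) := by
    decide +kernel
  exact key x (List.mem_range.2 hx61) w (by simpa using hw) m (by simpa using hm) n (by simpa using hn) δ (by simpa using hδ)
    hx hne e

theorem exists_setting [IsSimpleGroup G] (h : Nat.card G = 2520) :
    ∃ (P : Sylow 2 G) (σ τ : G), Setting P σ τ ∧ Nat.card (Wf σ τ) = 3 ∧
      Nat.card (Wf σ (τ * σ)) = 1 := by
  classical
  obtain ⟨P, σ, τ, D⟩ := exists_frame h
  obtain ⟨hconj, ⟨φ⟩⟩ := conj_of_frame (not_isCyclic h) D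
  have hG := commutator_top (not_isCyclic h)
  have hpair : ∀ {t : G}, Frame P σ t 2 → Nat.card (centralizer ({σ ^ 2, σ * t} : Set G)) =
      Nat.card (centralizer ({σ ^ 2, t * σ} : Set G)) := fun {t} Dt => by
    refine (Nat.card_congr ((MulAut.conj σ).toEquiv.subtypeEquiv fun y => ?_)).symm
    simp only [mem_centralizer_iff, Set.mem_insert_iff, Set.mem_singleton_iff, forall_eq_or_imp, forall_eq]
    show _ ↔ σ ^ 2 * (σ * y * σ⁻¹) = σ * y * σ⁻¹ * σ ^ 2 ∧ σ * t * (σ * y * σ⁻¹) = σ * y * σ⁻¹ * (σ * t)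
    rw [show σ ^ 2 * (σ * y * σ⁻¹) = σ * (σ ^ 2 * y) * σ⁻¹ by group,
      show σ * y * σ⁻¹ * σ ^ 2 = σ * (y * σ ^ 2) * σ⁻¹ by group,
      show σ * t * (σ * y * σ⁻¹) = σ * ((t * σ) * y) * σ⁻¹ by group,
      show σ * y * σ⁻¹ * (σ * t) = σ * (y * (t * σ)) * σ⁻¹ by group]
    simp only [mul_left_inj, mul_right_inj]
  -- it suffices to have the two fixed point groups
  suffices hmain : ∃ t : G, Frame P σ t 2 ∧ Nat.card (centralizer ({σ ^ 2} : Set G)) = 24 ∧
      Nat.card (centralizer ({σ ^ 2, t} : Set G)) = 12 ∧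
      Nat.card (centralizer ({σ ^ 2, σ * t} : Set G)) = 4 by
    obtain ⟨t, Dt, hc, hc1, hc2⟩ := hmain
    set C := centralizer ({σ ^ 2} : Set G)
    obtain ⟨π, hP, hfix, hπ, -, hcard, m, -, hm, -⟩ := local_shape Dt h
    have hker : Nat.card π.ker = 3 := by have := hcard.symm.trans hc; omega
    have hC : Nat.card (centralizer ({σ} : Set G)) = 4 := by
      have hσ4 : zpowers σ ≤ centralizer ({σ} : Set G) := zpowers_le.2 (mem_cent.2 rfl)
      have h4 : Nat.card (zpowers σ) = 4 := by rw [Nat.card_zpowers, Dt.orderσ]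
      refine le_antisymm ?_ (h4 ▸ Subgroup.card_le_of_le hσ4)
      have hle : ∀ y, y ∈ centralizer ({σ} : Set G) → y ∈ C := fun y hy =>
        mem_cent.2 ((show Commute y σ from mem_cent.1 hy).pow_right 2).eq
      rw [← h4]
      refine Nat.card_le_card_of_injective
        (fun y : centralizer ({σ} : Set G) => (⟨π ⟨y, hle y y.2⟩, ?_⟩ : zpowers σ)) ?_
      · obtain ⟨l, e | e⟩ := Dt.cases _ (hP ⟨y, hle y y.2⟩)
        · rw [e]; exact npow_mem_zpowers σ l
        · exfalso
          have hcy : (⟨y, hle y y.2⟩ : C) * ⟨σ, hle σ (mem_cent.2 rfl)⟩ =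
              ⟨σ, hle σ (mem_cent.2 rfl)⟩ * ⟨y, hle y y.2⟩ := Subtype.ext (mem_cent.1 y.2)
          have h1 := congrArg π hcy
          rw [map_mul, map_mul, hfix ⟨σ, hle σ (mem_cent.2 rfl)⟩ Dt.memσ, e] at h1
          have h2 : t * σ * t⁻¹ = σ := by
            refine mul_inv_eq_iff_eq_mul.2 ?_
            have h3 : (t * σ) * σ ^ l = σ * t * σ ^ l := by
              rw [mul_assoc, ← pow_succ', pow_succ, ← mul_assoc, h1, mul_assoc]
            exact mul_right_cancel h3
          rw [Dt.rel] at h2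
          have : σ ^ 2 = 1 := by rw [pow_two]; nth_rewrite 1 [← h2]; exact inv_mul_cancel σ
          exact Dt.sigma_h_ne this
      · intro a b e
        have e' : π ⟨a, hle a a.2⟩ = π ⟨b, hle b b.2⟩ := congrArg Subtype.val e
        by_contra hne
        set d : C := (⟨b, hle b b.2⟩ : C)⁻¹ * ⟨a, hle a a.2⟩
        have hd : d ∈ π.ker := by rw [MonoidHom.mem_ker, map_mul, map_inv, e', inv_mul_cancel]
        have hd1 : d ≠ 1 := fun e1 => hne (Subtype.ext (congrArg Subtype.val (inv_mul_eq_one.1 e1)).symm)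
        -- the kernel has order three, so it commutes with `σ`, hence with `σ t`
        obtain ⟨q, hq1, hqt⟩ : ∃ q : C, q ∈ π.ker ∧ q ≠ 1 ∧ (q : G) * t = t * (q : G) := by
          set C1 := centralizer ({σ ^ 2, t} : Set G)
          obtain ⟨y, hy⟩ : ∃ y : C1, orderOf y = 3 := by
            haveI : Fact (Nat.Prime 3) := ⟨Nat.prime_three⟩
            exact exists_prime_orderOf_dvd_card' 3 (by rw [hc1]; norm_num)
          have hyC : (y : G) ∈ C := mem_cent.2
            ((Subgroup.mem_centralizer_iff.1 y.2) (σ ^ 2) (Set.mem_insert _ _)).symm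
          have ho : orderOf (⟨y, hyC⟩ : C) = 3 := by
            rw [← Subgroup.orderOf_coe]
            show orderOf (y : G) = 3
            rw [Subgroup.orderOf_coe, hy]
          refine ⟨⟨y, hyC⟩, MonoidHom.mem_ker.2 ((hπ _).2 (by rw [ho]; norm_num)), fun e1 => ?_, ?_⟩
          · rw [e1, orderOf_one] at ho; norm_num at ho
          · exact ((Subgroup.mem_centralizer_iff.1 y.2) t (Set.mem_insert_of_mem _ rfl)).symm
        haveI : Fact (Nat.Prime 3) := ⟨Nat.prime_three⟩
        have hgen : (⟨d, hd⟩ : π.ker) ∈ zpowers (⟨q, hq1⟩ : π.ker) :=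
          mem_zpowers_of_prime_card (g := (⟨q, hq1⟩ : π.ker)) hker (fun e1 => hqt.1 (congrArg Subtype.val e1))
        have hgen' : (⟨q, hq1⟩ : π.ker) ∈ zpowers (⟨d, hd⟩ : π.ker) :=
          mem_zpowers_of_prime_card (g := (⟨d, hd⟩ : π.ker)) hker (fun e1 => hd1 (congrArg Subtype.val e1))
        obtain ⟨n, hn⟩ := mem_zpowers_iff.1 hgen'
        have hn' : (d : G) ^ n = (q : G) := by
          simpa using congrArg (fun z : π.ker => ((z : C) : G)) hn
        have hdσ : Commute (d : G) σ :=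
          (show Commute ((b : G)⁻¹ * (a : G)) σ from
            ((show Commute (b : G) σ from mem_cent.1 b.2).inv_left).mul_left (mem_cent.1 a.2))
        have hqσ : Commute (q : G) σ := hn' ▸ hdσ.zpow_left n
        have hq2 : (q : G) ∈ centralizer ({σ ^ 2, σ * t} : Set G) := by
          refine Subgroup.mem_centralizer_iff.2 fun u hu => ?_
          rcases hu with rfl | rfl
          · exact (hqσ.pow_right 2).eq.symm
          · exact (hqσ.mul_right hqt.2).eq.symm
        have h3 : orderOf (⟨q, hq1⟩ : π.ker) ∣ 3 := hker ▸ _root_.orderOf_dvd_natCard _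
        have h4' : orderOf (q : G) ∣ 4 := by
          rw [← hc2, ← Subgroup.orderOf_mk (H := centralizer ({σ ^ 2, σ * t} : Set G)) (q : G) hq2]
          exact _root_.orderOf_dvd_natCard _
        rw [← Subgroup.orderOf_coe, ← Subgroup.orderOf_coe] at h3
        refine hqt.1 (Subtype.ext (orderOf_eq_one_iff.1 ?_))
        exact Nat.eq_one_of_dvd_coprimes (by norm_num : Nat.Coprime 3 4) h3 h4'
    obtain ⟨T, -⟩ := setting_of_frame (not_isCyclic h) Dt hC
    refine ⟨P, σ, t, T, ?_, ?_⟩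
    · have := T.card_centralizer_pair; omega
    · have := T.card_centralizer_pair'; omega
  obtain ⟨π, -, -, -, hw9, hc, m, hm9, hc1, -⟩ := local_shape D h
  obtain ⟨π', -, -, -, -, hc', n, hn9, hc2, -⟩ := local_shape (frame_swap D) h
  rw [← hpair D] at hc2
  set w := Nat.card π.ker
  have three : ∀ d, d ∣ 9 → d = 1 ∨ d = 3 ∨ d = 9 := fun d hd => by
    obtain ⟨i, hi, e⟩ := (Nat.dvd_prime_pow Nat.prime_three).1 (show d ∣ 3 ^ 2 from hd)
    interval_cases i <;> simp [e]
  have hw : w = 3 ∨ w = 9 := by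
    rcases three w hw9 with h1 | h1 | h1
    · exfalso
      have hC : (P : Subgroup G) = centralizer ({σ ^ 2} : Set G) :=
        eq_of_le_of_card_ge D.le_centralizer_J (by rw [hc, h1, D.card])
      have hz : orderOf (σ ^ 2) = 2 :=
        orderOf_eq_prime (by rw [pow_two]; exact D.sigma_h_sq) D.sigma_h_ne
      letI := Fintype.ofFinite G
      rcases CfsgLib.Char.card_of_centralizer_dihedral_eight hG (σ ^ 2) hz
        ((MulEquiv.subgroupCongr hC.symm).trans φ) with e | e <;> omega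
    · exact Or.inl h1
    · exact Or.inr h1
  obtain ⟨M, hM⟩ := exists_pModular (p := 2) Nat.prime_two
  obtain ⟨ζ, hζ⟩ := exists_zeta
  obtain ⟨χ₁, χ₂, χ₃, χ', δ₁, δ₂, δ₃, Tb⟩ := D.exists_table hM hζ
  have hτ2 : orderOf τ = 2 := orderOf_eq_prime (by rw [pow_two]; exact D.sqτ)
    fun e => D.refl_not_rot 0 0 (by simpa using e)
  have hz2 : orderOf (σ ^ 2) = 2 :=
    orderOf_eq_prime (by rw [pow_two]; exact D.sigma_h_sq) D.sigma_h_ne
  have hστ2 : orderOf (σ * τ) = 2 := by
    rw [show σ * τ = MulAut.conj σ (τ * σ) by rw [MulAut.conj_apply]; group, MulEquiv.orderOf_eq]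
    exact orderOf_eq_prime (by rw [pow_two]; simpa using D.refl_sq 1)
      fun e => D.refl_not_rot 1 0 (by simpa using e)
  have hgen : closure ({σ, τ} : Set G) = (P : Subgroup G) := by
    refine le_antisymm ((closure_le _).2 ?_) fun y hy => ?_
    · rintro y (rfl | rfl)
      exacts [D.memσ, D.memτ]
    · have hσ : σ ∈ closure ({σ, τ} : Set G) := subset_closure (Set.mem_insert _ _)
      obtain ⟨l, rfl | rfl⟩ := D.cases y hy
      · exact pow_mem hσ l
      · exact mul_mem (subset_closure (Set.mem_insert_of_mem _ rfl)) (pow_mem hσ l)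
  obtain ⟨hxne, hord⟩ := Cfsg.Agent.S4482.result M hM 3 le_rfl P σ τ D.memσ D.memτ
    (by rw [D.orderσ]; norm_num) hτ2 D.rel hgen
    ⟨hconj _ _ (by simpa using hz2) hτ2, hconj _ _ (by simpa using hz2) hστ2⟩
    χ₁ (by rw [Tb.block]; exact Or.inr (Or.inl rfl)) (fun e => Tb.ne₁ (Subtype.ext e)) δ₁ Tb.sign₁
    (fun l h1 h2 => (Tb.val l h1 (by simpa using h2)).1)
  obtain ⟨hd, hd0⟩ := CfsgLib.Block.charDegree_eq χ₁
  set d := charDegree (χ₁ : G → ℂ) with hddef
  have hdδ : (d : ℤ) + δ₁ ≠ 0 := by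
    intro e
    have e' : (d : ℚ) + δ₁ = 0 := by exact_mod_cast congrArg (fun z : ℤ => (z : ℚ)) e
    rw [e'] at hord
    simp only [mul_zero, zero_mul] at hord
    have hG0 : (Nat.card G : ℚ) ≠ 0 := Nat.cast_ne_zero.2 Nat.card_pos.ne'
    rcases mul_eq_zero.1 hord with e0 | e0
    · exact hG0 e0
    · have e1 := sub_eq_zero.1 (pow_eq_zero_iff two_ne_zero |>.1 e0)
      exact hxne (by exact_mod_cast e1)
  simp only [show (2 : ℕ) ^ (3 - 2) = 2 from rfl] at hord
  rw [h, hc, hc1, hc2] at hord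
  have hm0 : (m : ℚ) ≠ 0 := Nat.cast_ne_zero.2 (by rintro rfl; omega)
  have hn0 : (n : ℚ) ≠ 0 := Nat.cast_ne_zero.2 (by rintro rfl; omega)
  have he : 2520 * ((m : ℤ) * n) ^ 2 * ((d : ℤ) - δ₁) ^ 2 =
      64 * (w : ℤ) ^ 3 * d * ((d : ℤ) + δ₁) * ((m : ℤ) + n) ^ 2 := by
    apply Int.cast_injective (α := ℚ)
    push_cast at hord ⊢
    linear_combination (norm := (field_simp; ring)) ((m : ℚ) * n) ^ 2 * hord
  obtain ⟨hw3, hmn⟩ := arith hw (three m hm9) (three n hn9) Tb.sign₁ (by omega) he hdδ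
  rcases hmn with ⟨rfl, rfl⟩ | ⟨rfl, rfl⟩
  · exact ⟨τ, D, by omega, hc1, hc2⟩
  · refine ⟨τ * σ, frame_swap D, by omega, ?_, ?_⟩
    · rw [← hpair D, hc2]
    · rw [hpair (frame_swap D)]
      have e : centralizer ({σ ^ 2, τ * σ * σ} : Set G) = centralizer ({σ ^ 2, τ} : Set G) := by
        ext y
        simp only [mem_centralizer_iff, Set.mem_insert_iff, Set.mem_singleton_iff, forall_eq_or_imp,
          forall_eq, mul_assoc τ σ σ, ← pow_two]
        refine and_congr_right fun hz => ⟨fun hy => ?_, fun hy => ?_⟩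
        · have h1 : Commute (τ * σ ^ 2 * σ ^ 2) y := (show Commute (τ * σ ^ 2) y from hy).mul_left hz
          rwa [mul_assoc, D.sigma_h_sq, mul_one] at h1
        · exact ((show Commute τ y from hy).mul_left hz).eq
      rw [e, hc1]

end CfsgLib.Char.SmallCent.C2520
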