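import Cfsg.Agent.Lib.Invol.FourCentralizer
import Cfsg.Agent.Lib.Invol.SmallSimple
import Cfsg.Agent.Lib.Invol.CyclicCentralizer
import Cfsg.Agent.Lib.Invol.BrauerSuzuki
import Cfsg.Agent.Lib.Invol.QDTransfer
import Cfsg.Agent.Lib.Invol.Taussky
import Cfsg.Agent.Lib.Char.SelfCentThree.Simple
import Cfsg.Agent.S4481

/-!
# Simple groups with an element whose centralizer has order at most four: the first reduction

Either the order is 60 or 168, or a Sylow 2-subgroup is dihedral of order eight and an element of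
order four generates its own centralizer.
-/

set_option autoImplicit false
set_option linter.unusedSectionVars false
set_option linter.style.haveILetI false

namespace CfsgLib.Char.SmallCent

open Subgroup CfsgLib.Invol
open scoped commutatorElement

universe u

/-- A 2-group with an element whose centralizer has order four has an abelianization of order at
most four. -/
theorem card_le_four_mul_commutator {S : Type u} [Group S] [Finite S] (x : S)
    (hC : Nat.card (centralizer ({x} : Set S)) = 4) :
    Nat.card S ≤ 4 * Nat.card (commutator S) := by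
  set C := centralizer ({x} : Set S)
  rw [← C.card_mul_index, hC]
  refine Nat.mul_le_mul_left 4 ?_
  let f : S ⧸ C → commutator S := Quotient.lift (fun g : S => (⟨g * x * g⁻¹ * x⁻¹, by
      rw [← commutatorElement_def]
      exact commutator_mem_commutator (mem_top g) (mem_top x)⟩ : commutator S))
    (fun g h hgh => by
      have h1 : g⁻¹ * h ∈ C := QuotientGroup.leftRel_apply.1 hgh
      have h2 : g⁻¹ * h * x = x * (g⁻¹ * h) := mem_centralizer_singleton_iff.1 h1
      refine Subtype.ext ?_
      show g * x * g⁻¹ * x⁻¹ = h * x * h⁻¹ * x⁻¹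
      rw [show h * x * h⁻¹ = g * (g⁻¹ * h * x) * h⁻¹ by group, h2]
      group)
  refine Nat.card_le_card_of_injective f fun q q' hqq' => ?_
  obtain ⟨g, rfl⟩ := QuotientGroup.mk_surjective q
  obtain ⟨h, rfl⟩ := QuotientGroup.mk_surjective q'
  have h1 : g * x * g⁻¹ * x⁻¹ = h * x * h⁻¹ * x⁻¹ := congrArg Subtype.val hqq'
  refine QuotientGroup.eq.2 (mem_centralizer_singleton_iff.2 ?_)
  rw [mul_left_inj] at h1
  calc g⁻¹ * h * x = g⁻¹ * (h * x * h⁻¹) * h := by group
    _ = g⁻¹ * (g * x * g⁻¹) * h := by rw [h1]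
    _ = x * (g⁻¹ * h) := by group

variable {G : Type u} [Group G] [Finite G]

theorem not_comm [IsSimpleGroup G] (hG : ¬ IsCyclic G) : ¬ IsMulCommutative G :=
  fun h => hG (isCyclic_of_comm h)

theorem center_eq_bot [IsSimpleGroup G] (hG : ¬ IsCyclic G) : center G = ⊥ := by
  rcases IsSimpleGroup.eq_bot_or_eq_top_of_normal (center G) inferInstance with h | h
  · exact h
  · exact absurd ⟨⟨fun a b => (mem_center_iff.1 (h ▸ mem_top b) a)⟩⟩ (not_comm hG)

/-- Elements of order three with centralizers of order three. -/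
theorem cent3_of_card {x : G} (hx : orderOf x = 3)
    (hC : Nat.card (centralizer ({x} : Set G)) = 3) : SelfCentThree.Cent3 G := by
  classical
  haveI : Fact (Nat.Prime 3) := ⟨Nat.prime_three⟩
  have hCx : centralizer ({x} : Set G) = zpowers x :=
    (eq_of_le_of_card_ge (zpowers_le.2 (mem_centralizer_singleton_iff.2 rfl))
      (by rw [hC, Nat.card_zpowers, hx])).symm
  obtain ⟨P, hP⟩ := (IsPGroup.of_card (n := 1)
    (by rw [Nat.card_zpowers, hx, pow_one]) : IsPGroup 3 (zpowers x)).exists_le_sylow
  have hxP : x ∈ (P : Subgroup G) := hP (mem_zpowers x)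
  have hPx : (P : Subgroup G) = zpowers x := by
    refine le_antisymm ?_ hP
    haveI : Nontrivial (P : Subgroup G) := ⟨⟨⟨x, hxP⟩, 1, fun e => by
      have h1 : x = 1 := congrArg Subtype.val e
      rw [h1, orderOf_one] at hx; omega⟩⟩
    haveI := P.2.center_nontrivial
    obtain ⟨⟨c, hc⟩, hc1⟩ := exists_ne (1 : center (P : Subgroup G))
    have hcx : (c : G) ∈ zpowers x := hCx ▸ mem_centralizer_singleton_iff.2
      (congrArg Subtype.val (mem_center_iff.1 hc ⟨x, hxP⟩)).symm
    have hgen : zpowers (c : G) = zpowers x := by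
      refine eq_of_le_of_card_ge (zpowers_le.2 hcx) ?_
      rw [Nat.card_zpowers, Nat.card_zpowers, hx]
      have h1 : orderOf (c : G) ∣ 3 := by
        have h0 := card_dvd_of_le (zpowers_le.2 hcx)
        rwa [Nat.card_zpowers, Nat.card_zpowers, hx] at h0
      rcases (Nat.dvd_prime Nat.prime_three).1 h1 with h | h
      · exact absurd (Subtype.ext (Subtype.ext (orderOf_eq_one_iff.1 h))) hc1
      · omega
    intro p hp
    have hxc : x ∈ zpowers (c : G) := hgen ▸ mem_zpowers x
    rw [← hCx]
    refine mem_centralizer_singleton_iff.2 ?_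
    obtain ⟨i, rfl⟩ := mem_zpowers_iff.1 hxc
    exact ((show Commute p (c : G) from
      congrArg Subtype.val (mem_center_iff.1 hc ⟨p, hp⟩)).zpow_right i).eq
  intro y g hy hgy
  obtain ⟨k, hk⟩ := exists_conj_le_sylow (Q := zpowers y)
    (IsPGroup.of_card (n := 1) (by rw [Nat.card_zpowers, hy, pow_one])) P
  have hmem : k * y * k⁻¹ ∈ (P : Subgroup G) := hk y (mem_zpowers y)
  rw [hPx] at hmem
  have hgen : zpowers (k * y * k⁻¹) = zpowers x := by
    refine eq_of_le_of_card_ge (zpowers_le.2 hmem) ?_
    rw [Nat.card_zpowers, Nat.card_zpowers, hx]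
    exact (((MulAut.conj k).orderOf_eq y).trans hy).ge
  have hgk : Commute (k * g * k⁻¹) (k * y * k⁻¹) :=
    (show Commute g y from hgy).map (MulAut.conj k).toMonoidHom
  have hgx : k * g * k⁻¹ ∈ zpowers (k * y * k⁻¹) := by
    rw [hgen, ← hCx]
    refine mem_centralizer_singleton_iff.2 ?_
    obtain ⟨i, hi⟩ := mem_zpowers_iff.1 (hgen ▸ mem_zpowers x : x ∈ zpowers (k * y * k⁻¹))
    rw [← hi]
    exact (hgk.zpow_right i).eq
  obtain ⟨i, hi⟩ := mem_zpowers_iff.1 hgx
  have hg : g = y ^ (i % 3) := by
    rw [show (3 : ℤ) = ((orderOf y : ℕ) : ℤ) by rw [hy]; rfl, zpow_mod_orderOf]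
    refine mul_left_cancel (a := k) (mul_right_cancel (b := k⁻¹) ?_)
    rw [← hi, conj_zpow]
  have hcases : i % 3 = 0 ∨ i % 3 = 1 ∨ i % 3 = 2 := by omega
  rcases hcases with e | e | e <;> rw [e] at hg
  · exact Or.inl (by rwa [zpow_zero] at hg)
  · exact Or.inr (Or.inl (by rwa [zpow_one] at hg))
  · refine Or.inr (Or.inr ?_)
    rw [hg, eq_inv_iff_mul_eq_one, zpow_ofNat, ← pow_succ, show 2 + 1 = orderOf y by omega,
      pow_orderOf_eq_one]

theorem index_ne_two [IsSimpleGroup G] (hG : ¬ IsCyclic G) (H : Subgroup G) : H.index ≠ 2 :=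
  not_isMulCommutative_index_ne_two (not_comm hG) H

/-- An involution with centralizer of order four. -/
theorem card_eq_sixty_of_invol [IsSimpleGroup G] (hG : ¬ IsCyclic G) {w : G} (hw : orderOf w = 2)
    (hC : Nat.card (centralizer ({w} : Set G)) = 4) : Nat.card G = 60 := by
  classical
  haveI : Fact (Nat.Prime 2) := ⟨Nat.prime_two⟩
  by_cases hCe : ∀ c ∈ centralizer ({w} : Set G), c ^ 2 = 1
  · obtain ⟨e⟩ := iso_alternating_five hw hC hCe
      (fun ⟨T, N, hN, hc⟩ => by
        rcases IsSimpleGroup.eq_bot_or_eq_top_of_normal N hN with rfl | rfl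
        · have hT : (T : Subgroup G) = ⊤ := isComplement'_bot_left.1 hc
          exact not_isPGroup_of_simple (not_comm hG) ((hT ▸ T.2).of_equiv Subgroup.topEquiv)
        · have hT : (T : Subgroup G) = ⊥ := isComplement'_top_left.1 hc
          have h2 : 2 ∣ Nat.card G := hw ▸ orderOf_dvd_natCard w
          have := T.dvd_card_of_dvd_card h2
          rw [hT, card_bot] at this; omega)
      (fun E hE hEe => by
        rcases IsSimpleGroup.eq_bot_or_eq_top_of_normal E hE with rfl | rfl
        · simp
        · refine absurd ?_ (not_comm hG)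
          exact ⟨⟨fun a b => congrArg Subtype.val
            (hEe.1.is_comm.comm (⟨a, mem_top a⟩ : (⊤ : Subgroup G)) ⟨b, mem_top b⟩)⟩⟩)
    rw [Nat.card_congr e.toEquiv, nat_card_alternatingGroup, Nat.card_fin]
    rfl
  · exfalso
    push Not at hCe
    obtain ⟨c, hc, hc2⟩ := hCe
    set C := centralizer ({w} : Set G)
    have ho : orderOf (⟨c, hc⟩ : C) = 2 ^ (1 + 1) := by
      refine orderOf_eq_prime_pow (fun e => hc2 ?_) ?_
      · rw [pow_one] at e; exact congrArg Subtype.val e
      · rw [show (2 : ℕ) ^ (1 + 1) = Nat.card C by rw [hC]; norm_num]; exact pow_card_eq_one'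
    haveI : IsCyclic C := isCyclic_of_orderOf_eq_card _ (by rw [ho, hC]; norm_num)
    obtain ⟨S⟩ : Nonempty (Sylow 2 C) := inferInstance
    obtain ⟨H, hH⟩ := exists_index_two_of_centralizer_cyclic hw S inferInstance
    exact index_ne_two hG H hH

/-- An element of order four generating its centralizer lies in a dihedral Sylow subgroup of order
eight, as a rotation. -/
theorem exists_frame_of_four [IsSimpleGroup G] (hG : ¬ IsCyclic G) {w : G} (hw : orderOf w = 4)
    (hC : Nat.card (centralizer ({w} : Set G)) = 4) :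
    ∃ (P : Sylow 2 G) (τ : G), Block.Dihedral.Frame P w τ 2 := by
  classical
  haveI : Fact (Nat.Prime 2) := ⟨Nat.prime_two⟩
  have hCw : centralizer ({w} : Set G) = zpowers w :=
    (eq_of_le_of_card_ge (zpowers_le.2 (mem_centralizer_singleton_iff.2 rfl))
      (by rw [hC, Nat.card_zpowers, hw])).symm
  obtain ⟨S, hS⟩ := (IsPGroup.of_card (n := 2)
    (by rw [Nat.card_zpowers, hw]; norm_num) : IsPGroup 2 (zpowers w)).exists_le_sylow
  set w' : (S : Subgroup G) := ⟨w, hS (mem_zpowers w)⟩
  have hw' : orderOf w' = 4 := by rw [← Subgroup.orderOf_coe]; exact hw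
  have hCw' : centralizer ({w'} : Set (S : Subgroup G)) = zpowers w' := by
    refine le_antisymm (fun x hx => ?_) (zpowers_le.2 (mem_centralizer_singleton_iff.2 rfl))
    have h1 : (x : G) ∈ zpowers w := hCw ▸ mem_centralizer_singleton_iff.2
      (congrArg Subtype.val (mem_centralizer_singleton_iff.1 hx))
    obtain ⟨i, hi⟩ := mem_zpowers_iff.1 h1
    exact mem_zpowers_iff.2 ⟨i, Subtype.ext (by rw [SubgroupClass.coe_zpow]; exact hi)⟩
  have hcard : Nat.card (centralizer ({w'} : Set (S : Subgroup G))) = 4 := by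
    rw [hCw', Nat.card_zpowers, hw']
  by_cases hab : IsMulCommutative (S : Subgroup G)
  · exfalso
    have htop : zpowers w' = ⊤ := by
      rw [← hCw']; exact top_le_iff.1 fun y _ => mem_centralizer_singleton_iff.2 (mul_comm' y w')
    haveI : IsCyclic (S : Subgroup G) := ⟨⟨w', fun x => show x ∈ zpowers w' from htop ▸ mem_top x⟩⟩
    obtain ⟨H, hH⟩ := exists_index_two_of_cyclic
      (even_iff_two_dvd.2 ((show 2 ∣ orderOf w by rw [hw]; norm_num).trans (orderOf_dvd_natCard w))) S
      inferInstance
    exact index_ne_two hG H hH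
  obtain ⟨k, r, e, a, b, hstd, F⟩ :=
    exists_std_frame S.2 hab (card_le_four_mul_commutator w' hcard)
  rcases hstd with ⟨hk, ⟨rfl, rfl | rfl⟩ | ⟨hk3, rfl, rfl⟩⟩
  · -- dihedral
    obtain ⟨φ⟩ := F.dihedralEquiv
    haveI : NeZero (2 ^ k) := ⟨pow_ne_zero _ two_ne_zero⟩
    have hk2 : k = 2 := by
      have hor : orderOf (φ w') = 4 := by rw [MulEquiv.orderOf_eq, hw']
      obtain ⟨i, hi⟩ : ∃ i, φ w' = DihedralGroup.r i := by
        cases h : φ w' with
        | r i => exact ⟨i, rfl⟩
        | sr i => rw [h, DihedralGroup.orderOf_sr] at hor; omega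
      have hle : zpowers (φ.symm (DihedralGroup.r (1 : ZMod (2 ^ k)))) ≤
          centralizer ({w'} : Set (S : Subgroup G)) := by
        refine zpowers_le.2 (mem_centralizer_singleton_iff.2 (φ.injective ?_))
        rw [map_mul, map_mul, φ.apply_symm_apply, hi, DihedralGroup.r_mul_r, DihedralGroup.r_mul_r,
          add_comm]
      have h1 := Nat.le_of_dvd Nat.card_pos (card_dvd_of_le hle)
      rw [Nat.card_zpowers, MulEquiv.orderOf_eq, DihedralGroup.orderOf_r_one, hcard] at h1
      by_contra hne
      have : 2 ^ 3 ≤ 2 ^ k := Nat.pow_le_pow_right two_pos (by omega)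
      omega
    subst hk2
    obtain ⟨τ, D⟩ := Cfsg.Agent.S4481.Aux.exists_frame (P := S) (h := 2) ⟨1, one_pos, rfl⟩ φ
      (hS (mem_zpowers w)) hw
    exact ⟨S, τ, D⟩
  · -- generalized quaternion
    exfalso
    have hpow : 2 ^ k = 2 * 2 ^ (k - 1) := by rw [← pow_succ', Nat.sub_add_cancel (by omega : 1 ≤ k)]
    rw [hpow] at F
    rw [show (2 : ℤ) ^ (k - 1) = ((2 ^ (k - 1) : ℕ) : ℤ) by push_cast; rfl] at F
    obtain ⟨φ⟩ := F.quaternionEquiv
    have hc := card_center_eq_two S (Nat.le_self_pow (by omega) 2)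
      ((Nat.even_pow' (by omega)).2 even_two) φ (fun K hK hodd => by
        rcases IsSimpleGroup.eq_bot_or_eq_top_of_normal K hK with h | h
        · exact h
        · rw [h, card_top] at hodd
          have := (show 2 ∣ orderOf w by rw [hw]; norm_num).trans (orderOf_dvd_natCard w)
          exact absurd hodd (Nat.not_odd_iff_even.2 (even_iff_two_dvd.2 this)))
    rw [center_eq_bot hG, card_bot] at hc
    omega
  · -- quasidihedral
    exfalso
    obtain ⟨n, a', b', hn, -, Q⟩ := exists_qdFrame (isQuasiDihedral_of_frame hk3 F)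
    set h : ℤ := 2 ^ (n - 2)
    have h4 : FusedFour a' b' h := by
      by_contra h4
      obtain ⟨H, hH, -⟩ := Q.exists_index_two_four h4
      exact index_ne_two hG H hH
    have hall : IsConj w (rotG a' h) := by
      rcases Q.four_conj_cases hw with e | e
      · exact e
      · exact e.trans (Q.fusedFour_iff.1 h4)
    have hle : zpowers (rotG a' 1) ≤ centralizer ({rotG a' h} : Set G) :=
      zpowers_le.2 (mem_centralizer_singleton_iff.2 (by rw [← rotG_add, ← rotG_add, add_comm]))
    have h1 := Nat.le_of_dvd Nat.card_pos (card_dvd_of_le hle)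
    rw [card_centralizer_conj hall, hC, Nat.card_zpowers] at h1
    have h2 : (4 * h : ℤ) ∣ (orderOf (rotG a' 1) : ℤ) := by
      have e : rotG a' (orderOf (rotG a' 1) : ℤ) = rotG a' 0 := by
        rw [rotG_zero]
        have := pow_orderOf_eq_one (rotG a' 1)
        simp only [rotG, zpow_one] at this ⊢
        rw [zpow_natCast, SubmonoidClass.coe_pow]
        exact this
      have := Q.rotG_eq_iff.1 e.symm
      rwa [sub_zero] at this
    have h3 := Int.le_of_dvd (by exact_mod_cast orderOf_pos _) h2
    have h5 := Q.two_le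
    omega

/-- The reduction. -/
theorem cases [IsSimpleGroup G] (hG : ¬ IsCyclic G) (w : G)
    (hw : Nat.card (centralizer ({w} : Set G)) ≤ 4) :
    Nat.card G = 60 ∨ Nat.card G = 168 ∨
      ∃ (P : Sylow 2 G) (σ τ : G), Block.Dihedral.Frame P σ τ 2 ∧
        Nat.card (centralizer ({σ} : Set G)) = 4 := by
  classical
  haveI : Fact (Nat.Prime 2) := ⟨Nat.prime_two⟩
  set C := centralizer ({w} : Set G) with hCdef
  have hwC : w ∈ C := mem_centralizer_singleton_iff.2 rfl
  have hw1 : w ≠ 1 := by
    intro e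
    have htop : C = ⊤ := top_le_iff.1 fun x _ => mem_centralizer_singleton_iff.2 (by rw [e, mul_one, one_mul])
    rw [htop, card_top] at hw
    have h100 : Nat.card G ≤ 100 := by omega
    have := card_eq_sixty_of_le_hundred (not_comm hG) h100
    omega
  have hdvd : orderOf w ∣ Nat.card C := by
    rw [show orderOf w = orderOf (⟨w, hwC⟩ : C) from (Subgroup.orderOf_coe (⟨w, hwC⟩ : C))]
    exact orderOf_dvd_natCard _
  have ho1 : orderOf w ≠ 1 := fun e => hw1 (orderOf_eq_one_iff.1 e)
  have hpos := orderOf_pos w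
  have hole := Nat.le_of_dvd Nat.card_pos hdvd
  obtain hc | hc | hc | hc : Nat.card C = 1 ∨ Nat.card C = 2 ∨ Nat.card C = 3 ∨ Nat.card C = 4 := by
    have := Nat.card_pos (α := C); omega
  · omega
  · exfalso
    have ho : orderOf w = 2 := by omega
    obtain ⟨S⟩ : Nonempty (Sylow 2 C) := inferInstance
    haveI : IsCyclic C := isCyclic_of_prime_card hc
    obtain ⟨H, hH⟩ := exists_index_two_of_centralizer_cyclic ho S inferInstance
    exact index_ne_two hG H hH
  · have ho : orderOf w = 3 := by
      rw [hc] at hdvd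
      exact ((Nat.dvd_prime Nat.prime_three).1 hdvd).resolve_left ho1
    letI := Fintype.ofFinite G
    rcases SelfCentThree.Cent3.card_simple (cent3_of_card ho hc) (not_comm hG) ho with h | h
    · exact Or.inl h
    · exact Or.inr (Or.inl h)
  · rw [hc] at hdvd
    have hcases : orderOf w = 2 ∨ orderOf w = 4 := by
      obtain ⟨i, hi, he⟩ := (Nat.dvd_prime_pow Nat.prime_two).1 (show orderOf w ∣ 2 ^ 2 from hdvd)
      interval_cases i <;> omega
    rcases hcases with ho | ho
    · exact Or.inl (card_eq_sixty_of_invol hG ho hc)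
    · obtain ⟨P, τ, D⟩ := exists_frame_of_four hG ho hc
      exact Or.inr (Or.inr ⟨P, w, τ, D, hc⟩)

end CfsgLib.Char.SmallCent
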