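import Cfsg.Agent.Lib.Char.SmallCent.Local
import Cfsg.Agent.Lib.Char.PrimeDegrees
import Cfsg.Agent.Lib.Block.Local
import Cfsg.Agent.S4482

/-!
# The order formulas for a dihedral Sylow 2-subgroup of order eight

`order_formula`: from the principal block; `four_formula`: the four pairs of involutions with product
a fixed element of order four; `formula_of_no_pairs`: the order of a group in which no such pair has
its 2-part of order four.
-/

set_option autoImplicit false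
set_option linter.unusedSectionVars false
set_option linter.style.haveILetI false

namespace CfsgLib.Char.SmallCent

open Subgroup CfsgLib.Block CfsgLib.Block.Dihedral Cfsg
open scoped ComplexConjugate

universe u

variable {G : Type u} [Group G] [Finite G] {P : Sylow 2 G} {σ τ : G}

theorem exists_zeta : ∃ ζ : ℂ, IsPrimitiveRoot ζ (2 * 2) :=
  ⟨_, Complex.isPrimitiveRoot_exp _ (by norm_num)⟩

/-- If no pair of conjugates of the central involution has a product with 2-part `σ`, the order of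
the group is determined by the pairs with 2-part `σ²`. -/
theorem formula_of_no_pairs (D : Frame P σ τ 2) {M : Ideal AlgInt} (hM : IsPModular 2 M)
    (h0 : Nat.card (pairsAt (σ ^ 2) σ) = 0) :
    ∃ (x : ℕ) (δ : ℤ), (δ = 1 ∨ δ = -1) ∧ 0 < x ∧ (x : ℤ) + δ ≠ 0 ∧
      (Nat.card G : ℤ) * ((x : ℤ) - δ) ^ 2 =
        4 * (Nat.card (centralizer ({σ ^ 2} : Set G)) : ℤ) * (Nat.card (pairsAt (σ ^ 2) (σ ^ 2)) : ℤ) *
          x * ((x : ℤ) + δ) := by
  obtain ⟨ζ, hζ⟩ := exists_zeta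
  obtain ⟨χ₁, χ₂, χ₃, χ', δ₁, δ₂, δ₃, T⟩ := D.exists_table hM hζ
  have hσ1 : σ ^ 1 ≠ 1 := fun e => by
    have := Nat.le_of_dvd one_pos (D.pow_eq_one.1 e); omega
  have f1 := D.pairs_formula hM (l := 2) D.sigma_h_ne
  have f2 := D.pairs_formula hM hσ1
  have hS := Cfsg.Agent.S4482.Aux.block_sum D hζ T
  have hreg := regCard_mul (σ ^ 2) D.hasNormalPComplement_J
  rw [D.factorization_centralizer D.sigma_h_ne, if_pos dvd_rfl] at hreg
  have hKσ := D.regCard_pos hσ1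
  rw [pow_one] at hKσ f2 hS
  have hI := Subgroup.index_mul_card (centralizer ({σ ^ 2} : Set G))
  rw [← CfsgLib.Char.card_isConj] at hI
  set I := Nat.card {x : G // IsConj (σ ^ 2) x}
  set c := Nat.card (centralizer ({σ ^ 2} : Set G))
  set KJ := regCard (σ ^ 2)
  set Kσ := regCard σ
  set PJ := Nat.card (pairsAt (σ ^ 2) (σ ^ 2))
  obtain ⟨hd, hd0⟩ := CfsgLib.Block.charDegree_eq χ₁
  rw [hd] at hS
  set d := charDegree (χ₁ : G → ℂ)
  have hG0 : (Nat.card G : ℂ) ≠ 0 := Nat.cast_ne_zero.2 Nat.card_pos.ne'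
  have hI' : (I : ℂ) * c = Nat.card G := by exact_mod_cast hI
  have hI0 : (I : ℂ) ≠ 0 := fun e => hG0 (by rw [← hI', e, zero_mul])
  have hreg' : (KJ : ℂ) * 8 = c := by exact_mod_cast hreg
  have hx0 : (d : ℂ) ≠ 0 := Nat.cast_ne_zero.2 hd0
  have hxd : (d : ℂ) + (δ₁ : ℂ) ≠ 0 := by
    intro e
    have := T.rel₂ 1 (by simp) ⟨0, by norm_num⟩
    rw [hd] at this
    refine CfsgLib.Char.irr_one_ne_zero (χ' ⟨0, by norm_num⟩) ?_
    have hδ : (δ₁ : ℂ) * δ₁ = 1 := by rcases T.sign₁ with s | s <;> simp [s]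
    linear_combination (-(δ₁ : ℂ)) * this + (d - ((χ' ⟨0, by norm_num⟩ : G → ℂ) 1)) * hδ + e
  rw [h0, Nat.cast_zero, mul_zero] at f2
  have hSσ := (mul_eq_zero.1 f2.symm).resolve_left
    (mul_ne_zero (pow_ne_zero 2 hI0) (Nat.cast_ne_zero.2 hKσ.ne'))
  rw [hSσ, add_zero] at hS
  refine ⟨d, δ₁, T.sign₁, Nat.pos_of_ne_zero hd0, fun e => hxd ?_, ?_⟩
  · exact_mod_cast congrArg (fun z : ℤ => (z : ℂ)) e
  rw [hS, ← hI'] at f1
  apply Int.cast_injective (α := ℂ)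
  push_cast
  rw [← hI']
  apply mul_left_cancel₀ hI0
  have hδ : (δ₁ : ℂ) * δ₁ = 1 := by rcases T.sign₁ with s | s <;> simp [s]
  have hS' : (d : ℂ) * ((d : ℂ) + δ₁) * (2 + 2 * (δ₁ : ℂ) / d - 8 * (δ₁ : ℂ) / ((d : ℂ) + δ₁)) =
      2 * ((d : ℂ) - δ₁) ^ 2 := by
    linear_combination 2 * (δ₁ : ℂ) * ((d : ℂ) + δ₁) * mul_inv_cancel₀ hx0 -
      8 * (δ₁ : ℂ) * (d : ℂ) * mul_inv_cancel₀ hxd
  linear_combination (-4 * (d : ℂ) * ((d : ℂ) + δ₁)) * f1 +
    (-(1 / 2 : ℂ) * (I : ℂ) ^ 2 * (c : ℂ)) * hS' +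
    (-(1 / 2 : ℂ) * (I : ℂ) ^ 2 * ((d : ℂ) * ((d : ℂ) + δ₁) *
      (2 + 2 * (δ₁ : ℂ) / d - 8 * (δ₁ : ℂ) / ((d : ℂ) + δ₁)))) * hreg'

namespace Setting

variable (T : Setting P σ τ)
include T

theorem orderOf_τ : orderOf τ = 2 :=
  orderOf_eq_prime (by rw [pow_two]; exact T.frame.sqτ)
    fun e => T.frame.refl_not_rot 0 0 (by simpa using e)

theorem closure_pair : closure ({σ, τ} : Set G) = (P : Subgroup G) := by
  refine le_antisymm ((closure_le _).2 ?_) fun x hx => ?_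
  · rintro x (rfl | rfl)
    exacts [T.frame.memσ, T.frame.memτ]
  · have hσ : σ ∈ closure ({σ, τ} : Set G) := subset_closure (Set.mem_insert _ _)
    obtain ⟨l, rfl | rfl⟩ := T.frame.cases x hx
    · exact pow_mem hσ l
    · exact mul_mem (subset_closure (Set.mem_insert_of_mem _ rfl)) (pow_mem hσ l)

/-- The two formulas. -/
theorem formulas [IsSimpleGroup G] (hG : commutator G = ⊤) :
    ∃ (x : ℕ) (δ A B : ℤ), (δ = 1 ∨ δ = -1) ∧ 1 < x ∧ A ≠ 0 ∧ B ≠ 0 ∧ 1 + δ * x + A + B = 0 ∧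
      (Nat.card G : ℤ) * ((x : ℤ) - δ) ^ 2 = 64 * x * ((x : ℤ) + δ) *
        Nat.card (Wf σ τ) * Nat.card (Wf σ (τ * σ)) *
          ((Nat.card (Wf σ τ) : ℤ) + Nat.card (Wf σ (τ * σ))) ^ 2 ∧
      (Nat.card G : ℤ) * (δ * x * A * B + A * B + δ * x * B + δ * x * A) =
        256 * ((Nat.card (Wf σ τ) : ℤ) * Nat.card (Wf σ (τ * σ))) ^ 2 * (δ * x * A * B) := by
  classical
  have D := T.frame
  obtain ⟨M, hM⟩ := exists_pModular (p := 2) Nat.prime_two
  obtain ⟨ζ, hζ⟩ := exists_zeta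
  obtain ⟨χ₁, χ₂, χ₃, χ', δ₁, δ₂, δ₃, Tb⟩ := D.exists_table hM hζ
  have hne1 : (χ₁ : G → ℂ) ≠ fun _ => 1 := fun e => Tb.ne₁ (Subtype.ext e)
  have hσo : orderOf (σ * τ) = 2 := by
    have h1 := D.refl_sq 3
    have e : σ * τ = τ * σ ^ 3 := by
      have h2 : σ * τ = τ * σ⁻¹ := by
        rw [← D.rel, D.τ_inv, ← mul_assoc, ← mul_assoc, D.sqτ, one_mul]
      rw [h2, inv_eq_of_mul_eq_one_right (b := σ ^ 3)]
      rw [← pow_succ', D.pow_eq_one.2 (dvd_refl 4)]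
    rw [e]
    exact orderOf_eq_prime (by rw [pow_two]; exact h1) fun h => D.refl_not_rot 3 0 (by simpa using h)
  obtain ⟨hxne, hord⟩ := Cfsg.Agent.S4482.result M hM 3 le_rfl P σ τ D.memσ D.memτ
    (by rw [D.orderσ]; norm_num) T.orderOf_τ D.rel T.closure_pair
    ⟨T.conj _ _ (by simpa using T.orderOf_z) T.orderOf_τ, T.conj _ _ (by simpa using T.orderOf_z) hσo⟩
    χ₁ (by rw [Tb.block]; exact Or.inr (Or.inl rfl)) hne1 δ₁ Tb.sign₁
    (fun l h1 h2 => (Tb.val l h1 (by simpa using h2)).1)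
  obtain ⟨hd, hd0⟩ := CfsgLib.Block.charDegree_eq χ₁
  obtain ⟨hd2, hd20⟩ := CfsgLib.Block.charDegree_eq χ₂
  obtain ⟨hd3, hd30⟩ := CfsgLib.Block.charDegree_eq χ₃
  set d := charDegree (χ₁ : G → ℂ) with hddef
  set d2 := charDegree (χ₂ : G → ℂ)
  set d3 := charDegree (χ₃ : G → ℂ)
  set m := Nat.card (Wf σ τ) with hm
  set n := Nat.card (Wf σ (τ * σ)) with hn
  have hm0 : 0 < m := Nat.card_pos
  have hn0 : 0 < n := Nat.card_pos
  have hc : Nat.card (centralizer ({σ ^ 2} : Set G)) = 8 * (m * n) := by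
    rw [T.card_centralizer_z, T.card_W]
  refine ⟨d, δ₁, δ₂ * d2, δ₃ * d3, Tb.sign₁, ?_, ?_, ?_, ?_, ?_, ?_⟩
  · by_contra hlt
    have h1 : d = 1 := by omega
    exact hne1 (CfsgLib.Char.PrimeDegrees.linear_eq_one hG h1)
  · rcases Tb.sign₂ with s | s <;> rw [s] <;> simpa using hd20
  · rcases Tb.sign₃ with s | s <;> rw [s] <;> simpa using hd30
  · have h := Tb.rel₁ 1 (by simp)
    rw [hd, hd2, hd3] at h
    have h' : (((1 : ℤ) + δ₁ * d + δ₂ * d2 + δ₃ * d3 : ℤ) : ℂ) = ((0 : ℤ) : ℂ) := by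
      push_cast; linear_combination h
    exact_mod_cast h'
  · have e1 := T.card_centralizer_pair
    have e2 := T.card_centralizer_pair'
    simp only [show (2 : ℕ) ^ (3 - 2) = 2 from rfl] at hord
    rw [hc, e1, e2, ← hm, ← hn] at hord
    have h' : (((Nat.card G : ℤ) * ((d : ℤ) - δ₁) ^ 2 : ℤ) : ℚ) =
        ((64 * d * ((d : ℤ) + δ₁) * m * n * ((m : ℤ) + n) ^ 2 : ℤ) : ℚ) := by
      push_cast at hord ⊢
      rw [hord]
      field_simp
      ring
    exact_mod_cast h'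
  -- the four pairs
  · letI := Fintype.ofFinite G
    letI := Fintype.ofFinite (IrrCharacter G)
    have hval := Tb.val 1 one_pos (by norm_num)
    have hvalz := Tb.val 2 two_pos (by norm_num)
    set B := ({oneChar G, χ₁, χ₂, χ₃} : Finset (IrrCharacter G)) with hB
    have hsplit : ∀ f : IrrCharacter G → ℂ,
        ∑ χ ∈ B, f χ = f (oneChar G) + (f χ₁ + (f χ₂ + f χ₃)) := fun f => by
      rw [hB, Finset.sum_insert (by simp [Tb.ne₁.symm, Tb.ne₂.symm, Tb.ne₃.symm]),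
        Finset.sum_insert (by simp [Tb.ne₁₂, Tb.ne₁₃]), Finset.sum_pair Tb.ne₂₃]
    have hsq1 : (δ₁ : ℂ) * δ₁ = 1 := by rcases Tb.sign₁ with s | s <;> simp [s]
    have hsq2 : (δ₂ : ℂ) * δ₂ = 1 := by rcases Tb.sign₂ with s | s <;> simp [s]
    have hsq3 : (δ₃ : ℂ) * δ₃ = 1 := by rcases Tb.sign₃ with s | s <;> simp [s]
    obtain ⟨a1, b1, c1, -⟩ := hval
    obtain ⟨a2, b2, c2, -⟩ := hvalz
    norm_num at a1 b1 c1 a2 b2 c2
    -- the other characters vanish at `σ`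
    have hzero : ∀ χ ∉ B, (χ : G → ℂ) σ = 0 := by
      have hcol := sum_irr_mul_conj (G := G) σ σ
      rw [if_pos (IsConj.refl σ), T.cardσ] at hcol
      have hre : ∑ χ : IrrCharacter G, Complex.normSq ((χ : G → ℂ) σ) = 4 := by
        have h := congrArg Complex.re hcol
        rw [Complex.re_sum] at h
        simpa [Complex.mul_conj] using h
      have hB4 : ∑ χ ∈ B, Complex.normSq ((χ : G → ℂ) σ) = 4 := by
        apply Complex.ofReal_injective
        push_cast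
        simp only [Complex.normSq_eq_conj_mul_self]
        rw [hsplit]
        simp only [oneChar, a1, b1, c1, map_one, map_intCast, mul_one, hsq1, hsq2, hsq3]
        norm_num
      intro χ hχ
      rw [← Finset.sum_sdiff (Finset.subset_univ B), hB4, add_eq_right] at hre
      exact Complex.normSq_eq_zero.1 ((Finset.sum_eq_zero_iff_of_nonneg
        fun i _ => Complex.normSq_nonneg _).1 hre χ (Finset.mem_sdiff.2 ⟨Finset.mem_univ _, hχ⟩))
    -- the count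
    have hcount : Char.classConst (σ ^ 2) (σ ^ 2) σ = 4 := by
      have hinv : ∀ {a : G}, IsConj (σ ^ 2) a ↔ a * a = 1 ∧ a ≠ 1 := fun {a} =>
        D.isConj_J (T.conj _ _ T.orderOf_z T.orderOf_τ) (T.conj _ _ T.orderOf_z (by
          refine orderOf_eq_prime ?_ fun h => D.refl_not_rot 1 0 (by simpa using h)
          rw [pow_two]; simpa using D.refl_sq 1))
      have hpair : ∀ i : Fin 4, IsConj (σ ^ 2) (τ * σ ^ (i : ℕ)) ∧
          IsConj (σ ^ 2) (τ * σ ^ ((i : ℕ) + 1)) ∧ τ * σ ^ (i : ℕ) * (τ * σ ^ ((i : ℕ) + 1)) = σ :=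
        fun i => ⟨hinv.2 ⟨D.refl_sq _, fun h => D.refl_not_rot _ 0 (by simpa using h)⟩,
          hinv.2 ⟨D.refl_sq _, fun h => D.refl_not_rot _ 0 (by simpa using h)⟩, by
          rw [pow_succ, ← mul_assoc τ, ← mul_assoc (τ * σ ^ (i : ℕ)), D.refl_sq, one_mul]⟩
      rw [Char.classConst, ← Nat.card_fin 4]
      refine (Nat.card_eq_of_bijective (fun i => ⟨(τ * σ ^ (i : ℕ), τ * σ ^ ((i : ℕ) + 1)), hpair i⟩)
        ⟨fun i j e => ?_, fun p => ?_⟩).symm
      · have e' : σ ^ (i : ℕ) = σ ^ (j : ℕ) := mul_left_cancel (congrArg (fun q => q.1.1) e)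
        exact Fin.ext (pow_injOn_Iio_orderOf (by rw [Set.mem_Iio, D.orderσ]; exact i.2)
          (by rw [Set.mem_Iio, D.orderσ]; exact j.2) e')
      · obtain ⟨⟨a, b⟩, ha, hb, hab⟩ := p
        obtain ⟨ha2, -⟩ := hinv.1 ha
        obtain ⟨hb2, -⟩ := hinv.1 hb
        have hai : a⁻¹ = a := inv_eq_of_mul_eq_one_right ha2
        have hbi : b⁻¹ = b := inv_eq_of_mul_eq_one_right hb2
        have hb' : b = a * σ := by rw [← hab, ← mul_assoc, ha2, one_mul]
        have hinvσ : a * σ * a⁻¹ = σ⁻¹ := by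
          rw [← hab, mul_inv_rev, hai, hbi, ← mul_assoc, ha2, one_mul]
        have hcomm : τ * a ∈ centralizer ({σ} : Set G) := by
          refine mem_centralizer_singleton_iff.2 (mul_inv_eq_iff_eq_mul.1 ?_)
          rw [show τ * a * σ * (τ * a)⁻¹ = τ * (a * σ * a⁻¹) * τ⁻¹ by group, hinvσ,
            show τ * σ⁻¹ * τ⁻¹ = (τ * σ * τ⁻¹)⁻¹ by group, D.rel, inv_inv]
        rw [T.centralizer_σ, ← mem_powers_iff_mem_zpowers] at hcomm
        obtain ⟨i, hi⟩ := hcomm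
        have hτa : τ * σ ^ (i % 4) = a := by
          rw [show (4 : ℕ) = orderOf σ by rw [D.orderσ], pow_mod_orderOf,
            show σ ^ i = τ * a from hi, ← mul_assoc, D.sqτ, one_mul]
        refine ⟨⟨i % 4, Nat.mod_lt _ (by norm_num)⟩, Subtype.ext (Prod.ext hτa ?_)⟩
        show τ * σ ^ (i % 4 + 1) = b
        rw [pow_succ, ← mul_assoc, hτa, hb']
    have hf := Char.classConst_formula (σ ^ 2) (σ ^ 2) σ
    rw [hcount] at hf
    rw [finsum_eq_sum_of_fintype] at hf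
    rw [← Finset.sum_subset (Finset.subset_univ B) (fun χ _ hχ => by
      rw [hzero χ hχ, map_zero, mul_zero, zero_div]), hsplit] at hf
    simp only [oneChar, a1, b1, c1, a2, b2, c2, map_one, map_intCast, mul_one, hd, hd2, hd3] at hf
    have hI := Subgroup.index_mul_card (centralizer ({σ ^ 2} : Set G))
    rw [← CfsgLib.Char.card_isConj, hc] at hI
    have hI' : (Nat.card {x : G // IsConj (σ ^ 2) x} : ℂ) * (8 * ((m : ℂ) * n)) = Nat.card G := by
      exact_mod_cast hI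
    set I := (Nat.card {x : G // IsConj (σ ^ 2) x} : ℂ)
    have hG0 : (Nat.card G : ℂ) ≠ 0 := Nat.cast_ne_zero.2 Nat.card_pos.ne'
    have hx0 : (d : ℂ) ≠ 0 := Nat.cast_ne_zero.2 hd0
    have hx2 : (d2 : ℂ) ≠ 0 := Nat.cast_ne_zero.2 hd20
    have hx3 : (d3 : ℂ) ≠ 0 := Nat.cast_ne_zero.2 hd30
    apply Int.cast_injective (α := ℂ)
    push_cast
    have h4 : (256 : ℂ) * ((m : ℂ) * n) ^ 2 =
        Nat.card G * (1 + ((δ₁ : ℂ) / d + ((δ₂ : ℂ) / d2 + (δ₃ : ℂ) / d3))) := by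
      have hmC : (m : ℂ) ≠ 0 := Nat.cast_ne_zero.2 hm0.ne'
      have hnC : (n : ℂ) ≠ 0 := Nat.cast_ne_zero.2 hn0.ne'
      have p1 : (δ₁ : ℂ) ^ 3 = δ₁ := by linear_combination (δ₁ : ℂ) * hsq1
      have p2 : (δ₂ : ℂ) ^ 3 = δ₂ := by linear_combination (δ₂ : ℂ) * hsq2
      have p3 : (δ₃ : ℂ) ^ 3 = δ₃ := by linear_combination (δ₃ : ℂ) * hsq3
      apply mul_left_cancel₀ hG0
      rw [← hI']
      rw [← hI'] at hf
      field_simp at hf ⊢
      simp only [p1, p2, p3] at hf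
      push_cast at hf
      linear_combination (8 * I) * hf
    have e1 : (δ₁ : ℂ) / d * (δ₁ * d) = 1 := by field_simp; linear_combination hsq1
    have e2 : (δ₂ : ℂ) / d2 * (δ₂ * d2) = 1 := by field_simp; linear_combination hsq2
    have e3 : (δ₃ : ℂ) / d3 * (δ₃ * d3) = 1 := by field_simp; linear_combination hsq3
    rw [h4]
    linear_combination (-(Nat.card G : ℂ) * ((δ₂ : ℂ) * d2) * (δ₃ * d3)) * e1 -
      (Nat.card G : ℂ) * ((δ₁ : ℂ) * d) * (δ₃ * d3) * e2 -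
      (Nat.card G : ℂ) * ((δ₁ : ℂ) * d) * (δ₂ * d2) * e3

end Setting

end CfsgLib.Char.SmallCent
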