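import Cfsg.Agent.Lib.Block.DihedralPairs
import Mathlib.GroupTheory.FixedPointFree

/-!
# The centralizer of the central involution when a rotation of order four generates its centralizer

`C(σ²) = W P` with `W` abelian of odd order, inverted by `σ`; `W` is the product of the fixed points
`Wf τ` and `Wf (τ σ)` of the two kinds of reflections.
-/

set_option autoImplicit false
set_option linter.unusedSectionVars false
set_option linter.style.haveILetI false

namespace CfsgLib.Char.SmallCent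

open Subgroup CfsgLib.Block.Dihedral

universe u

variable {G : Type u} [Group G]

/-- The elements of odd order commuting with `σ²` generate the normal complement. -/
def W (σ : G) : Subgroup G :=
  Subgroup.closure {x : G | Commute x (σ ^ 2) ∧ ¬ 2 ∣ orderOf x}

/-- The fixed points of `t` in `W σ`. -/
def Wf (σ t : G) : Subgroup G := W σ ⊓ Subgroup.centralizer ({t} : Set G)

/-- A dihedral Sylow subgroup of order eight, a rotation of order four generating its centralizer,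
one class of involutions. -/
structure Setting [Finite G] (P : Sylow 2 G) (σ τ : G) : Prop where
  frame : Frame P σ τ 2
  cardσ : Nat.card (Subgroup.centralizer ({σ} : Set G)) = 4
  conj : ∀ a b : G, orderOf a = 2 → orderOf b = 2 → IsConj a b

namespace Setting

variable [Finite G] {P : Sylow 2 G} {σ τ : G} (T : Setting P σ τ)
include T

theorem mem_W {x : G} : x ∈ W σ ↔ Commute x (σ ^ 2) ∧ ¬ 2 ∣ orderOf x := by
  refine ⟨fun hx => ?_, fun hx => subset_closure hx⟩
  obtain ⟨π, -, -, hπ⟩ := T.frame.exists_retraction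
  have hle : W σ ≤ π.ker.map (centralizer ({σ ^ 2} : Set G)).subtype := by
    refine (closure_le _).2 fun y hy => ⟨⟨y, mem_centralizer_singleton_iff.2 hy.1⟩, ?_, rfl⟩
    exact MonoidHom.mem_ker.2 ((hπ _).2 (by rw [← Subgroup.orderOf_coe]; exact hy.2))
  obtain ⟨y, hy, rfl⟩ := hle hx
  exact ⟨mem_centralizer_singleton_iff.1 y.2, by
    have := (hπ y).1 (MonoidHom.mem_ker.1 hy); rwa [← Subgroup.orderOf_coe] at this⟩

theorem commute_z {x : G} (hx : x ∈ W σ) : Commute x (σ ^ 2) := (T.mem_W.1 hx).1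

theorem z_sq : σ ^ 2 * σ ^ 2 = 1 := T.frame.sigma_h_sq

theorem z_inv : (σ ^ 2)⁻¹ = σ ^ 2 := inv_eq_of_mul_eq_one_right T.z_sq

theorem orderOf_z : orderOf (σ ^ 2) = 2 :=
  orderOf_eq_prime (by rw [pow_two]; exact T.z_sq) T.frame.sigma_h_ne

theorem conj_mem {p x : G} (hp : Commute p (σ ^ 2)) (hx : x ∈ W σ) : p * x * p⁻¹ ∈ W σ := by
  rw [T.mem_W] at hx ⊢
  refine ⟨(hp.mul_left hx.1).mul_left hp.inv_left, ?_⟩
  rw [show orderOf (p * x * p⁻¹) = orderOf x from (MulAut.conj p).orderOf_eq x]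
  exact hx.2

theorem commute_σ : Commute σ (σ ^ 2) := (Commute.refl σ).pow_right 2

theorem centralizer_σ : Subgroup.centralizer ({σ} : Set G) = zpowers σ :=
  (eq_of_le_of_card_ge (zpowers_le.2 (mem_centralizer_singleton_iff.2 rfl))
    (by rw [T.cardσ, Nat.card_zpowers, T.frame.orderσ])).symm

theorem conjσ_W {x : G} (hx : x ∈ W σ) : σ * x * σ⁻¹ = x⁻¹ ∧ ∀ y ∈ W σ, x * y = y * x := by
  classical
  let φ : W σ →* W σ :=
    { toFun := fun v => ⟨σ * (v : G) * σ⁻¹, T.conj_mem T.commute_σ v.2⟩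
      map_one' := Subtype.ext (by simp)
      map_mul' := fun a b => Subtype.ext (by simp [mul_assoc]) }
  have hfpf : MonoidHom.FixedPointFree φ := by
    intro v hv
    have hc : (v : G) ∈ Subgroup.centralizer ({σ} : Set G) := mem_centralizer_singleton_iff.2
      (mul_inv_eq_iff_eq_mul.1 (congrArg Subtype.val hv)).symm
    have hd : orderOf (v : G) ∣ 2 ^ 2 := by
      rw [show (2 : ℕ) ^ 2 = Nat.card (Subgroup.centralizer ({σ} : Set G)) by rw [T.cardσ]; norm_num,
        show orderOf (v : G) = orderOf (⟨v, hc⟩ : Subgroup.centralizer ({σ} : Set G)) from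
          Subgroup.orderOf_coe (⟨v, hc⟩ : Subgroup.centralizer ({σ} : Set G))]
      exact orderOf_dvd_natCard _
    have h2 := (T.mem_W.1 v.2).2
    obtain ⟨i, -, hi⟩ := (Nat.dvd_prime_pow Nat.prime_two).1 hd
    rcases i with _ | i
    · exact Subtype.ext (orderOf_eq_one_iff.1 (by simpa using hi))
    · exact absurd (hi ▸ dvd_pow_self 2 (Nat.succ_ne_zero i)) h2
  have hinv : Function.Involutive φ := fun v => Subtype.ext (by
    show σ * (σ * (v : G) * σ⁻¹) * σ⁻¹ = v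
    rw [show σ * (σ * (v : G) * σ⁻¹) * σ⁻¹ = σ ^ 2 * v * (σ ^ 2)⁻¹ by rw [pow_two]; group]
    exact mul_inv_eq_iff_eq_mul.2 (T.commute_z v.2).eq.symm)
  refine ⟨congrArg Subtype.val (congrFun (hfpf.coe_eq_inv_of_involutive hinv) ⟨x, hx⟩), fun y hy => ?_⟩
  exact congrArg Subtype.val (hfpf.commute_all_of_involutive hinv ⟨x, hx⟩ ⟨y, hy⟩).eq

theorem W_comm {x y : G} (hx : x ∈ W σ) (hy : y ∈ W σ) : x * y = y * x := (T.conjσ_W hx).2 y hy

theorem conjσ {x : G} (hx : x ∈ W σ) : σ * x * σ⁻¹ = x⁻¹ := (T.conjσ_W hx).1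

theorem mem_Wf {x : G} : x ∈ Wf σ τ ↔ x ∈ W σ ∧ τ * x * τ⁻¹ = x := by
  refine and_congr_right fun _ => mem_centralizer_singleton_iff.trans ?_
  rw [mul_inv_eq_iff_eq_mul]
  exact ⟨Eq.symm, Eq.symm⟩

theorem mem_Wf' {x : G} : x ∈ Wf σ (τ * σ) ↔ x ∈ W σ ∧ τ * x * τ⁻¹ = x⁻¹ := by
  refine and_congr_right fun hx => mem_centralizer_singleton_iff.trans ?_
  have e : (τ * σ) * x * (τ * σ)⁻¹ = (τ * x * τ⁻¹)⁻¹ := by
    rw [show (τ * σ) * x * (τ * σ)⁻¹ = τ * (σ * x * σ⁻¹) * τ⁻¹ by group, T.conjσ hx]; group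
  constructor
  · intro h
    have h' : (τ * σ) * x * (τ * σ)⁻¹ = x := mul_inv_eq_iff_eq_mul.2 h.symm
    rw [e] at h'
    exact inv_eq_iff_eq_inv.1 h'
  · intro h
    rw [h, inv_inv] at e
    exact (mul_inv_eq_iff_eq_mul.1 e).symm

theorem swap : Setting P σ (τ * σ) := by
  have D := T.frame
  refine ⟨⟨D.pow2, D.memσ, mul_mem D.memτ D.memσ, D.orderσ, ?_, ?_, ?_, D.card, fun x hx => ?_⟩,
    T.cardσ, T.conj⟩
  · simpa using D.refl_sq 1
  · rw [show (τ * σ) * σ * (τ * σ)⁻¹ = τ * σ * τ⁻¹ by group, D.rel]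
  · intro h
    exact D.not_zpow (by simpa using mul_mem h (inv_mem (mem_zpowers σ)))
  · obtain ⟨l, e | e⟩ := D.cases x hx
    · exact ⟨l, Or.inl e⟩
    · refine ⟨l + 3, Or.inr ?_⟩
      rw [e, mul_assoc τ σ, ← pow_succ', show l + 3 + 1 = l + 4 by rfl, pow_add,
        D.pow_eq_one.2 (dvd_refl 4), mul_one]

theorem Wf_swap : Wf σ (τ * σ * σ) = Wf σ τ := by
  ext x
  refine and_congr_right fun hx => ?_
  change x ∈ centralizer _ ↔ x ∈ centralizer _
  rw [mem_centralizer_singleton_iff, mem_centralizer_singleton_iff, mul_assoc τ σ σ, ← pow_two]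
  constructor
  · intro h
    have h1 : Commute x (τ * σ ^ 2 * σ ^ 2) := (show Commute x (τ * σ ^ 2) from h).mul_right (T.commute_z hx)
    rwa [mul_assoc, T.z_sq, mul_one] at h1
  · intro h
    exact ((show Commute x τ from h).mul_right (T.commute_z hx)).eq

theorem odd_mem {x : G} (hx : x ∈ W σ) : Odd (orderOf x) := by
  rw [← Nat.not_even_iff_odd, even_iff_two_dvd]; exact (T.mem_W.1 hx).2

/-- A square root inside a subgroup of elements of odd order. -/
theorem exists_sqrt {H : Subgroup G} (hH : H ≤ W σ) {x : G} (hx : x ∈ H) :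
    ∃ y ∈ H, y * y = x := by
  obtain ⟨t, ht⟩ := T.odd_mem (hH hx)
  refine ⟨x ^ (t + 1), pow_mem hx _, ?_⟩
  rw [← pow_add, show t + 1 + (t + 1) = orderOf x + 1 by omega, pow_succ, pow_orderOf_eq_one, one_mul]

theorem card_W : Nat.card (W σ) = Nat.card (Wf σ τ) * Nat.card (Wf σ (τ * σ)) := by
  have hτ : Commute τ (σ ^ 2) := T.frame.J_comm T.frame.memτ
  have hf : ∀ v ∈ W σ, τ * v * τ⁻¹ ∈ W σ := fun v hv => T.conj_mem hτ hv
  let f : W σ →* W σ :=
    { toFun := fun v => ⟨(v : G) * (τ * v * τ⁻¹), mul_mem v.2 (hf _ v.2)⟩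
      map_one' := Subtype.ext (by simp)
      map_mul' := fun a b => Subtype.ext (by
        show (a : G) * b * (τ * (a * b) * τ⁻¹) = a * (τ * a * τ⁻¹) * (b * (τ * b * τ⁻¹))
        rw [show τ * ((a : G) * b) * τ⁻¹ = (τ * a * τ⁻¹) * (τ * b * τ⁻¹) by group,
          show (a : G) * b * (τ * a * τ⁻¹ * (τ * b * τ⁻¹)) = a * ((b : G) * (τ * a * τ⁻¹)) * (τ * b * τ⁻¹) by
            group, T.W_comm b.2 (hf _ a.2)]
        group) }
  have hττ : τ * τ = 1 := T.frame.sqτ
  have hker : f.ker = (Wf σ (τ * σ)).subgroupOf (W σ) := by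
    ext v
    rw [MonoidHom.mem_ker, mem_subgroupOf, T.mem_Wf']
    constructor
    · intro h
      exact ⟨v.2, eq_inv_of_mul_eq_one_right (congrArg Subtype.val h)⟩
    · intro h
      exact Subtype.ext (by show (v : G) * _ = 1; rw [h.2, mul_inv_cancel])
  have hrange : f.range = (Wf σ τ).subgroupOf (W σ) := by
    ext v
    rw [MonoidHom.mem_range, mem_subgroupOf, T.mem_Wf]
    constructor
    · rintro ⟨a, rfl⟩
      refine ⟨SetLike.coe_mem _, ?_⟩
      show τ * ((a : G) * (τ * a * τ⁻¹)) * τ⁻¹ = a * (τ * a * τ⁻¹)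
      rw [show τ * ((a : G) * (τ * a * τ⁻¹)) * τ⁻¹ = (τ * a * τ⁻¹) * ((τ * τ) * a * (τ * τ)⁻¹) by group,
        hττ, one_mul, inv_one, mul_one, T.W_comm a.2 (hf _ a.2)]
    · rintro ⟨-, h⟩
      obtain ⟨y, hy, hyv⟩ := T.exists_sqrt (H := Wf σ τ) inf_le_left (T.mem_Wf.2 ⟨v.2, h⟩)
      refine ⟨⟨y, hy.1⟩, Subtype.ext ?_⟩
      show y * (τ * y * τ⁻¹) = v
      rw [(T.mem_Wf.1 hy).2, hyv]
  have h := f.ker.card_mul_index
  rw [index_ker, hrange, hker,
    Nat.card_congr (subgroupOfEquivOfLe (show Wf σ (τ * σ) ≤ W σ from inf_le_left)).toEquiv,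
    Nat.card_congr (subgroupOfEquivOfLe (show Wf σ τ ≤ W σ from inf_le_left)).toEquiv] at h
  rw [← h, mul_comm]

theorem card_centralizer_z :
    Nat.card (Subgroup.centralizer ({σ ^ 2} : Set G)) = 8 * Nat.card (W σ) := by
  have h := regCard_mul (σ ^ 2) T.frame.hasNormalPComplement_J
  rw [T.frame.factorization_centralizer T.frame.sigma_h_ne, if_pos dvd_rfl] at h
  rw [← h, regCard, mul_comm]
  congr 1
  refine Nat.card_congr
    { toFun := fun y => ⟨(y.1 : G), T.mem_W.2 ⟨mem_centralizer_singleton_iff.1 y.1.2, by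
        rw [Subgroup.orderOf_coe]; exact y.2⟩⟩
      invFun := fun v => ⟨⟨v, mem_centralizer_singleton_iff.2 (T.commute_z v.2).eq⟩, by
        rw [← Subgroup.orderOf_coe]; exact (T.mem_W.1 v.2).2⟩
      left_inv := fun y => rfl
      right_inv := fun v => rfl }

/-- Elements of the centralizer of the central involution: a part in `P` and a part in `W`. -/
theorem exists_decomp {x : G} (hx : Commute x (σ ^ 2)) :
    ∃ p ∈ (P : Subgroup G), ∃ v ∈ W σ, x = p * v := by
  obtain ⟨π, hP, hfix, hπ⟩ := T.frame.exists_retraction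
  set x' : Subgroup.centralizer ({σ ^ 2} : Set G) := ⟨x, mem_centralizer_singleton_iff.2 hx.eq⟩
  set p' : Subgroup.centralizer ({σ ^ 2} : Set G) := ⟨π x', T.frame.le_centralizer_J (hP x')⟩
  have h1 : π (p'⁻¹ * x') = 1 := by rw [map_mul, map_inv, hfix p' (hP x'), inv_mul_cancel]
  have h2 := (hπ _).1 h1
  rw [← Subgroup.orderOf_coe] at h2
  exact ⟨π x', hP x', _, T.mem_W.2 ⟨mem_centralizer_singleton_iff.1 (p'⁻¹ * x').2, h2⟩,
    (mul_inv_cancel_left (π x') x).symm⟩

theorem decomp_unique {p q v v' : G} (hp : p ∈ (P : Subgroup G)) (hq : q ∈ (P : Subgroup G))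
    (hv : v ∈ W σ) (hv' : v' ∈ W σ) (h : p * v = q * v') : p = q ∧ v = v' := by
  have hP2 : q⁻¹ * p ∈ (P : Subgroup G) := mul_mem (inv_mem hq) hp
  have e : q⁻¹ * p = v' * v⁻¹ := by
    rw [eq_mul_inv_iff_mul_eq, mul_assoc, h, inv_mul_cancel_left]
  obtain ⟨i, hi⟩ := IsPGroup.iff_orderOf.1 P.2 ⟨_, hP2⟩
  rw [Subgroup.orderOf_mk] at hi
  have hodd := (T.mem_W.1 (mul_mem hv' (inv_mem hv))).2
  rw [← e, hi] at hodd
  rcases i with _ | i
  · have h1 : q⁻¹ * p = 1 := orderOf_eq_one_iff.1 (by simpa using hi)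
    have hpq : p = q := (inv_mul_eq_one.1 h1).symm
    subst hpq
    exact ⟨rfl, mul_left_cancel h⟩
  · exact absurd (dvd_pow_self 2 (Nat.succ_ne_zero i)) hodd

/-- The elements of `P` commuting with `τ`. -/
theorem mem_four {p : G} (hp : p ∈ (P : Subgroup G)) (hc : τ * p * τ⁻¹ = p) :
    p = 1 ∨ p = σ ^ 2 ∨ p = τ ∨ p = τ * σ ^ 2 := by
  have D := T.frame
  obtain ⟨l, e⟩ := D.cases p hp
  have hl : σ ^ l * σ ^ l = 1 := by
    have h1 : τ * σ ^ l * τ⁻¹ = σ ^ l := by
      rcases e with e | e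
      · rwa [e] at hc
      · rw [e, show τ * (τ * σ ^ l) * τ⁻¹ = τ * (τ * σ ^ l * τ⁻¹) by group] at hc
        exact mul_left_cancel hc
    rw [D.conjτ] at h1
    nth_rewrite 1 [← h1]
    exact inv_mul_cancel _
  have h2 : σ ^ l = 1 ∨ σ ^ l = σ ^ 2 := by
    by_cases h1 : σ ^ l = 1
    · exact Or.inl h1
    · exact Or.inr (D.eq_J h1 (by by_contra hd; exact (D.sq_ne_iff l).2 hd hl))
  rcases e with e | e <;> rcases h2 with h2 | h2 <;> rw [h2] at e
  · exact Or.inl e
  · exact Or.inr (Or.inl e)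
  · exact Or.inr (Or.inr (Or.inl (by rw [e, mul_one])))
  · exact Or.inr (Or.inr (Or.inr e))

theorem card_centralizer_pair :
    Nat.card (Subgroup.centralizer ({σ ^ 2, τ} : Set G)) = 4 * Nat.card (Wf σ τ) := by
  classical
  have D := T.frame
  have hzτ : Commute τ (σ ^ 2) := D.J_comm D.memτ
  let q : Bool × Bool → G := fun b => (if b.1 then τ else 1) * (if b.2 then σ ^ 2 else 1)
  have hqP : ∀ b, q b ∈ (P : Subgroup G) := fun b =>
    mul_mem (by split_ifs <;> simp [D.memτ]) (by split_ifs <;> simp [pow_mem D.memσ])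
  have hqc : ∀ b, Commute (q b) τ ∧ Commute (q b) (σ ^ 2) := fun b => by
    refine ⟨Commute.mul_left ?_ ?_, D.J_comm (hqP b)⟩
    · split_ifs <;> simp
    · split_ifs <;> simp [hzτ.symm]
  have hmem : ∀ {x : G}, x ∈ Subgroup.centralizer ({σ ^ 2, τ} : Set G) ↔
      Commute x (σ ^ 2) ∧ Commute x τ := fun {x} => by
    rw [mem_centralizer_iff]
    exact ⟨fun h => ⟨(h _ (Set.mem_insert _ _)).symm, (h _ (Set.mem_insert_of_mem _ rfl)).symm⟩,
      fun h y hy => by rcases hy with rfl | rfl; exacts [h.1.eq.symm, h.2.eq.symm]⟩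
  let f : (Bool × Bool) × Wf σ τ → Subgroup.centralizer ({σ ^ 2, τ} : Set G) := fun a =>
    ⟨q a.1 * a.2, hmem.2 ⟨(hqc a.1).2.mul_left (T.commute_z a.2.2.1),
      (hqc a.1).1.mul_left (mem_centralizer_singleton_iff.1 a.2.2.2)⟩⟩
  have hne : σ ^ 2 ≠ 1 := D.sigma_h_ne
  have hτ2 : τ ≠ σ ^ 2 := fun e => D.refl_not_rot 0 2 (by simpa using e)
  have hτ0 : τ ≠ 1 := fun e => D.refl_not_rot 0 0 (by simpa using e)
  have hτz : τ * σ ^ 2 ≠ 1 := fun e => D.refl_not_rot 2 0 (by simpa using e)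
  have hqinj : Function.Injective q := by
    rintro ⟨a, b⟩ ⟨a', b'⟩ e
    cases a <;> cases b <;> cases a' <;> cases b' <;>
      simp_all [q, eq_comm (a := (1 : G))]
  have hbij : Function.Bijective f := by
    refine ⟨fun a a' e => ?_, fun x => ?_⟩
    · obtain ⟨h1, h2⟩ := T.decomp_unique (hqP a.1) (hqP a'.1) a.2.2.1 a'.2.2.1 (congrArg Subtype.val e)
      exact Prod.ext (hqinj h1) (Subtype.ext h2)
    · obtain ⟨hxz, hxτ⟩ := hmem.1 x.2
      obtain ⟨p, hp, v, hv, e⟩ := T.exists_decomp hxz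
      have h1 : (τ * p * τ⁻¹) * (τ * v * τ⁻¹) = p * v := by
        rw [show τ * p * τ⁻¹ * (τ * v * τ⁻¹) = τ * (p * v) * τ⁻¹ by group, ← e]
        exact mul_inv_eq_iff_eq_mul.2 hxτ.eq.symm
      obtain ⟨h2, h3⟩ := T.decomp_unique (mul_mem (mul_mem D.memτ hp) (inv_mem D.memτ)) hp
        (T.conj_mem hzτ hv) hv h1
      obtain ⟨b, hb⟩ : ∃ b, q b = p := by
        rcases T.mem_four hp h2 with e' | e' | e' | e'
        · exact ⟨(false, false), by simp [q, e']⟩
        · exact ⟨(false, true), by simp [q, e']⟩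
        · exact ⟨(true, false), by simp [q, e']⟩
        · exact ⟨(true, true), by simp [q, e']⟩
      exact ⟨(b, ⟨v, T.mem_Wf.2 ⟨hv, h3⟩⟩), Subtype.ext (show q b * v = x by rw [hb, e])⟩
  rw [← Nat.card_eq_of_bijective f hbij, Nat.card_prod, Nat.card_prod, Nat.card_eq_fintype_card (α := Bool),
    Fintype.card_bool]

theorem centralizer_στ : Subgroup.centralizer ({σ ^ 2, σ * τ} : Set G) =
    Subgroup.centralizer ({σ ^ 2, τ * σ} : Set G) := by
  have D := T.frame
  have e : σ * τ = (τ * σ) * σ ^ 2 := by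
    have h1 : σ * τ = τ * σ⁻¹ := by
      rw [← D.rel, D.τ_inv, ← mul_assoc, ← mul_assoc, D.sqτ, one_mul]
    rw [h1, mul_assoc, ← pow_succ', inv_eq_of_mul_eq_one_right (b := σ ^ 3)]
    rw [← pow_succ', D.pow_eq_one.2 (dvd_refl 4)]
  ext x
  simp only [mem_centralizer_iff, Set.mem_insert_iff, Set.mem_singleton_iff, forall_eq_or_imp, forall_eq]
  refine and_congr_right fun hz => ⟨fun h => ?_, fun h => ?_⟩
  · have h1 : Commute ((σ * τ) * σ ^ 2) x := (show Commute (σ * τ) x from h).mul_left hz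
    rwa [e, mul_assoc, T.z_sq, mul_one] at h1
  · rw [e]
    exact ((show Commute (τ * σ) x from h).mul_left hz).eq

theorem card_centralizer_pair' :
    Nat.card (Subgroup.centralizer ({σ ^ 2, σ * τ} : Set G)) = 4 * Nat.card (Wf σ (τ * σ)) := by
  rw [T.centralizer_στ, T.swap.card_centralizer_pair]

theorem Wf_odd (t : G) : Odd (Nat.card (Wf σ t)) := by
  rw [← Nat.not_even_iff_odd, even_iff_two_dvd]
  intro h
  haveI : Fact (Nat.Prime 2) := ⟨Nat.prime_two⟩
  obtain ⟨y, hy⟩ := exists_prime_orderOf_dvd_card' 2 h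
  exact (T.mem_W.1 y.2.1).2 (by rw [Subgroup.orderOf_coe, hy])

end Setting

end CfsgLib.Char.SmallCent
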